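import Cfsg.Agent.M22Rec.Plane
import Cfsg.Agent.Components.Quasisimple

/-!
The conjugates of an involution whose centraliser is the double cover of the unitary group of dimension six over the
field with four elements: each sees its neighbours as the isotropic points.
-/

set_option autoImplicit false
set_option linter.unusedSectionVars false
set_option linter.style.haveILetI false

namespace Cfsg.Lib.M22Rec

open Subgroup Cfsg.Lib.Classical Cfsg.Lib.ThreeTr Cfsg.Lib.USixFusion Cfsg.Lib.DoubleCover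

universe u v w w'

variable {F : Type u} [Field F] [Finite F] {V : Type v} [AddCommGroup V] [Module F V] {Q : Type w'} [Group Q]
  {G : Type w} [Group G] [Finite G] {d : G}
  (U : Setup F V ↥(centralizer ({d} : Set G)) Q) (hz : (U.z : G) = d)

include hz

/-- A conjugate in the centraliser other than `d` maps to a transvection, and is the only one over it. -/
theorem conjugate_image (hperf : commutator ↥(centralizer ({d} : Set G)) = ⊤) (hQ : Nat.card Q = 9196830720)
    (hw : ∃ g : G, g * d * g⁻¹ ∈ centralizer ({d} : Set G) ∧ g * d * g⁻¹ ≠ d)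
    {y : ↥(centralizer ({d} : Set G))} (hy : IsConj d (y : G)) (hyd : (y : G) ≠ d) :
    (∃ (v : V) (hv : U.H.h v v = 0), v ≠ 0 ∧ U.π y = U.φ (U.six.tv hv)) ∧
      ∀ y' : ↥(centralizer ({d} : Set G)), IsConj d (y' : G) → U.π y' = U.π y → y' = y := by
  classical
  have hd2 : d * d = 1 := by rw [← hz, ← coe_mul, U.double.sq]; rfl
  have hd1 : d ≠ 1 := fun e => U.z_ne (Subtype.ext (hz.trans e))
  have hyy : y * y = 1 := by
    obtain ⟨g, hg⟩ := isConj_iff.1 hy
    refine Subtype.ext ?_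
    rw [coe_mul, ← hg, show g * d * g⁻¹ * (g * d * g⁻¹) = g * (d * d) * g⁻¹ by group, hd2]
    simp
  obtain ⟨t, ht⟩ := U.φsurj (U.π y)
  have ht3 : (t * t * t) * (t * t * t) = 1 := by
    have h' := U.ker_cube (g := t * t) (by rw [map_mul, ht, ← map_mul, hyy, map_one])
    rw [show (t * t) ^ 3 = (t * t * t) * (t * t * t) by simp [pow_succ, mul_assoc]] at h'
    exact h'
  have htφ : U.φ (t * t * t) = U.π y := by rw [map_mul, map_mul, ht, ← map_mul, hyy, map_one, one_mul]
  obtain ⟨K, hK⟩ := exists_coord_fixed U.six ht3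
  obtain ⟨f, hf⟩ := K.exists_el hK
  have hπy : U.π y = U.φ (K.el f) := by rw [← hf, htφ]
  set O : Set ↥(centralizer ({d} : Set G)) := {c | c ∈ U.grp K ∧ IsConj d (c : G)} with hOdef
  have hinv : ∀ x ∈ O, ∀ c : ↥(centralizer ({d} : Set G)),
      (∀ y ∈ U.grp K, c * y * c⁻¹ ∈ U.grp K) → c * x * c⁻¹ ∈ O := fun x hx c hc =>
    ⟨hc x hx.1, hx.2.trans (isConj_iff.2 ⟨(c : G), rfl⟩)⟩
  have h1O : (1 : ↥(centralizer ({d} : Set G))) ∉ O := fun h => hd1 (isConj_one_right.1 h.2.symm)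
  have hzO : U.z ∈ O := ⟨U.z_mem K, (show IsConj d (U.z : G) by rw [hz])⟩
  have hcount := U.ncard_set K hinv (fun x hx => hx.1) h1O hzO
  have himg : {x : G | x ∈ whole U K ∧ IsConj d x} = Subtype.val '' O := by
    ext x
    constructor
    · rintro ⟨⟨c, hc, rfl⟩, hx⟩
      exact ⟨c, ⟨hc, hx⟩, rfl⟩
    · rintro ⟨c, ⟨hc, hx⟩, rfl⟩
      exact ⟨⟨c, hc, rfl⟩, hx⟩
  have h22 := ncard_conjugates U hz K hperf hQ hw
  rw [himg, Set.ncard_image_of_injective _ Subtype.val_injective, hcount] at h22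
  have l1 := U.fib_le K O (rep 1)
  have l2 := U.fib_le K O (rep 2)
  have l3 := U.fib_le K O (rep 3)
  have hfib : U.fib K O (rep 1) = 1 ∧ U.fib K O (rep 2) = 0 ∧ U.fib K O (rep 3) = 0 := by omega
  have hyO : y ∈ O := ⟨(U.mem_grp K).2 ⟨f, hπy.symm⟩, hy⟩
  have hf1 : f.rank = 1 := by
    obtain ⟨r1, r2, r3, r0, hle⟩ := rank_sizes
    have := hle f
    rcases (show f.rank = 0 ∨ f.rank = 1 ∨ f.rank = 2 ∨ f.rank = 3 by omega) with r | r | r | r
    · exfalso
      have hf0 : f = Herm.zero := Finset.mem_singleton.1 (r0 ▸ Finset.mem_filter.2 ⟨Finset.mem_univ _, r⟩)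
      rw [hf0, K.el_zero, map_one] at hπy
      rcases U.double.ker y hπy with e | e
      · exact h1O (e ▸ hyO)
      · exact hyd (by rw [e, hz])
    · exact r
    · exact absurd hyO (U.fib_zero K (by rw [U.fib_rank K hinv, r, hfib.2.1]) hπy)
    · exact absurd hyO (U.fib_zero K (by rw [U.fib_rank K hinv, r, hfib.2.2]) hπy)
  refine ⟨?_, fun y' hy' e => ?_⟩
  · obtain ⟨k, rfl⟩ := rank_one_pc f hf1
    exact ⟨pv K (pt k), pv_iso K _, pv_pt_ne K k, by rw [hπy, tv_pv]; rfl⟩
  · rcases lift_cases U.double e with k | k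
    · exact k
    · exfalso
      have h1 := (U.fib_one K (O := O) (h := f) (by rw [U.fib_rank K hinv, hf1, hfib.1]) hπy).1 hyO
      rw [k] at hy'
      exact h1 ⟨mul_mem (U.z_mem K) hyO.1, hy'⟩

/-- The conjugates of `d` form a system. -/
theorem sys (hker : U.φ.ker = center U.H.SIsom) (hqs : Cfsg.IsQuasisimple ↥(centralizer ({d} : Set G)))
    (hQ : Nat.card Q = 9196830720)
    (hw : ∃ g : G, g * d * g⁻¹ ∈ centralizer ({d} : Set G) ∧ g * d * g⁻¹ ≠ d) :
    Sys U.six U.φ (conjugatesOf d) := by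
  classical
  have hd2 : d * d = 1 := by rw [← hz, ← coe_mul, U.double.sq]; rfl
  have hd1 : d ≠ 1 := fun e => U.z_ne (Subtype.ext (hz.trans e))
  have hperf : commutator ↥(centralizer ({d} : Set G)) = ⊤ := hqs.1.commutator_eq_top
  have himg := fun {y : ↥(centralizer ({d} : Set G))} (hy : IsConj d (y : G)) (hyd : (y : G) ≠ d) =>
    conjugate_image U hz hperf hQ hw hy hyd
  have hD : ∀ g : G, ∀ y ∈ conjugatesOf d, g * y * g⁻¹ ∈ conjugatesOf d := fun g y hy =>
    IsConj.trans hy (isConj_iff.2 ⟨g, rfl⟩)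
  have hmem : ∀ {a : G}, Commute d a ↔ a ∈ centralizer ({d} : Set G) := fun {a} =>
    ⟨fun h => mem_centralizer_singleton_iff.2 h.eq.symm, fun h => (mem_centralizer_singleton_iff.1 h).symm⟩
  let r : G → Q := fun a => if h : a ∈ centralizer ({d} : Set G) then U.π ⟨a, h⟩ else 1
  have hr : ∀ (a : ↥(centralizer ({d} : Set G))), r a = U.π a := fun a => by simp only [r, dif_pos a.2]
  -- the vectors
  have hvec : ∀ y : G, ∃ v : V, y ∈ perp (conjugatesOf d) d →
      ∃ hv : U.H.h v v = 0, v ≠ 0 ∧ r y = U.φ (U.six.tv hv) := by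
    intro y
    by_cases hy : y ∈ perp (conjugatesOf d) d
    · obtain ⟨⟨v, hv, hv0, e⟩, -⟩ := himg (y := ⟨y, hmem.1 hy.2.2⟩) hy.1 hy.2.1
      exact ⟨v, fun _ => ⟨hv, hv0, (hr ⟨y, hmem.1 hy.2.2⟩).trans e⟩⟩
    · exact ⟨0, fun h => absurd h hy⟩
  choose vec hvec using hvec
  obtain ⟨g₀, hg₀C, hg₀⟩ := hw
  set y₀ := g₀ * d * g₀⁻¹
  have hy₀ : y₀ ∈ perp (conjugatesOf d) d := ⟨isConj_iff.2 ⟨g₀, rfl⟩, hg₀, hmem.2 hg₀C⟩
  obtain ⟨hv₀, hv₀0, e₀⟩ := hvec y₀ hy₀
  have hclosed : ∀ (c : ↥(centralizer ({d} : Set G))), ∀ y ∈ perp (conjugatesOf d) d,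
      (c : G) * y * (c : G)⁻¹ ∈ perp (conjugatesOf d) d := by
    intro c y hy
    have hc : (c : G) * d * (c : G)⁻¹ = d := by rw [mem_centralizer_singleton_iff.1 c.2, mul_inv_cancel_right]
    refine ⟨hD _ y hy.1, fun e => hy.2.1 ?_, ?_⟩
    · exact mul_left_cancel (mul_right_cancel (e.trans hc.symm))
    · have := hy.2.2.map (MulAut.conj (c : G))
      simpa [hc] using this
  have hcover : ∀ v, v ≠ 0 → U.H.h v v = 0 →
      ∃ y ∈ perp (conjugatesOf d) d, ∃ a : F, a ≠ 0 ∧ v = a • vec y := by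
    intro v hv0 hv
    obtain ⟨g, hg⟩ := exists_conj U.six.cls (U.six.tv_mem hv₀ hv₀0) (U.six.tv_mem hv hv0)
    obtain ⟨c, hc⟩ := U.double.surj (U.φ g)
    have hy := hclosed c y₀ hy₀
    obtain ⟨hv', hv'0, e'⟩ := hvec _ hy
    refine ⟨_, hy, (U.six.tv_image_eq_iff U.φ hker hv hv' hv0).1 ?_⟩
    rw [← e', ← hg, map_mul, map_mul, map_inv, ← e₀, ← hc]
    show U.π c * r y₀ * (U.π c)⁻¹ = r _
    rw [show r y₀ = U.π ⟨y₀, hg₀C⟩ from hr ⟨y₀, hg₀C⟩, ← map_inv, ← map_mul, ← map_mul, ← hr]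
    rfl
  set N : Subgroup ↥(centralizer ({d} : Set G)) := closure {c | (c : G) ∈ perp (conjugatesOf d) d} with hN
  haveI : N.Normal := ⟨fun n hn c => by
    induction hn using closure_induction with
    | mem x hx => exact subset_closure (hclosed c x hx)
    | one => simp
    | mul a b _ _ ha hb => rw [show c * (a * b) * c⁻¹ = c * a * c⁻¹ * (c * b * c⁻¹) by group]; exact mul_mem ha hb
    | inv a _ ha => rw [show c * a⁻¹ * c⁻¹ = (c * a * c⁻¹)⁻¹ by group]; exact inv_mem ha⟩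
  have hNtop : N = ⊤ := by
    rcases Cfsg.Lib.Components.qs_subnormal_eq_top_or_le_center hqs (Subgroup.Normal.isSubnormal (H := N) inferInstance) with
      h | h
    · exact h
    · exfalso
      have hc : (⟨y₀, hg₀C⟩ : ↥(centralizer ({d} : Set G))) ∈ center _ := h (subset_closure hy₀)
      haveI := U.six.fd
      obtain ⟨K, hK⟩ := exists_coord_through U.six {vec y₀} (by rintro a rfl b rfl; exact hv₀)
      obtain ⟨k, hk⟩ : ∃ k, U.H.h (vec y₀) (K.frame.f k) ≠ 0 := by
        by_contra hne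
        push Not at hne
        refine hv₀0 (K.frame.ext K.six (fun k => ?_) fun k => by rw [hne, U.H.zero_left])
        rw [K.frame.W_iso (hK rfl) k, U.H.zero_left]
      have hw : U.H.h (K.frame.f k) (K.frame.f k) = 0 := K.frame.ff k k
      obtain ⟨c, hcπ⟩ := U.double.surj (U.φ (U.six.tv hw))
      have := congrArg U.π (mem_center_iff.1 hc c)
      rw [map_mul, map_mul, hcπ, ← hr ⟨y₀, hg₀C⟩, e₀] at this
      exact hk ((U.six.tv_image_commute_iff U.φ hker hv₀ hw hv₀0).1 this.symm)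
  refine ⟨hker, hD, fun a ha b hb => isConj_iff.1 (IsConj.trans (IsConj.symm ha) hb), ?_, ?_⟩
  · rintro y hy
    obtain ⟨g, rfl⟩ := isConj_iff.1 hy
    refine ⟨?_, fun e => hd1 ?_⟩
    · rw [show g * d * g⁻¹ * (g * d * g⁻¹) = g * (d * d) * g⁻¹ by group, hd2]; simp
    · rw [show d = g⁻¹ * (g * d * g⁻¹) * g by group, e]; simp
  let W : View U.six U.φ (conjugatesOf d) d :=
    { r := r
      vec := vec
      r_mul := fun a b ha hb => by
        simp only [r, dif_pos (hmem.1 ha), dif_pos (hmem.1 hb), dif_pos (mul_mem (hmem.1 ha) (hmem.1 hb)), ← map_mul]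
        rfl
      ker := fun a ha h => by
        rw [hr ⟨a, hmem.1 ha⟩] at h
        rcases U.double.ker _ h with e | e
        · exact Or.inl (congrArg Subtype.val e)
        · exact Or.inr ((congrArg Subtype.val e).trans hz)
      r_self := by
        have := hr U.z
        rw [hz, U.z_ker] at this
        exact this
      lift_sq := fun a ha h => by
        rw [hr ⟨a, hmem.1 ha⟩] at h
        exact congrArg Subtype.val (U.lift_sq h)
      vec_ne := fun y hy => (hvec y hy).2.1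
      vec_iso := fun y hy => (hvec y hy).1
      img := fun y hy => (hvec y hy).2.2
      inj := fun y hy z hz' e => by
        rw [hr ⟨y, hmem.1 hy.2.2⟩, hr ⟨z, hmem.1 hz'.2.2⟩] at e
        exact congrArg Subtype.val ((himg (y := ⟨z, hmem.1 hz'.2.2⟩) hz'.1 hz'.2.1).2 ⟨y, hmem.1 hy.2.2⟩ hy.1 e)
      cover := hcover
      gen := fun g hg => by
        have h1 : (⟨g, hmem.1 hg⟩ : ↥(centralizer ({d} : Set G))) ∈ N := hNtop ▸ Subgroup.mem_top _
        have h2 := Subgroup.mem_map_of_mem (centralizer ({d} : Set G)).subtype h1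
        rw [hN, MonoidHom.map_closure] at h2
        refine closure_mono ?_ h2
        rintro _ ⟨c, hc, rfl⟩
        exact hc }
  intro x hx
  obtain ⟨g, rfl⟩ := isConj_iff.1 hx
  exact ⟨View.mapCore hD W g⟩

end Cfsg.Lib.M22Rec
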