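import Cfsg.Agent.M22Rec.Inner
import Cfsg.Agent.M22Rec.Setup
import Cfsg.Agent.ThreeTransposition.RelationTypes
import Cfsg.Agent.ThreeTransposition.UnitaryRadical.Standard

/-!
An involution with the double cover of the unitary group of dimension six as centraliser and a further conjugate in
it: its class is a class of 3-transpositions of type M(22) on which the group acts primitively.
-/

set_option autoImplicit false
set_option linter.unusedSectionVars false
set_option linter.style.haveILetI false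

namespace Cfsg.Lib.M22Rec

open Subgroup Cfsg.Lib.Classical Cfsg.Lib.ThreeTr Cfsg.Lib.USixFusion

universe u v w w'

/-- A point outside the 126. -/
def outP : Pt := ⟨.o, .o, .o, .o, .o, .i⟩

/-- Another one, orthogonal to it. -/
def outQ : Pt := ⟨.i, .i, .o, .o, .o, .o⟩

theorem out_ok : Pt.form outP outP = .o ∧ Pt.form outQ outQ = .o ∧ Pt.form outP outQ = .o ∧ outP ≠ Pt.zero ∧
    outQ ≠ Pt.zero ∧ Pt.same outP outQ = false ∧
    ∀ i : Fin 126, Pt.same (xPt i) outP = false ∧ Pt.same (xPt i) outQ = false := by decide +kernel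

variable {G : Type u} [Group G] [Finite G] {F : Type v} [Field F] [Finite F] {V : Type w} [AddCommGroup V]
  [Module F V] {Q : Type w'} [Group Q] {H : HermSpace F V} {φ : H.SIsom →* Q} {D : Set G} {hS : IsSixSpace H}

namespace Sys

variable (hD : Sys hS φ D)
include hD

theorem isClass {d : G} (hd : d ∈ D) (hDd : D = conjugatesOf d) : Cfsg.IsThreeTranspositionClass D := by
  refine ⟨⟨fun y hy => orderOf_eq_prime (by rw [pow_two, hD.sq hy]) (hD.inv y hy).2, fun a ha b hb => ?_⟩,
    ⟨d, hd, hDd⟩, hD.closure_top hd⟩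
  by_cases hc : Commute a b
  · exact Or.inl (by rw [hc.mul_pow, pow_two, pow_two, hD.sq ha, hD.sq hb, one_mul])
  · exact Or.inr (hD.three ha hb hc)

/-- The centraliser moves one neighbour to any other. -/
theorem perp_transitive {a y y' : G} (ha : a ∈ D) (hy : y ∈ perp D a) (hy' : y' ∈ perp D a) :
    ∃ g, Commute a g ∧ g * y * g⁻¹ = y' := by
  have step : ∀ y y' : G, y ∈ perp D a → y' ∈ perp D a → ¬ Commute y y' → ∃ g, Commute a g ∧ g * y * g⁻¹ = y' :=
    fun y y' hy hy' hn => ⟨y * y', hy.2.2.mul_right hy'.2.2, by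
      rw [mul_inv_rev, hD.inv_eq hy.1, hD.inv_eq hy'.1]
      have h := braid (hD.sq hy.1) (hD.sq hy'.1) (hD.three hy.1 hy'.1 hn)
      calc y * y' * y * (y' * y) = y * (y' * y * y') * y := by group
        _ = y * (y * y' * y) * y := by rw [h]
        _ = y * y * y' * (y * y) := by group
        _ = y' := by rw [hD.sq hy.1, one_mul, mul_one]⟩
  by_cases hc : Commute y y'
  swap
  · exact step y y' hy hy' hc
  obtain ⟨W⟩ := hD.view a ha
  obtain ⟨K, hK⟩ := W.exists_plane hD (s := {y, y'}) (fun z hz => by rcases hz with rfl | rfl <;> assumption)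
    (fun z hz z' hz' => by
      rcases hz with rfl | rfl <;> rcases hz' with rfl | rfl <;>
        first | exact Commute.refl _ | exact hc | exact hc.symm)
  obtain ⟨i, hi⟩ := hK y (Or.inl rfl)
  obtain ⟨j, hj⟩ := hK y' (Or.inr rfl)
  obtain ⟨q, hqi, hqj⟩ := dot_two i j
  set v := val K.w q.1 • K.frame.f 0 + val K.w q.2.1 • K.frame.f 1 + val K.w q.2.2 • K.frame.f 2 with hv
  have hvv : H.h v v = 0 := by
    simp [hv, H.add_left, H.add_right, H.smul_left, H.smul_right, K.frame.ff]
  have hpv : ∀ k, H.h (pv K (pt k)) v = val K.w ((((pt k).1.mul q.1.conj).add ((pt k).2.1.mul q.2.1.conj)).add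
      ((pt k).2.2.mul q.2.2.conj)) := fun k => by
    simp [hv, pv, H.add_left, H.add_right, H.smul_left, H.smul_right, K.frame.ef, K.prim.val_add K.six,
      K.prim.val_mul K.six, K.prim.val_conj K.six]
  have hv0 : v ≠ 0 := fun e => hqi (K.prim.val_inj K.six (b := .o) (by rw [← hpv, e, H.zero_right]; rfl))
  obtain ⟨c, hcp, α, hα, ec⟩ := W.cover v hv0 hvv
  have hno : ∀ y k, y ∈ perp D a → y = W.mem hD K k →
      (((pt k).1.mul q.1.conj).add ((pt k).2.1.mul q.2.1.conj)).add ((pt k).2.2.mul q.2.2.conj) ≠ .o →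
      ¬ Commute y c := fun y k hy ey hne hcc => by
    refine hne (K.prim.val_inj K.six (b := .o) ?_)
    have h0 := (W.comm hD.ker hy hcp (hD.sq hy.1) (hD.sq hcp.1)).1 hcc
    have hr := W.r_mem hD K k
    rw [← ey, W.img _ hy] at hr
    obtain ⟨s, hs, es⟩ := (hS.tv_image_eq_iff φ hD.ker (pv_iso K (pt k)) (W.vec_iso _ hy) (pv_pt_ne K k)).1
      ((congrArg φ (tv_pv K (pt k))).trans hr.symm)
    rw [← hpv, ec, es, H.smul_left, H.smul_right, h0, mul_zero, mul_zero]
    rfl
  obtain ⟨g, hg, e1⟩ := step y c hy hcp (hno y i hy hi hqi)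
  obtain ⟨h, hh, e2⟩ := step c y' hcp hy' fun h => hno y' j hy' hj hqj h.symm
  exact ⟨h * g, hh.mul_right hg, by rw [← e2, ← e1]; group⟩

theorem primitive {d : G} (hd : d ∈ D) (hne : ∃ y, y ∈ perp D d) : Cfsg.IsPrimitiveUnderConj D := by
  obtain ⟨y₀, hy₀⟩ := hne
  refine ⟨hD.trans, ⟨d, hd, y₀, hy₀.1, hy₀.2.1.symm⟩, fun B hB hblock => ?_⟩
  refine (Set.subsingleton_or_nontrivial B).imp_right fun hnt => ?_
  have hfix : ∀ a ∈ B, ∀ g, Commute a g → ∀ z ∈ B, g * z * g⁻¹ ∈ B := by
    intro a haB g hg z hz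
    rcases hblock g with h | h
    · rw [← h]; exact ⟨z, hz, rfl⟩
    · exact absurd haB (Set.disjoint_left.1 h ⟨a, haB, show g * a * g⁻¹ = a by rw [← hg.eq, mul_inv_cancel_right]⟩)
  have hgrow : ∀ a ∈ B, ∀ y ∈ B, y ∈ perp D a → perp D a ⊆ B := by
    intro a haB y hyB hy z hz
    obtain ⟨g, hg, e⟩ := hD.perp_transitive (hB haB) hy hz
    exact e ▸ hfix a haB g hg y hyB
  obtain ⟨a, haB, y, hyB, hy⟩ : ∃ a ∈ B, ∃ y ∈ B, y ∈ perp D a := by
    obtain ⟨a, haB, b, hbB, hab⟩ := hnt
    by_cases hc : Commute a b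
    · exact ⟨a, haB, b, hbB, hB hbB, hab.symm, hc⟩
    have ha := hB haB
    have hb := hB hbB
    obtain ⟨x, hx⟩ := hD.exists_common_member ha hb hc
    obtain ⟨W⟩ := hD.view a ha
    obtain ⟨K, m, -, hm, -, hsurj⟩ := hD.exists_common ha hb hc hx W
    obtain ⟨hpp, hqq, hpq, hp0, hq0, hpne, hout⟩ := out_ok
    obtain ⟨p, hp⟩ := W.exists_at hD K outP hp0 hpp
    obtain ⟨q, hq⟩ := W.exists_at hD K outQ hq0 hqq
    have hpq' : Commute p q := (W.at_comm hD K hp hq).2 hpq
    have hne : p ≠ q := fun e => by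
      subst e
      rw [W.at_same K hp hq] at hpne
      exact Bool.false_ne_true hpne.symm
    have hnb : ∀ p P, W.At K p P → (∀ i : Fin 126, Pt.same (xPt i) P = false) → ¬ Commute p b := by
      intro p P hp hP hcc
      obtain ⟨i, rfl⟩ := hsurj p ⟨hp.1, hp.1.1, fun e => hc (e ▸ hp.1.2.2), hcc.symm⟩
      have := hP i
      rw [W.at_same K (hm i).2 hp] at this
      exact Bool.false_ne_true this.symm
    have hpb := hnb p _ hp fun i => (hout i).1
    have hqb := hnb q _ hq fun i => (hout i).2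
    have hkey : ∀ p, p ∈ perp D a → ¬ Commute p b → b * p * b⁻¹ ∈ B := fun p hp hn => by
      have h := hfix a haB p hp.2.2 b hbB
      rw [hD.inv_eq hp.1, braid (hD.sq hb) (hD.sq hp.1) (hD.three hb hp.1 fun h => hn h.symm)] at h
      rw [hD.inv_eq hb]
      exact h
    refine ⟨_, hkey p hp.1 hpb, _, hkey q hq.1 hqb, hD.conj b q hq.1.1, fun e => hne (mul_left_cancel
      (mul_right_cancel e)).symm, ?_⟩
    simpa using hpq'.map (MulAut.conj b)
  have hall : ∀ z, Linked D a z → z ∈ B := by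
    intro z hz
    rcases hz with rfl | h | ⟨w, hw, h⟩
    · exact haB
    · exact hgrow a haB y hyB hy h
    · exact hgrow w (hgrow a haB y hyB hy hw) a haB (perp_symm hw (hB haB)) h
  exact Set.Subset.antisymm hB fun z hz => hall z (hD.all_linked (hB haB) hz)

theorem closure_perp {d : G} (hd : d ∈ D) : closure (perp D d) = centralizer ({d} : Set G) := by
  refine le_antisymm ((closure_le _).2 fun y hy => mem_centralizer_singleton_iff.2 hy.2.2.eq.symm) fun g hg => ?_
  obtain ⟨W⟩ := hD.view d hd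
  exact W.gen g (mem_centralizer_singleton_iff.1 hg).symm

theorem center_bot {d : G} (hd : d ∈ D) (hC : ∀ z ∈ center ↥(centralizer ({d} : Set G)), (z : G) = 1 ∨ (z : G) = d)
    (hne : ∃ y, y ∈ perp D d) : center G = ⊥ := by
  refine eq_bot_iff.2 fun z hz => ?_
  have hzd : z ∈ centralizer ({d} : Set G) := mem_centralizer_singleton_iff.2 (mem_center_iff.1 hz d).symm
  rcases hC ⟨z, hzd⟩ (mem_center_iff.2 fun y => Subtype.ext (mem_center_iff.1 hz y)) with h | h
  · exact h
  · exfalso
    obtain ⟨y, hy⟩ := hne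
    obtain ⟨g, hg⟩ := hD.trans d hd y hy.1
    simp only at h
    subst h
    rw [mem_center_iff.1 hz g, mul_inv_cancel_right] at hg
    exact hy.2.1 hg.symm

end Sys

open Cfsg in
/-- The recognition. -/
theorem recognition {G : Type u} [Group G] [Finite G] (d : G) (hd : orderOf d = 2)
    (hq : Cfsg.IsQuasisimple ↥(centralizer ({d} : Set G)))
    [hzn : ((zpowers d).subgroupOf (centralizer ({d} : Set G))).Normal] (K : Type) [Field K] [Fintype K]
    (hK : Fintype.card K = 4)
    (e : ↥(centralizer ({d} : Set G)) ⧸ (zpowers d).subgroupOf (centralizer ({d} : Set G)) ≃* Cfsg.PSU 6 K 2)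
    (hnwc : ∃ g : G, g * d * g⁻¹ ∈ centralizer ({d} : Set G) ∧ g * d * g⁻¹ ≠ d) :
    Cfsg.IsThreeTranspositionClass (conjugatesOf d) ∧ Cfsg.IsPrimitiveUnderConj (conjugatesOf d) ∧
      Cfsg.IsOfTypeM22 G (conjugatesOf d) := by
  have hd2 : d * d = 1 := by rw [← pow_two, ← hd]; exact pow_orderOf_eq_one d
  have hF' : Fintype.card K = 2 ^ 2 := by rw [hK]; norm_num
  have hS : IsSixSpace (stdHerm 6 hF') := ⟨(Cfsg.Lib.TTUnitary.four_std hK 6 hF').two,
    (Cfsg.Lib.TTUnitary.four_std hK 6 hF').norm, Module.finrank_fin_fun K⟩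
  set φ : (stdHerm 6 hF').SIsom →* _ := e.symm.toMonoidHom.comp
    ((QuotientGroup.mk' (center (Cfsg.SU 6 K 2))).comp (suEquiv 6 hF').toMonoidHom) with hφ
  have hker : φ.ker = center (stdHerm 6 hF').SIsom := by
    ext t
    rw [hφ, MonoidHom.mem_ker, MonoidHom.comp_apply, MonoidHom.comp_apply]
    simp only [MulEquiv.coe_toMonoidHom, map_eq_one_iff _ e.symm.injective, QuotientGroup.mk'_apply,
      QuotientGroup.eq_one_iff, mem_center_iff]
    exact ⟨fun ht u => (suEquiv 6 hF').injective (by rw [map_mul, map_mul]; exact ht _),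
      fun ht u => by
        obtain ⟨u, rfl⟩ := (suEquiv 6 hF').surjective u
        rw [← map_mul, ← map_mul, ht u]⟩
  have hdm : d ∈ centralizer ({d} : Set G) := mem_centralizer_singleton_iff.2 rfl
  have hD : Cfsg.Lib.DoubleCover.IsDouble
      (QuotientGroup.mk' ((zpowers d).subgroupOf (centralizer ({d} : Set G)))) ⟨d, hdm⟩ := by
    refine ⟨QuotientGroup.mk'_surjective _, Subtype.ext hd2,
      fun x => Subtype.ext (mem_centralizer_singleton_iff.1 x.2).symm, fun x hx => ?_⟩
    rw [QuotientGroup.mk'_apply, QuotientGroup.eq_one_iff, mem_subgroupOf] at hx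
    obtain ⟨n, hn⟩ := mem_zpowers_iff.1 hx
    rcases Int.even_or_odd n with ⟨k, rfl⟩ | ⟨k, rfl⟩
    · rw [zpow_add, ← (Commute.refl d).mul_zpow, hd2, one_zpow] at hn
      exact Or.inl (Subtype.ext hn.symm)
    · rw [zpow_add, two_mul, zpow_add, ← (Commute.refl d).mul_zpow, hd2, one_zpow, one_mul, zpow_one] at hn
      exact Or.inr (Subtype.ext hn.symm)
  haveI : Finite K := Finite.of_fintype K
  obtain ⟨hcard, -, hbot⟩ := psu_six_facts hK
  let U : Setup K (Fin 6 → K) ↥(centralizer ({d} : Set G))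
      (↥(centralizer ({d} : Set G)) ⧸ (zpowers d).subgroupOf (centralizer ({d} : Set G))) :=
    { H := stdHerm 6 hF'
      six := hS
      φ := φ
      φsurj := e.symm.surjective.comp ((QuotientGroup.mk'_surjective _).comp (suEquiv 6 hF').surjective)
      φker := hker.le
      π := QuotientGroup.mk' _
      z := ⟨d, hdm⟩
      double := hD
      z_ne := fun h => by
        have h' : d = 1 := congrArg Subtype.val h
        rw [h', orderOf_one] at hd
        omega
      z_ker := by
        rw [QuotientGroup.mk'_apply, QuotientGroup.eq_one_iff, mem_subgroupOf]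
        exact mem_zpowers d }
  have hQ : Nat.card (↥(centralizer ({d} : Set G)) ⧸
      (zpowers d).subgroupOf (centralizer ({d} : Set G))) = 9196830720 :=
    (Nat.card_congr e.toEquiv).trans hcard
  have S : Sys U.six U.φ (conjugatesOf d) := sys U rfl hker hq hQ hnwc
  have hdD : d ∈ conjugatesOf d := mem_conjugatesOf_self
  obtain ⟨g₀, hg₀C, hg₀⟩ := hnwc
  have hne : ∃ y, y ∈ perp (conjugatesOf d) d :=
    ⟨g₀ * d * g₀⁻¹, isConj_iff.2 ⟨g₀, rfl⟩, hg₀, (mem_centralizer_singleton_iff.1 hg₀C).symm⟩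
  set N := (zpowers d).subgroupOf (centralizer ({d} : Set G))
  have hCeq : center ↥(centralizer ({d} : Set G)) = N := by
    refine le_antisymm (fun z hz => ?_) fun z hz => ?_
    · have h1 : e (QuotientGroup.mk z) ∈ center (Cfsg.PSU 6 K 2) := mem_center_iff.2 fun y => by
        obtain ⟨y, rfl⟩ := e.surjective y
        induction y using QuotientGroup.induction_on with
        | H y => rw [← map_mul, ← map_mul, ← QuotientGroup.mk_mul, ← QuotientGroup.mk_mul, mem_center_iff.1 hz y]
      rw [hbot, mem_bot, map_eq_one_iff _ e.injective, QuotientGroup.eq_one_iff] at h1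
      exact h1
    · rcases hD.ker z (by rw [QuotientGroup.mk'_apply, (QuotientGroup.eq_one_iff z).2 hz]) with h | h
      · rw [h]; exact one_mem _
      · rw [h]
        exact mem_center_iff.2 fun y => Subtype.ext (mem_centralizer_singleton_iff.1 y.2)
  refine ⟨S.isClass hdD rfl, S.primitive hdD hne, ?_, d, hdD, ?_⟩
  · refine S.center_bot hdD (fun z hz => ?_) hne
    rw [hCeq] at hz
    rcases hD.ker z (by rw [QuotientGroup.mk'_apply, (QuotientGroup.eq_one_iff z).2 hz]) with h | h
    · exact Or.inl (congrArg Subtype.val h)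
    · exact Or.inr (congrArg Subtype.val h)
  obtain ⟨y, hy⟩ := hne
  obtain ⟨c, hc, hdc, -⟩ := S.exists_apart hdD hy
  refine ⟨c, hc, hdc, ⟨K, inferInstance, inferInstance, hK, ?_⟩, 1, one_ne_zero, S.inner_iso hdD hc hdc⟩
  have hH : closure {y : G | y ∈ conjugatesOf d ∧ y ≠ d ∧ Commute d y} = centralizer ({d} : Set G) :=
    S.closure_perp hdD
  have gen : ∀ L : Subgroup G, L = centralizer ({d} : Set G) →
      Nonempty (↥L ⧸ center ↥L ≃* Cfsg.PSU 6 K 2) := by
    rintro L rfl
    exact ⟨(QuotientGroup.quotientMulEquivOfEq hCeq).trans e⟩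
  exact gen _ hH

end Cfsg.Lib.M22Rec
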