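import Cfsg.Agent.M22Rec.Outside

/-!
Every involution of the centraliser of a member is a product of at most three commuting members, so all members form one
component: the class consists of 3-transpositions.
-/

set_option autoImplicit false
set_option linter.unusedSectionVars false
set_option linter.style.haveILetI false

namespace Cfsg.Lib.M22Rec

open Subgroup Cfsg.Lib.Classical Cfsg.Lib.ThreeTr Cfsg.Lib.USixFusion

universe u v w w'

theorem dot_two : ∀ i j : Fin 21, ∃ q : C3,
    (((pt i).1.mul q.1.conj).add ((pt i).2.1.mul q.2.1.conj)).add ((pt i).2.2.mul q.2.2.conj) ≠ .o ∧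
    (((pt j).1.mul q.1.conj).add ((pt j).2.1.mul q.2.1.conj)).add ((pt j).2.2.mul q.2.2.conj) ≠ .o := by
  decide +kernel

variable {G : Type u} [Group G] [Finite G] {F : Type v} [Field F] [Finite F] {V : Type w} [AddCommGroup V]
  [Module F V] {Q : Type w'} [Group Q] {H : HermSpace F V} {φ : H.SIsom →* Q} {D : Set G} {hS : IsSixSpace H}

/-- The cube of a scalar isometry is trivial. -/
theorem center_cube (hS : IsSixSpace H) {g : H.SIsom} (hg : g ∈ center H.SIsom) : g ^ 3 = 1 := by
  obtain ⟨l, hl0, hl⟩ := hS.center_scalar hg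
  obtain ⟨K, -⟩ := exists_coord_through hS (∅ : Set V) (by simp)
  obtain ⟨q, rfl⟩ := K.prim.val_surj K.six l
  have h3 : ∀ q : Q4, q ≠ .o → q.mul (q.mul q) = .i := by decide
  refine H.sisom_ext fun z => ?_
  rw [pow_succ, pow_two, H.smul_mul_apply, H.smul_mul_apply, hl, hl, hl, smul_smul, smul_smul,
    ← K.prim.val_mul K.six, ← K.prim.val_mul K.six]
  have hq : (q.mul q).mul q = .i := by
    have hcomm : ∀ a b : Q4, a.mul b = b.mul a := by decide
    rw [hcomm, h3 q fun e => hl0 (by rw [e]; rfl)]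
  rw [hq]
  show (1 : F) • z = _
  rw [one_smul]
  rfl

namespace View

variable {x : G} (W : View hS φ D x) (hD : Sys hS φ D)
include hD

/-- An involution of the centraliser maps to a code. -/
theorem exists_code {w : G} (hw : Commute x w) (hw2 : w * w = 1) :
    ∃ (K : Coord H) (f : Herm), W.r w = φ (K.el f) := by
  obtain ⟨t, ht⟩ : W.r w ∈ φ.range := by
    have hmem := W.gen w hw
    have : Commute x w ∧ W.r w ∈ φ.range := by
      clear hw hw2
      induction hmem using closure_induction with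
      | mem y hy => exact ⟨hy.2.2, _, (W.img y hy).symm⟩
      | one => exact ⟨Commute.one_right x, by rw [W.r_one]; exact one_mem _⟩
      | mul a b _ _ ha hb => exact ⟨ha.1.mul_right hb.1, by rw [W.r_mul a b ha.1 hb.1]; exact mul_mem ha.2 hb.2⟩
      | inv a _ ha =>
        refine ⟨ha.1.inv_right, ?_⟩
        have h1 := W.r_mul a a⁻¹ ha.1 ha.1.inv_right
        rw [mul_inv_cancel, W.r_one] at h1
        rw [eq_inv_of_mul_eq_one_right h1.symm]
        exact inv_mem ha.2
    exact this.2
  have h2 : φ t * φ t = 1 := by rw [ht, ← W.r_mul w w hw hw, hw2, W.r_one]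
  have h6 : (t * t * t) * (t * t * t) = 1 := by
    have h' := center_cube hS (g := t * t) (hD.ker ▸ (show φ (t * t) = 1 by rw [map_mul, h2]))
    rw [show (t * t) ^ 3 = (t * t * t) * (t * t * t) by simp [pow_succ, mul_assoc]] at h'
    exact h'
  obtain ⟨K, hK⟩ := exists_coord_fixed hS h6
  obtain ⟨f, hf⟩ := K.exists_el hK
  exact ⟨K, f, by rw [← hf, map_mul, map_mul, h2, one_mul, ht]⟩

end View

namespace Sys

variable (hD : Sys hS φ D)
include hD

theorem six_of_equal {x : G} (W : View hS φ D x) (K : Coord H) {a b c a' b' c' : Fin 21}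
    (e : ([a, b, c].map (W.mem hD K)).prod = ([a', b', c'].map (W.mem hD K)).prod) :
    ([a, b, c, a', b', c'].map (W.mem hD K)).prod = 1 := by
  have hsq := fun k => hD.sq (W.mem_perp hD K k).1
  have hc := W.mem_comm hD K
  simp only [List.map_cons, List.map_nil, List.prod_cons, List.prod_nil, mul_one] at e ⊢
  rw [← e, ← mul_assoc (W.mem hD K b), ← mul_assoc (W.mem hD K a), ← pow_two, (hc a b |>.mul_right (hc a c)).mul_pow,
    (hc b c).mul_pow, pow_two, pow_two, pow_two, hsq, hsq, hsq, one_mul, one_mul]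

theorem cent_invol {x w g : G} (hx : x ∈ D) (hw : Commute x w) (hw2 : w * w = 1) (hw1 : w ≠ 1)
    (hg : Commute g w) : Linked D x (g * x * g⁻¹) := by
  classical
  have move : ∀ p, Linked D x p → Linked D p (g * p * g⁻¹) → Linked D x (g * x * g⁻¹) := fun p h1 h2 =>
    hD.linked_trans hx (hD.linked_trans hx h1 h2) (hD.linked_conj g (linked_symm hx h1))
  have hmemb : ∀ p ∈ D, Linked D x p → Commute g p → Linked D x (g * x * g⁻¹) := fun p _ h1 h2 =>
    move p h1 (Or.inl (by rw [h2.eq, mul_inv_cancel_right]))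
  obtain ⟨W⟩ := hD.view x hx
  obtain ⟨K, f, hf⟩ := W.exists_code hD hw hw2
  have key : ∀ l : List (Fin 21), sumH l = f →
      w = (l.map (W.mem hD K)).prod ∨ w = x * (l.map (W.mem hD K)).prod := by
    intro l hl
    set P := (l.map (W.mem hD K)).prod
    have hP : Commute x P := Commute.list_prod_right _ _ fun a ha => by
      obtain ⟨i, -, rfl⟩ := List.mem_map.1 ha
      exact (W.mem_perp hD K i).2.2
    have hr : W.r (w * P) = 1 := by
      rw [W.r_mul w P hw hP, W.r_list hD K l, hl, hf, ← map_mul, K.el_sq, map_one]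
    rcases W.ker _ (hw.mul_right hP) hr with e | e
    · refine Or.inl ?_
      rw [eq_inv_of_mul_eq_one_right e, inv_eq_of_mul_eq_one_right hw2]
    · refine Or.inr ?_
      have h1 : P = w * x := by rw [← e, ← mul_assoc, hw2, one_mul]
      rw [h1, ← hw.eq, ← mul_assoc, hD.sq hx, one_mul]
  have hp := W.mem_perp hD K
  rcases rank_cases f with h | h | h | h
  · rcases key [] (by rw [h]; rfl) with e | e
    · exact absurd e hw1
    · rw [List.map_nil, List.prod_nil, mul_one] at e
      subst e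
      exact hmemb _ hx (Or.inl rfl) hg
  · obtain ⟨a, rfl⟩ := rank_one_pc f h
    rcases key [a] (by simp [sumH, herm_facts.2]) with e | e <;>
      simp only [List.map_cons, List.map_nil, List.prod_cons, List.prod_nil, mul_one] at e <;> subst e
    · exact hmemb _ (hp a).1 (Or.inr (Or.inl (hp a))) hg
    · exact hD.cent_pair hx (hp a).1 (hp a).2.1.symm (hp a).2.2 hg
  · obtain ⟨hne, hsum⟩ := pair_ok f h
    rcases key [(pairOf f).1, (pairOf f).2] (by simp only [sumH, herm_facts.2, hsum]) with e | e <;>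
      simp only [List.map_cons, List.map_nil, List.prod_cons, List.prod_nil, mul_one] at e <;> subst e
    · exact move _ (Or.inr (Or.inl (hp _))) (hD.cent_pair (hp _).1 (hp _).1 (W.mem_ne hD K hne)
        (W.mem_comm hD K _ _) hg)
    · exact hD.cent_triple hx (hp _) (hp _) (W.mem_ne hD K hne) (W.mem_comm hD K _ _) hg
  obtain ⟨hnd, hlen, s1, s2, s3⟩ := tri_ok f h
  obtain ⟨a, b, c, a', b', c', a'', b'', c'', hl⟩ :
      ∃ a b c a' b' c' a'' b'' c'', trisOf f = [a, b, c, a', b', c', a'', b'', c''] := by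
    match trisOf f, hlen with
    | [a, b, c, a', b', c', a'', b'', c''], _ => exact ⟨a, b, c, a', b', c', a'', b'', c'', rfl⟩
  rw [hl] at hnd s1 s2 s3
  simp only [List.take_succ_cons, List.take_zero, List.drop_succ_cons, List.drop_zero] at s1 s2 s3
  obtain ⟨p, q, r, hqr, hpq, hpr, e⟩ : ∃ p q r : Fin 21, q ≠ r ∧ p ≠ q ∧ p ≠ r ∧
      w = ([p, q, r].map (W.mem hD K)).prod := by
    simp only [List.nodup_cons, List.mem_cons, List.not_mem_nil, or_false, not_or, List.nodup_nil, and_true,
      not_false_eq_true] at hnd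
    rcases key _ s1 with e1 | e1
    · exact ⟨a, b, c, hnd.2.1.1, hnd.1.1, hnd.1.2.1, e1⟩
    rcases key _ s2 with e2 | e2
    · exact ⟨a', b', c', hnd.2.2.2.2.1.1, hnd.2.2.2.1.1, hnd.2.2.2.1.2.1, e2⟩
    rcases key _ s3 with e3 | e3
    · exact ⟨a'', b'', c'', hnd.2.2.2.2.2.2.2, hnd.2.2.2.2.2.2.1.1, hnd.2.2.2.2.2.2.1.2, e3⟩
    exfalso
    have h12 := mul_left_cancel (e1.symm.trans e2)
    have h13 := mul_left_cancel (e1.symm.trans e3)
    have hdbl : Double D (W.mem hD K a) := by
      have hin : ∀ z ∈ W.mem hD K a :: W.mem hD K b :: W.mem hD K c ::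
          ([W.mem hD K a', W.mem hD K b', W.mem hD K c'] ++ [W.mem hD K a'', W.mem hD K b'', W.mem hD K c'']),
          ∃ k, z = W.mem hD K k := by
        intro z hz
        simp only [List.cons_append, List.nil_append, List.mem_cons, List.not_mem_nil, or_false] at hz
        rcases hz with h | h | h | h | h | h | h | h | h <;> exact ⟨_, h⟩
      refine ⟨W.mem hD K b, W.mem hD K c, [W.mem hD K a', W.mem hD K b', W.mem hD K c'],
        [W.mem hD K a'', W.mem hD K b'', W.mem hD K c''], rfl, rfl, ?_, ?_, ?_, ?_, hD.six_of_equal W K h12,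
        hD.six_of_equal W K h13, W.mem hD K a'', by simp, ?_⟩
      · refine (List.nodup_map_iff (fun _ _ h => W.mem_inj hD K h)).2 (show [a, b, c, a', b', c'].Nodup from ?_)
        simp [hnd]
      · refine (List.nodup_map_iff (fun _ _ h => W.mem_inj hD K h)).2 (show [a, b, c, a'', b'', c''].Nodup from ?_)
        simp [hnd]
      · intro z hz
        obtain ⟨k, rfl⟩ := hin z hz
        exact (hp k).1
      · intro z hz z' hz'
        obtain ⟨k, rfl⟩ := hin z hz
        obtain ⟨k', rfl⟩ := hin z' hz'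
        exact W.mem_comm hD K k k'
      · intro h
        simp only [List.mem_cons, List.not_mem_nil, or_false] at h
        rcases h with h | h | h <;> have := W.mem_inj hD K h <;> simp [this] at hnd
    obtain ⟨g', hg'⟩ := hD.trans _ (hp a).1 x hx
    exact hD.not_double hx W (hg' ▸ hD.double_conj g' hdbl)
  simp only [List.map_cons, List.map_nil, List.prod_cons, List.prod_nil, mul_one] at e
  subst e
  exact move _ (Or.inr (Or.inl (hp p))) (hD.cent_triple (hp p).1
    ⟨(hp q).1, W.mem_ne hD K hpq.symm, W.mem_comm hD K p q⟩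
    ⟨(hp r).1, W.mem_ne hD K hpr.symm, W.mem_comm hD K p r⟩ (W.mem_ne hD K hqr) (W.mem_comm hD K q r) hg)

/-- A product of two commuting members keeps every component. -/
theorem pair_keeps {a p q : G} (ha : a ∈ D) (hp : p ∈ D) (hq : q ∈ D) (hne : p ≠ q) (hc : Commute p q) :
    Linked D a (p * q * a * (p * q)⁻¹) := by
  have h2 : p * q * (p * q) = 1 := by
    rw [hc.symm.mul_mul_mul_comm, hD.sq hp, hD.sq hq, one_mul]
  have h1 : p * q ≠ 1 := fun h => hne (by rw [eq_inv_of_mul_eq_one_left h, hD.inv_eq hq])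
  by_cases hodd : Odd (orderOf (a * (p * q)))
  · obtain ⟨g, -, hg⟩ := odd_conj (M := ⊤) (mem_top a) (mem_top (p * q)) (hD.sq ha) h2 hodd
    exact absurd (hg ▸ hD.conj g a ha) (hD.mul_not_mem hp hq hne hc)
  obtain ⟨m, -, hca, hcu, hii, hi1⟩ := even_central (hD.sq ha) h2 hodd
  exact hD.cent_invol ha hca hii hi1 hcu

theorem all_linked {a e : G} (ha : a ∈ D) (he : e ∈ D) : Linked D a e := by
  let N : Subgroup G :=
    { carrier := {g | Linked D a (g * a * g⁻¹)}
      mul_mem' := fun {g h} hg hh => by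
        have := hD.linked_conj g hh
        simp only [Set.mem_ofPred_eq] at hg ⊢
        rw [show g * h * a * (g * h)⁻¹ = g * (h * a * h⁻¹) * g⁻¹ by group]
        exact hD.linked_trans ha hg this
      one_mem' := Or.inl (by group)
      inv_mem' := fun {g} hg => by
        have := hD.linked_conj g⁻¹ (linked_symm ha hg)
        rw [show g⁻¹ * (g * a * g⁻¹) * g⁻¹⁻¹ = a by group] at this
        exact this }
  have hDN : ∀ x ∈ D, x ∈ N := by
    intro x hx
    obtain ⟨W⟩ := hD.view x hx
    obtain ⟨K, -⟩ := exists_coord_through hS (∅ : Set V) (by simp)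
    refine (closure_le N).2 ?_ (hD.base_mem hx W K)
    rintro _ ⟨p, hp, q, hq, rfl⟩
    rcases eq_or_ne p q with rfl | hne
    · have hpD : p ∈ D := by
        rcases hp with rfl | ⟨k, rfl⟩
        exacts [hx, (W.mem_perp hD K k).1]
      rw [hD.sq hpD]
      exact one_mem N
    have hpD : ∀ p ∈ insert x (Set.range (W.mem hD K)), p ∈ D := by
      rintro p (rfl | ⟨k, rfl⟩)
      exacts [hx, (W.mem_perp hD K k).1]
    have hc : Commute p q := by
      rcases hp with rfl | ⟨i, rfl⟩ <;> rcases hq with rfl | ⟨j, rfl⟩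
      exacts [Commute.refl _, (W.mem_perp hD K j).2.2, (W.mem_perp hD K i).2.2.symm, W.mem_comm hD K i j]
    exact hD.pair_keeps ha (hpD p hp) (hpD q hq) hne hc
  by_contra hn
  obtain ⟨g, hg, hge⟩ := odd_conj (hDN a ha) (hDN e he) (hD.sq ha) (hD.sq he) (hD.cross_odd ha he hn)
  exact hn (hge ▸ hg)

theorem three {a b : G} (ha : a ∈ D) (hb : b ∈ D) (hn : ¬ Commute a b) : (a * b) ^ 3 = 1 :=
  hD.linked_cube ha (hD.all_linked ha hb) hn

theorem exists_common_member {a b : G} (ha : a ∈ D) (hb : b ∈ D) (hn : ¬ Commute a b) :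
    ∃ x, x ∈ common D a b := by
  rcases hD.all_linked ha hb with rfl | h | ⟨x, hx, hbx⟩
  · exact absurd (Commute.refl _) hn
  · exact absurd h.2.2 hn
  · exact ⟨x, hx, perp_symm hbx hx.1⟩

/-- Two commuting members have a third commuting with neither. -/
theorem exists_apart {a b : G} (ha : a ∈ D) (hb : b ∈ perp D a) :
    ∃ c ∈ D, ¬ Commute a c ∧ ¬ Commute b c := by
  obtain ⟨Wa⟩ := hD.view a ha
  obtain ⟨K, hK⟩ := Wa.exists_plane hD (s := {b}) (fun y hy => by rw [hy]; exact hb)
    (fun y hy z hz => by rw [hy, hz])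
  obtain ⟨k, hk⟩ := hK b rfl
  obtain ⟨k', hk'⟩ := exists_ne k
  have hx := Wa.mem_perp hD K k'
  obtain ⟨Wx⟩ := hD.view _ hx.1
  set x := Wa.mem hD K k'
  have hax : a ∈ perp D x := perp_symm hx ha
  have hbx : b ∈ perp D x := by
    rw [hk]
    exact ⟨(Wa.mem_perp hD K k).1, Wa.mem_ne hD K hk'.symm, Wa.mem_comm hD K k' k⟩
  obtain ⟨K', hK'⟩ := Wx.exists_plane hD (s := {a, b}) (fun y hy => by rcases hy with rfl | rfl <;> assumption)
    (fun y hy z hz => by
      rcases hy with rfl | rfl <;> rcases hz with rfl | rfl <;>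
        first | exact Commute.refl _ | exact hb.2.2 | exact hb.2.2.symm)
  obtain ⟨i, hi⟩ := hK' a (Or.inl rfl)
  obtain ⟨j, hj⟩ := hK' b (Or.inr rfl)
  obtain ⟨q, hqi, hqj⟩ := dot_two i j
  set v := val K'.w q.1 • K'.frame.f 0 + val K'.w q.2.1 • K'.frame.f 1 + val K'.w q.2.2 • K'.frame.f 2 with hv
  have hvv : H.h v v = 0 := by
    simp [hv, H.add_left, H.add_right, H.smul_left, H.smul_right, K'.frame.ff]
  have hpv : ∀ k, H.h (pv K' (pt k)) v = val K'.w ((((pt k).1.mul q.1.conj).add ((pt k).2.1.mul q.2.1.conj)).add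
      ((pt k).2.2.mul q.2.2.conj)) := fun k => by
    simp [hv, pv, H.add_left, H.add_right, H.smul_left, H.smul_right, K'.frame.ef, K'.prim.val_add K'.six,
      K'.prim.val_mul K'.six, K'.prim.val_conj K'.six]
  have hv0 : v ≠ 0 := fun e => hqi (K'.prim.val_inj K'.six (b := .o) (by rw [← hpv, e, H.zero_right]; rfl))
  obtain ⟨c, hc, α, hα, ec⟩ := Wx.cover v hv0 hvv
  have hno : ∀ y k, y ∈ perp D x → y = Wx.mem hD K' k →
      (((pt k).1.mul q.1.conj).add ((pt k).2.1.mul q.2.1.conj)).add ((pt k).2.2.mul q.2.2.conj) ≠ .o →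
      ¬ Commute y c := fun y k hy ey hne hcc => by
    refine hne (K'.prim.val_inj K'.six (b := .o) ?_)
    have h0 := (Wx.comm hD.ker hy hc (hD.sq hy.1) (hD.sq hc.1)).1 hcc
    have hr := Wx.r_mem hD K' k
    rw [← ey, Wx.img _ hy] at hr
    obtain ⟨s, hs, es⟩ := (hS.tv_image_eq_iff φ hD.ker (pv_iso K' (pt k)) (Wx.vec_iso _ hy) (pv_pt_ne K' k)).1
      ((congrArg φ (tv_pv K' (pt k))).trans hr.symm)
    rw [← hpv, ec, es, H.smul_left, H.smul_right, h0, mul_zero, mul_zero]
    rfl
  exact ⟨c, hc.1, hno a i hax hi hqi, hno b j hbx hj hqj⟩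

theorem closure_transitive {a b : G} (ha : a ∈ D) (hb : b ∈ D) :
    ∃ g ∈ closure D, g * a * g⁻¹ = b := by
  have step : ∀ a b : G, a ∈ D → b ∈ D → ¬ Commute a b → ∃ g ∈ closure D, g * a * g⁻¹ = b := fun a b ha hb hn =>
    ⟨a * b, mul_mem (subset_closure ha) (subset_closure hb), by
      rw [mul_inv_rev, hD.inv_eq ha, hD.inv_eq hb]
      have h := braid (hD.sq ha) (hD.sq hb) (hD.three ha hb hn)
      calc a * b * a * (b * a) = a * (b * a * b) * a := by group
        _ = a * (a * b * a) * a := by rw [h]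
        _ = a * a * b * (a * a) := by group
        _ = b := by rw [hD.sq ha, one_mul, mul_one]⟩
  by_cases hn : Commute a b
  · rcases eq_or_ne b a with rfl | hne
    · exact ⟨1, one_mem _, by group⟩
    obtain ⟨c, hc, hac, hbc⟩ := hD.exists_apart ha ⟨hb, hne, hn⟩
    obtain ⟨g, hg, e1⟩ := step a c ha hc hac
    obtain ⟨h, hh, e2⟩ := step c b hc hb fun h => hbc h.symm
    exact ⟨h * g, mul_mem hh hg, by rw [← e2, ← e1]; group⟩
  · exact step a b ha hb hn

theorem closure_top {a : G} (ha : a ∈ D) : closure D = ⊤ := by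
  refine eq_top_iff.2 fun g _ => ?_
  obtain ⟨h, hh, e⟩ := hD.closure_transitive (hD.conj g a ha) ha
  obtain ⟨W⟩ := hD.view a ha
  have hc : Commute a (h * g) := by
    show a * (h * g) = h * g * a
    conv_lhs => arg 1; rw [← e]
    group
  have := closure_mono (fun y (hy : y ∈ perp D a) => hy.1) (W.gen _ hc)
  simpa using mul_mem (inv_mem hh) this

end Sys

end Cfsg.Lib.M22Rec
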