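import Cfsg.Agent.M22Rec.Near

/-!
The members commuting with a noncommuting pair `a`, `b` are the 126 tabulated points in a frame for `a`; a member
commuting with `a` sees one of those forty-five that commute with any given one of them.
-/

set_option autoImplicit false
set_option linter.unusedSectionVars false
set_option linter.style.haveILetI false

namespace Cfsg.Lib.M22Rec

open Subgroup Cfsg.Lib.Classical Cfsg.Lib.ThreeTr Cfsg.Lib.USixFusion

universe u v w w'

theorem form_symm (p q : Pt) : Pt.form q p = (Pt.form p q).conj := by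
  have hc : ∀ a b : Q4, (a.add b).conj = a.conj.add b.conj ∧ (a.mul b.conj).conj = b.mul a.conj := by decide
  have h : ∀ a b c d e f : Q4, ((((a.add b).add c).add d).add e).add f =
      ((((b.add a).add d).add c).add f).add e := by decide +kernel
  simp only [Pt.form, (hc _ _).1, (hc _ _).2]
  exact h _ _ _ _ _ _

theorem form_lift1 (p : Pt) (l : Q4) (k : Fin 45) :
    Pt.form p (lift1 l k) = (p.b0.mul l.conj).add (Pt.form (wVec p.a1 p.a2 p.b1 p.b2) (wPt k)) := by
  obtain ⟨h1, h2, -, -⟩ := wPt_shape k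
  have e : ∀ a b : Q4, a.mul Q4.o.conj = .o ∧ Q4.o.mul a = .o ∧ Q4.o.add a = a ∧ a.add .o = a := by decide
  have h : ∀ z a b c d : Q4, ((((z.add a).add b).add c).add d) = z.add (((a.add b).add c).add d) := by
    decide +kernel
  simp only [Pt.form, lift1_shape, wVec, h1, h2, (e _ .o).1, (e _ .o).2.1, (e _ .o).2.2.1]
  exact h _ _ _ _ _

theorem lift1_change : ∀ (l m : Q4) (k : Fin 45), lift1 m k = (lift1 l k).add (Pt.smul (m.add l) e0) := by
  decide +kernel

variable {G : Type u} [Group G] [Finite G] {F : Type v} [Field F] [Finite F] {V : Type w} [AddCommGroup V]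
  [Module F V] {Q : Type w'} [Group Q] {H : HermSpace F V} {φ : H.SIsom →* Q} {D : Set G} {hS : IsSixSpace H}

namespace View

variable {x : G} (W : View hS φ D x)

theorem at_same (K : Coord H) {y : G} {p q : Pt} (hp : W.At K y p) (hq : W.At K y q) : Pt.same p q = true := by
  obtain ⟨-, s, hs, es⟩ := hp
  obtain ⟨-, t, ht, et⟩ := hq
  exact (same_iff K p q).2 ⟨t⁻¹ * s, mul_ne_zero (inv_ne_zero ht) hs, by
    rw [mul_smul, ← es, et, inv_smul_smul₀ ht]⟩

theorem At.same {K : Coord H} {y : G} {p q : Pt} (hp : W.At K y p) (h : Pt.same p q = true) : W.At K y q := by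
  obtain ⟨hy, s, hs, es⟩ := hp
  obtain ⟨a, ha, ea⟩ := (same_iff K p q).1 h
  exact ⟨hy, s * a⁻¹, mul_ne_zero hs (inv_ne_zero ha), by
    rw [ea, smul_smul, mul_assoc, inv_mul_cancel₀ ha, mul_one, es]⟩

end View

namespace Sys

variable (hD : Sys hS φ D)
include hD

/-- Every member commuting with `a` sees a member commuting with `a`, `b` and `x`. -/
theorem exists_seen {a b x z : G} (ha : a ∈ D) (hb : b ∈ D) (hn : ¬ Commute a b) (hx : x ∈ common D a b)
    (hz : z ∈ perp D a) (hzx : ¬ Commute z x) :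
    ∃ y, y ∈ common D a b ∧ y ∈ perp D x ∧ Commute z y := by
  obtain ⟨Wa⟩ := hD.view a ha
  obtain ⟨K, y, hxK, hy, -⟩ := hD.exists_near ha hb hn hx Wa
  obtain ⟨p, hp, -, -⟩ := Wa.at_exists hD K hz
  have hb0 : p.b0.conj ≠ .o := fun e => hzx ((Wa.at_comm hD K hp hxK).2 (by
    have h : ∀ q : Q4, q.conj = .o → q = .o := by decide
    obtain ⟨a0, a1, a2, b0, b1, b2⟩ := p
    rw [(form_e0 a0 a1 a2 b0 b1 b2).1]
    exact h _ e))
  obtain ⟨k, hk⟩ := zero_exists p.b0.conj p.a1 p.a2 p.b1 p.b2 hb0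
  refine ⟨y k, (hy k).1, (hy k).2.1, (Wa.at_comm hD K hp (hy k).2.2).2 ?_⟩
  rw [← (lift1_facts (lam k) k).2.2.2.2, form_lift1, form_symm (wPt k)]
  have h : ∀ s l f : Q4, (s.conj.mul l).add f = .o → (s.mul l.conj).add f.conj = .o := by decide
  exact h _ _ _ hk

theorem closed_list {a b : G} (ha : a ∈ D) (hb : b ∈ D) (Wa : View hS φ D a) (K : Coord H) (L : List Pt)
    (S : List (ℕ × ℕ))
    (h0 : ∀ i < 47, ∃ z ∈ common D a b, Wa.At K z (L.getD i Pt.zero))
    (hS' : ∀ n < S.length, (S.getD n (0, 0)).1 < n + 47 ∧ (S.getD n (0, 0)).2 < n + 47 ∧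
      Pt.same (Pt.third (L.getD (S.getD n (0, 0)).1 Pt.zero) (L.getD (S.getD n (0, 0)).2 Pt.zero))
        (L.getD (n + 47) Pt.zero) = true) :
    ∀ i < S.length + 47, ∃ z ∈ common D a b, Wa.At K z (L.getD i Pt.zero) := by
  intro i
  induction i using Nat.strong_induction_on with
  | _ i ih =>
    intro hi
    by_cases h : i < 47
    · exact h0 i h
    obtain ⟨n, rfl⟩ : ∃ n, i = n + 47 := ⟨i - 47, by omega⟩
    obtain ⟨h1, h2, h3⟩ := hS' n (by omega)
    obtain ⟨y, hy, hyp⟩ := ih _ h1 (by omega)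
    obtain ⟨z, hz, hzq⟩ := ih _ h2 (by omega)
    exact ⟨_, hD.common_closed ha hb hy hz, (Wa.at_third hD K ha hyp hzq).same Wa h3⟩

/-- All members commuting with a noncommuting pair. -/
theorem exists_common {a b x : G} (ha : a ∈ D) (hb : b ∈ D) (hn : ¬ Commute a b) (hx : x ∈ common D a b)
    (Wa : View hS φ D a) : ∃ (K : Coord H) (m : Fin 126 → G), m 0 = x ∧
      (∀ i, m i ∈ common D a b ∧ Wa.At K (m i) (xPt i)) ∧ Function.Injective m ∧
      ∀ z ∈ common D a b, ∃ i, z = m i := by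
  classical
  obtain ⟨K, y, hxK, hy, hsurj⟩ := hD.exists_near ha hb hn hx Wa
  -- a member over the further point
  obtain ⟨C, z46, hz46, hz46K⟩ : ∃ C : Q4, ∃ z ∈ common D a b, Wa.At K z (qPt.add (Pt.smul C (yPt 0))) := by
    obtain ⟨K0, y', hy0K, hy', -⟩ := hD.exists_near ha hb hn (hy 0).1 Wa
    obtain ⟨p, hp⟩ := vp_surj K0 (vp K qPt)
    obtain ⟨-, β, hβ, eβ⟩ := (hy 0).2.2
    obtain ⟨-, α, hα, eα⟩ := hy0K
    obtain ⟨hqq, hqy, hqe, -⟩ := qPt_ok
    have hγ : vp K0 e0 = (α⁻¹ * β) • vp K (yPt 0) := by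
      rw [mul_smul, ← eβ, eα, inv_smul_smul₀ hα]
    have hb0 : p.b0 = .o := by
      obtain ⟨a0, a1, a2, b0, b1, b2⟩ := p
      refine (form_e0 a0 a1 a2 b0 b1 b2).1.symm.trans (K0.prim.val_inj K0.six (b := .o) ?_)
      rw [← vp_h, hp, hγ, H.smul_right, vp_h, hqy]
      exact mul_zero _
    have hiso : Pt.form p p = .o := by
      refine K0.prim.val_inj K0.six (b := .o) ?_
      rw [← vp_h, hp, vp_h, hqq]
      rfl
    by_cases hw : p.a1 ≠ .o ∨ p.a2 ≠ .o ∨ p.b1 ≠ .o ∨ p.b2 ≠ .o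
    swap
    · exfalso
      push Not at hw
      obtain ⟨a0, a1, a2, b0, b1, b2⟩ := p
      simp only at hw hb0
      obtain ⟨rfl, rfl, rfl, rfl⟩ := hw
      subst hb0
      have he : vp K0 ⟨a0, .o, .o, .o, .o, .o⟩ = val K0.w a0 • vp K0 e0 := by simp [vp, e0, val]
      rw [he, hγ, smul_smul] at hp
      refine hqe (K.prim.val_inj K.six (b := .o) ?_)
      rw [← vp_h, ← hp, H.smul_left, vp_h, show Pt.form (yPt 0) e0 = Q4.o from by decide +kernel]
      exact mul_zero _
    obtain ⟨t, l, k, ht, rfl⟩ := cover_perp p hb0 hiso hw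
    rw [vp_smul] at hp
    obtain ⟨C, hC⟩ := K.prim.val_surj K.six (val K0.w t * (val K0.w ((lam k).add l) * (α⁻¹ * β)))
    refine ⟨C, y' k, (hy' k).1, (hy' k).1.1, ?_⟩
    obtain ⟨-, s, hs, es⟩ := (hy' k).2.2
    refine ⟨s * (val K0.w t)⁻¹, mul_ne_zero hs (inv_ne_zero (val_ne K0 ht)), ?_⟩
    rw [es, ← (lift1_facts (lam k) k).2.2.2.2, lift1_change l (lam k) k, vp_add, vp_smul, hγ, vp_add, vp_smul, hC,
      ← hp, mul_smul s]
    simp only [smul_add, smul_smul]
    congr 2
    · rw [inv_mul_cancel₀ (val_ne K0 ht), mul_one]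
    · field_simp [val_ne K0 ht]
  have hbase : ∀ L : List Pt, ∀ i < 46, L.take 46 = e0 :: (List.finRange 45).map yPt →
      ∃ z ∈ common D a b, Wa.At K z (L.getD i Pt.zero) := by
    intro L i hi hL
    have he : L.getD i Pt.zero = (e0 :: (List.finRange 45).map yPt).getD i Pt.zero := by
      rw [← hL]
      simp only [List.getD_eq_getElem?_getD, List.getElem?_take_of_lt hi]
    rw [he]
    match i, hi with
    | 0, _ => exact ⟨x, hx, hxK⟩
    | n + 1, hn' =>
      refine ⟨y ⟨n, by omega⟩, (hy _).1, ?_⟩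
      rw [List.getD_cons_succ, List.getD_eq_getElem _ _ (by simp; omega)]
      simpa using (hy ⟨n, by omega⟩).2.2
  -- the candidate is the good one
  obtain rfl : C = goodC := by
    rcases bad_ok.2 C with h | h
    · exact h
    exfalso
    rw [List.contains_iff_mem] at h
    obtain ⟨B, hB, rfl⟩ := List.mem_map.1 h
    have hok := List.all_eq_true.1 bad_ok.1 B hB
    simp only [badOk, Bool.and_eq_true, decide_eq_true_eq, List.all_eq_true, List.mem_range] at hok
    obtain ⟨⟨⟨⟨⟨hlen, hpos⟩, h46⟩, hsteps⟩, hperp⟩, hnew⟩ := hok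
    set L := (e0 :: (List.finRange 45).map yPt) ++ B.2.2
    have hbaseL : L.take 46 = e0 :: (List.finRange 45).map yPt :=
      List.take_left' (by rw [List.length_cons, List.length_map, List.length_finRange])
    obtain ⟨z, hz, hzK⟩ := hD.closed_list ha hb Wa K L B.2.1 (fun i hi => by
      rcases Nat.lt_or_ge i 46 with h | h
      · exact hbase L i h hbaseL
      · obtain rfl : i = 46 := by omega
        exact ⟨z46, hz46, hz46K.same Wa h46⟩)
      (fun n hn' => ⟨(hsteps n hn').1.1.1, (hsteps n hn').1.1.2, (hsteps n hn').2⟩)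
      (B.2.1.length + 46) (by omega)
    have hzx : z ∈ perp D x := by
      refine ⟨hz.1.1, fun e => ?_, ((Wa.at_comm hD K hzK hxK).2 hperp).symm⟩
      have := hnew e0 List.mem_cons_self
      rw [Wa.at_same K hxK (e ▸ hzK)] at this
      exact Bool.false_ne_true (by simpa using this)
    obtain ⟨k, rfl⟩ := hsurj z hz hzx
    have := hnew (yPt k) (List.mem_cons_of_mem _ (List.mem_map_of_mem (List.mem_finRange k)))
    rw [Wa.at_same K (hy k).2.2 hzK] at this
    exact Bool.false_ne_true (by simpa using this)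
  obtain ⟨hlen, hx0, hfirst, h46⟩ := xList_start
  obtain ⟨hdlen, hsteps⟩ := xDer_ok
  simp only [List.all_eq_true, List.mem_range, Bool.and_eq_true, decide_eq_true_eq] at hsteps hfirst
  have hall := hD.closed_list ha hb Wa K xList xDer (fun i hi => by
    match i, hi with
    | 0, _ => exact ⟨x, hx, by rw [hx0]; exact hxK⟩
    | n + 1, hn' =>
      rcases Nat.lt_or_ge n 45 with h | h
      · exact ⟨y ⟨n, h⟩, (hy _).1, (hy ⟨n, h⟩).2.2.same Wa (hfirst ⟨n, h⟩ (List.mem_finRange _))⟩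
      · obtain rfl : n = 45 := by omega
        exact ⟨z46, hz46, hz46K.same Wa h46⟩)
    (fun n hn' => by
      have := hsteps n (hdlen ▸ hn')
      exact ⟨this.1.1.1, this.1.1.2, this.2⟩)
  choose m hm hmK using fun i : Fin 126 => hall i.val (by rw [hdlen]; exact i.2)
  have hinj : Function.Injective m := fun i j e => x_distinct i j (Wa.at_same K (hmK i) (e ▸ hmK j))
  refine ⟨K, m, Wa.at_unique hD K (hmK 0) ?_, fun i => ⟨hm i, hmK i⟩, hinj, fun z hz => ?_⟩
  · show Wa.At K x (xList.getD 0 Pt.zero)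
    rw [hx0]; exact hxK
  -- completeness
  by_cases hc : Commute z x
  · rcases eq_or_ne z x with rfl | hne
    · refine ⟨0, (Wa.at_unique hD K (hmK 0) ?_).symm⟩
      show Wa.At K z (xList.getD 0 Pt.zero)
      rw [hx0]; exact hxK
    obtain ⟨k, rfl⟩ := hsurj z hz ⟨hz.1.1, hne, hc.symm⟩
    refine ⟨⟨k.val + 1, by omega⟩, Wa.at_unique hD K ?_ (hmK _)⟩
    exact (hy k).2.2.same Wa (hfirst k (List.mem_finRange k))
  obtain ⟨y0, hy0, hy0x, hzy⟩ := hD.exists_seen ha hb hn hx hz.1 hc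
  obtain ⟨k, rfl⟩ := hsurj y0 hy0 hy0x
  have hzk : z ∈ perp D (y k) := ⟨hz.1.1, fun e => hc (e ▸ (hy k).2.1.2.2.symm), hzy.symm⟩
  obtain ⟨Wy⟩ := hD.view (y k) hy0.1.1
  obtain ⟨K2, u, -, husurj⟩ := hD.cross ha hb hn hy0 Wy
  set S := (List.finRange 126).filter fun i =>
    decide (Pt.form (xPt i) (yPt k) = .o) && !Pt.same (yPt k) (xPt i) with hSdef
  have hsub : (S.map m).toFinset ⊆ Finset.univ.image u := fun w hw => by
    obtain ⟨i, hi, rfl⟩ := List.mem_map.1 (List.mem_toFinset.1 hw)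
    simp only [hSdef, List.mem_filter, Bool.and_eq_true, decide_eq_true_eq, Bool.not_eq_true'] at hi
    obtain ⟨q, hq⟩ := husurj (m i) (hm i) ⟨(hm i).1.1, fun e => by
      have := hi.2.2
      rw [Wa.at_same K (hy k).2.2 (by rw [← e]; exact hmK i)] at this
      exact Bool.false_ne_true this.symm, ((Wa.at_comm hD K (hmK i) (hy k).2.2).2 hi.2.1).symm⟩
    exact Finset.mem_image.2 ⟨q, Finset.mem_univ q, hq.symm⟩
  have hcard : (Finset.univ.image u).card ≤ (S.map m).toFinset.card := by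
    rw [List.toFinset_card_of_nodup (((List.nodup_finRange 126).filter _).map hinj), List.length_map,
      x_degree k]
    exact Finset.card_image_le.trans (by simp)
  obtain ⟨q, hq⟩ := husurj z hz hzk
  obtain ⟨i, -, hi⟩ := List.mem_map.1 (List.mem_toFinset.1 ((Finset.eq_of_subset_of_card_le hsub hcard).symm ▸
    (Finset.mem_image.2 ⟨q, Finset.mem_univ q, hq.symm⟩)))
  exact ⟨i, hi.symm⟩

end Sys

end Cfsg.Lib.M22Rec
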