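import Cfsg.Agent.M22Rec.View
import Cfsg.Agent.USixFusion.Fusion

/-!
A maximal totally isotropic plane in coordinates: its twenty-one points, and a plane through pairwise orthogonal
isotropic vectors.
-/

set_option autoImplicit false
set_option linter.unusedSectionVars false
set_option linter.style.haveILetI false

namespace Cfsg.Lib.M22Rec

open Cfsg.Lib.Classical Cfsg.Lib.ThreeTr Cfsg.Lib.USixFusion

universe u v

/-- A vector of three codes. -/
abbrev C3 := Q4 × Q4 × Q4

/-- Its rank-one hermitian code. -/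
def outer (c : C3) : Herm :=
  ⟨decide (c.1 ≠ .o), decide (c.2.1 ≠ .o), decide (c.2.2 ≠ .o), c.1.mul c.2.1.conj, c.1.mul c.2.2.conj,
    c.2.1.mul c.2.2.conj⟩

/-- The four codes. -/
def q4s : List Q4 := [.o, .i, .w, .v]

/-- The twenty-one points, normalised at the first nonzero entry. -/
def plane : List C3 :=
  (q4s.flatMap fun a => q4s.map fun b => (Q4.i, a, b)) ++ q4s.map (fun b => (Q4.o, Q4.i, b)) ++ [(.o, .o, .i)]

/-- The point of a number. -/
def pt (k : Fin 21) : C3 := plane.getD k.val (.o, .o, .o)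

/-- The code of a number. -/
def pc (k : Fin 21) : Herm := outer (pt k)

theorem pc_rank : ∀ k, (pc k).rank = 1 := by decide +kernel

theorem pc_inj : ∀ j k, pc j = pc k → j = k := by decide +kernel

theorem rank_one_pc : ∀ h : Herm, h.rank = 1 → ∃ k, pc k = h := by decide +kernel

theorem point_scalar : ∀ a b c : Q4, ¬ (a = .o ∧ b = .o ∧ c = .o) →
    ∃ k, ∃ t : Q4, t ≠ .o ∧ t.mul (pt k).1 = a ∧ t.mul (pt k).2.1 = b ∧ t.mul (pt k).2.2 = c := by decide +kernel

theorem outer_entries : ∀ c : C3, (outer c).toM =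
    ⟨c.1.mul c.1.conj, c.1.mul c.2.1.conj, c.1.mul c.2.2.conj,
      c.2.1.mul c.1.conj, c.2.1.mul c.2.1.conj, c.2.1.mul c.2.2.conj,
      c.2.2.mul c.1.conj, c.2.2.mul c.2.1.conj, c.2.2.mul c.2.2.conj⟩ := by decide +kernel

variable {F : Type u} [Field F] {V : Type v} [AddCommGroup V] [Module F V] {H : HermSpace F V}
  (K : Coord H)

/-- The vector of codes in the plane of a frame. -/
def pv (c : C3) : V := val K.w c.1 • K.frame.e 0 + val K.w c.2.1 • K.frame.e 1 + val K.w c.2.2 • K.frame.e 2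

theorem pv_eq (c : C3) : pv K c = ∑ i, ![val K.w c.1, val K.w c.2.1, val K.w c.2.2] i • K.frame.e i := by
  simp [pv, Fin.sum_univ_three]

theorem pv_iso (c : C3) : H.h (pv K c) (pv K c) = 0 := by
  simp [pv_eq, H.sum_left, H.sum_right, H.smul_left, H.smul_right, K.frame.ee]

theorem pv_mem (c : C3) : pv K c ∈ K.frame.W := by
  rw [pv_eq]
  exact Submodule.sum_mem _ fun i _ => Submodule.smul_mem _ _ (K.frame.e_mem i)

theorem pv_perp (c c' : C3) : H.h (pv K c) (pv K c') = 0 := by
  simp [pv_eq, H.sum_left, H.sum_right, H.smul_left, H.smul_right, K.frame.ee]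

theorem pv_coord (c : C3) (i : Fin 3) :
    H.h (pv K c) (K.frame.f i) = ![val K.w c.1, val K.w c.2.1, val K.w c.2.2] i := by
  rw [pv_eq, K.frame.sum_e_left]
  simp [K.frame.ef]

theorem pv_pt_ne (k : Fin 21) : pv K (pt k) ≠ 0 := by
  intro e
  have hz : ∀ c : C3, pv K c = 0 → c = (.o, .o, .o) := by
    intro c hc
    have h := fun i => pv_coord K c i
    simp only [hc, H.zero_left] at h
    have hi : ∀ a, (0 : F) = val K.w a → a = .o := fun a ha => (K.prim.val_inj K.six (a := .o) ha).symm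
    exact Prod.ext (hi _ (h 0)) (Prod.ext (hi _ (h 1)) (hi _ (h 2)))
  have hn : ∀ k, pt k ≠ (.o, .o, .o) := by decide
  exact hn k (hz _ e)

/-- The transvection of a point is the element of its code. -/
theorem tv_pv (c : C3) : K.six.tv (pv_iso K c) = K.el (outer c) := by
  refine K.frame.acts_unique (M := mat K.w (outer c).toM) (fun x => ?_) (K.el_acts _)
  rw [K.six.tv_apply, outer_entries]
  simp only [pv, Fin.sum_univ_three, mat, Matrix.of_apply, Matrix.cons_val', Matrix.cons_val,
    K.prim.val_mul K.six, K.prim.val_conj K.six, H.add_right, H.smul_right]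
  module

theorem exists_point [Finite F] {v : V} (hv : v ∈ K.frame.W) (h0 : v ≠ 0) :
    ∃ k : Fin 21, ∃ a : F, a ≠ 0 ∧ v = a • pv K (pt k) := by
  obtain ⟨a, ha⟩ := K.prim.val_surj K.six (H.h v (K.frame.f 0))
  obtain ⟨b, hb⟩ := K.prim.val_surj K.six (H.h v (K.frame.f 1))
  obtain ⟨c, hc⟩ := K.prim.val_surj K.six (H.h v (K.frame.f 2))
  have hex := K.frame.W_expand K.six hv
  rw [Fin.sum_univ_three, ← ha, ← hb, ← hc] at hex
  obtain ⟨k, t, ht, e0, e1, e2⟩ := point_scalar a b c fun ⟨h1, h2, h3⟩ => h0 (by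
    rw [hex, h1, h2, h3]; simp [val])
  refine ⟨k, val K.w t, fun e => ht (K.prim.val_inj K.six (b := .o) e), ?_⟩
  rw [hex, ← e0, ← e1, ← e2]
  simp only [K.prim.val_mul K.six, pv, smul_add, smul_smul]

/-- A plane through given pairwise orthogonal isotropic vectors. -/
theorem exists_coord_through [Finite F] (hS : IsSixSpace H) (s : Set V)
    (hs : ∀ a ∈ s, ∀ b ∈ s, H.h a b = 0) : ∃ K : Coord H, s ⊆ K.frame.W := by
  obtain ⟨ω, hω⟩ := exists_prim hS
  obtain ⟨B, hBU, -⟩ := exists_flag hS (P := ⊥) (H.orth (Submodule.span F s)) fun S hSU hd hiso _ => by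
    have hP : ∀ x : V, ∀ g ∈ (⊥ : Subgroup H.SIsom), g.1.1 x - x ∈ S := fun x g hg => by
      rw [Subgroup.mem_bot.1 hg]
      show x - x ∈ S
      rw [sub_self]; exact S.zero_mem
    by_cases hc : s ⊆ (S : Set V)
    · obtain ⟨x, hxS, hxx, hxo, -⟩ := exists_step hS (P := (⊥ : Subgroup H.SIsom)) IsPGroup.of_bot hd hiso
        (fun g hg x hx => by rw [Subgroup.mem_bot.1 hg]; exact hx)
      refine ⟨x, fun y hy => ?_, hxS, hxx, hxo, hP x⟩
      exact hxo y (Submodule.span_le.2 hc hy)
    · obtain ⟨x, hx, hxS⟩ := Set.not_subset.1 hc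
      refine ⟨x, fun y hy => ?_, hxS, hs x hx x hx, fun y hy => H.eq_zero_symm (hSU hy x (Submodule.subset_span hx)),
        hP x⟩
      induction hy using Submodule.span_induction with
      | mem w hw => exact hs x hx w hw
      | zero => exact H.zero_right _
      | add a b _ _ ha hb => rw [H.add_right, ha, hb, add_zero]
      | smul c a _ ha => rw [H.smul_right, ha, mul_zero]
  refine ⟨⟨hS, B, ω, hω⟩, fun v hv => (B.mem_W hS).2 fun k => ?_⟩
  exact H.eq_zero_symm (hBU k v (Submodule.subset_span hv))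

end Cfsg.Lib.M22Rec
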