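import Cfsg.Agent.M22Rec.Data

/-!
Checks on the tables.
-/

set_option autoImplicit false

namespace Cfsg.Lib.M22Rec

open Cfsg.Lib.USixFusion

/-- The isotropic point of a number. -/
def wPt (k : Fin 45) : Pt := wList.getD k.val Pt.zero

/-- The section at a number. -/
def lam (k : Fin 45) : Q4 := lamList.getD k.val .o

/-- A vector of the four-dimensional part. -/
def wVec (a b c d : Q4) : Pt := ⟨.o, a, b, .o, c, d⟩

/-- The first basis vector. -/
def e0 : Pt := ⟨.i, .o, .o, .o, .o, .o⟩

/-- The point of the section at a number. -/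
def yPt (k : Fin 45) : Pt := (wPt k).add ⟨lam k, .o, .o, .o, .o, .o⟩

/-- The 126 points. -/
def xPt (i : Fin 126) : Pt := xList.getD i.val Pt.zero

/-- The orthogonality of points. -/
def orth (j k : Fin 45) : Bool := decide (Pt.form (wPt j) (wPt k) = .o)

/-- The points orthogonal to two. -/
def lineOf (i j : Fin 45) : List (Fin 45) :=
  (List.finRange 45).filter fun k => orth k i && orth k j

theorem wPt_shape : ∀ k, (wPt k).a0 = .o ∧ (wPt k).b0 = .o ∧ wPt k ≠ Pt.zero ∧ Pt.form (wPt k) (wPt k) = .o := by
  decide +kernel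

theorem wPt_inj : ∀ j k, ∀ t : Q4, Pt.smul t (wPt j) = wPt k → j = k := by decide +kernel

theorem wPt_cover : ∀ a b c d : Q4, Pt.form (wVec a b c d) (wVec a b c d) = .o → wVec a b c d ≠ Pt.zero →
    ∃ k, Pt.same (wPt k) (wVec a b c d) = true := by decide +kernel

theorem perp_sep : ∀ j k : Fin 45, j ≠ k → ∃ q : Fin 45, orth q j = true ∧ orth q k = false := by decide +kernel

theorem line_ok : ∀ i j : Fin 45, i ≠ j → orth i j = true →
    (lineOf i j).length = 5 ∧
      (lineOf i j).all (fun k => (lineOf i j).all fun l => orth k l) = true ∧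
      [Pt.a1, Pt.a2, Pt.b1, Pt.b2].all (fun r => [Pt.a1, Pt.a2, Pt.b1, Pt.b2].all fun s =>
        decide ((lineOf i j).foldr (fun k z => ((r (wPt k)).mul (s (wPt k)).conj).add z) Q4.o = .o)) = true := by
  decide +kernel

/-- The step of one derivation of the four-dimensional points. -/
def wStep (e : ℕ × ℕ × ℕ × Q4) : Bool :=
  decide (e.1 < 45) && decide (e.2.1 < 45) && decide (e.2.2.1 < 45) &&
    decide (e.2.2.2 ≠ .o) &&
    decide (Pt.form (wList.getD e.2.1 Pt.zero) (wList.getD e.2.2.1 Pt.zero) ≠ .o) &&
    decide (Pt.smul e.2.2.2 (wList.getD e.1 Pt.zero) =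
      Pt.third (wList.getD e.2.1 Pt.zero) (wList.getD e.2.2.1 Pt.zero))

theorem wDer_ok : wDer.all wStep = true := by decide +kernel

/-- Every number is known after the seeds and the derivation, in order. -/
theorem wDer_order : (List.range 45).all (fun k => (seeds ++ wDer.map (·.1)).contains k) = true ∧
    (List.range wDer.length).all (fun n =>
      let known := seeds ++ (wDer.take n).map (·.1)
      known.contains (wDer.getD n (0, 0, 0, .o)).2.1 && known.contains (wDer.getD n (0, 0, 0, .o)).2.2.1) = true ∧
    seeds.length = 5 ∧ seeds.all (fun k => decide (k < 45)) = true := by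
  decide +kernel

/-- The four codes, with their numbers. -/
def qNum : Q4 → ℕ
  | .o => 0
  | .i => 1
  | .w => 2
  | .v => 3

/-- The value of a parameter at a point. -/
def lamAt (c a b x y : Q4) (k : Fin 45) : Q4 := (c.mul (lam k)).add (Pt.form (wPt k) (wVec a b x y))

/-- The number of the values of a parameter at the seeds. -/
def paramNum (c a b x y : Q4) : ℕ :=
  seeds.foldl (fun n k => 4 * n + qNum (lamAt c a b x y ⟨k % 45, Nat.mod_lt _ (by norm_num)⟩)) 0

/-- The list of all four codes. -/
def fourQ : List Q4 := [.o, .i, .w, .v]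

/-- All parameters reach every value at the seeds. -/
theorem params_onto : ((fourQ.flatMap fun c => fourQ.flatMap fun a => fourQ.flatMap fun b => fourQ.flatMap fun x =>
    fourQ.map fun y => paramNum c a b x y).foldl (fun m n => m ||| 1 <<< n) 0) = 2 ^ 1024 - 1 := by decide +kernel

/-- A linear parameter is even on some line. -/
theorem linear_even : ∀ a b x y : Q4, ∃ i j : Fin 45, i ≠ j ∧ orth i j = true ∧
    ((lineOf i j).filter fun k => decide (lamAt .o a b x y k ≠ .o)).length % 2 = 0 := by decide +kernel

/-- Every translate of the section has a zero. -/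
theorem zero_exists : ∀ s a b x y : Q4, s ≠ .o →
    ∃ k : Fin 45, ((s.mul (lam k)).add (Pt.form (wPt k) (wVec a b x y))) = .o := by decide +kernel

theorem xList_start : xList.length = 126 ∧ xList.getD 0 Pt.zero = e0 ∧
    (List.finRange 45).all (fun k => Pt.same (yPt k) (xList.getD (k.val + 1) Pt.zero)) = true ∧
    Pt.same (qPt.add (Pt.smul goodC (yPt 0))) (xList.getD 46 Pt.zero) = true := by decide +kernel

theorem xDer_ok : xDer.length = 79 ∧ (List.range 79).all (fun n =>
    let e := xDer.getD n (0, 0)
    decide (e.1 < n + 47) && decide (e.2 < n + 47) &&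
      decide (Pt.form (xList.getD e.1 Pt.zero) (xList.getD e.2 Pt.zero) ≠ .o) &&
      Pt.same (Pt.third (xList.getD e.1 Pt.zero) (xList.getD e.2 Pt.zero)) (xList.getD (n + 47) Pt.zero)) = true := by
  decide +kernel

theorem qPt_ok : Pt.form qPt qPt = .o ∧ Pt.form qPt (yPt 0) = .o ∧ Pt.form qPt e0 ≠ .o ∧ qPt ≠ Pt.zero := by
  decide +kernel

/-- The derivation of one failing candidate. -/
def badOk (B : Q4 × List (ℕ × ℕ) × List Pt) : Bool :=
  let L := (e0 :: (List.finRange 45).map yPt) ++ B.2.2
  decide (B.2.2.length = B.2.1.length + 1) && decide (0 < B.2.1.length) &&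
    Pt.same (qPt.add (Pt.smul B.1 (yPt 0))) (L.getD 46 Pt.zero) &&
    (List.range B.2.1.length).all (fun n =>
      let e := B.2.1.getD n (0, 0)
      decide (e.1 < n + 47) && decide (e.2 < n + 47) &&
        decide (Pt.form (L.getD e.1 Pt.zero) (L.getD e.2 Pt.zero) ≠ .o) &&
        Pt.same (Pt.third (L.getD e.1 Pt.zero) (L.getD e.2 Pt.zero)) (L.getD (n + 47) Pt.zero)) &&
    decide (Pt.form (L.getD (B.2.1.length + 46) Pt.zero) e0 = .o) &&
    ((e0 :: (List.finRange 45).map yPt).all fun p => !Pt.same p (L.getD (B.2.1.length + 46) Pt.zero))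

theorem bad_ok : badList.all badOk = true ∧
    ∀ c : Q4, c = goodC ∨ (badList.map (·.1)).contains c = true := by
  constructor <;> decide +kernel

/-- Each point of the section sees forty-five of the 126, itself aside. -/
theorem x_degree : ∀ k : Fin 45, ((List.finRange 126).filter fun i =>
    decide (Pt.form (xPt i) (yPt k) = .o) && !Pt.same (yPt k) (xPt i)).length = 45 := by decide +kernel

theorem x_distinct : ∀ i j : Fin 126, Pt.same (xPt i) (xPt j) = true → i = j := by decide +kernel

theorem x_ne : ∀ i : Fin 126, xPt i ≠ Pt.zero ∧ Pt.form (xPt i) (xPt i) = .o := by decide +kernel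

end Cfsg.Lib.M22Rec
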