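import Cfsg.Agent.M22Rec.View
import Cfsg.Agent.M22Rec.Tables
import Cfsg.Agent.M22Rec.Plane

/-!
Coordinates in a frame: reading six codes, translating a frame, and a frame on a given hyperbolic pair of points.
-/

set_option autoImplicit false
set_option linter.unusedSectionVars false
set_option linter.style.haveILetI false

namespace Cfsg.Lib.M22Rec

open Cfsg.Lib.Classical Cfsg.Lib.ThreeTr Cfsg.Lib.USixFusion

universe u v w

variable {F : Type u} [Field F] {V : Type v} [AddCommGroup V] [Module F V] {H : HermSpace F V} (K : Coord H)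

/-- The vector of six codes. -/
def vp (p : Pt) : V :=
  val K.w p.a0 • K.frame.e 0 + val K.w p.a1 • K.frame.e 1 + val K.w p.a2 • K.frame.e 2 +
    (val K.w p.b0 • K.frame.f 0 + val K.w p.b1 • K.frame.f 1 + val K.w p.b2 • K.frame.f 2)

theorem vp_h (p q : Pt) : H.h (vp K p) (vp K q) = val K.w (Pt.form p q) := by
  simp [vp, Pt.form, K.prim.val_add K.six, K.prim.val_mul K.six, K.prim.val_conj K.six, H.add_left, H.add_right,
    H.smul_left, H.smul_right, K.frame.ee, K.frame.ef, K.frame.ff, K.frame.fe]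
  ring

theorem vp_add (p q : Pt) : vp K (p.add q) = vp K p + vp K q := by
  simp only [vp, Pt.add, K.prim.val_add K.six, add_smul]
  abel

theorem vp_smul (t : Q4) (p : Pt) : vp K (Pt.smul t p) = val K.w t • vp K p := by
  simp only [vp, Pt.smul, K.prim.val_mul K.six, smul_add, smul_smul]

theorem vp_zero : vp K Pt.zero = 0 := by simp [vp, Pt.zero, val]

theorem vp_third (p q : Pt) : vp K (Pt.third p q) = vp K p + H.h (vp K p) (vp K q) • vp K q := by
  rw [Pt.third, vp_add, vp_smul, vp_h]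

theorem vp_surj [Finite F] (x : V) : ∃ p, vp K p = x := by
  obtain ⟨a0, h0⟩ := K.prim.val_surj K.six (H.h x (K.frame.f 0))
  obtain ⟨a1, h1⟩ := K.prim.val_surj K.six (H.h x (K.frame.f 1))
  obtain ⟨a2, h2⟩ := K.prim.val_surj K.six (H.h x (K.frame.f 2))
  obtain ⟨b0, g0⟩ := K.prim.val_surj K.six (H.h x (K.frame.e 0))
  obtain ⟨b1, g1⟩ := K.prim.val_surj K.six (H.h x (K.frame.e 1))
  obtain ⟨b2, g2⟩ := K.prim.val_surj K.six (H.h x (K.frame.e 2))
  refine ⟨⟨a0, a1, a2, b0, b1, b2⟩, ?_⟩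
  conv_rhs => rw [K.frame.expand K.six x]
  simp only [vp, h0, h1, h2, g0, g1, g2, Fin.sum_univ_three]

theorem vp_inj {p q : Pt} (h : vp K p = vp K q) : p = q := by
  have key : ∀ y : V, H.h (vp K p) y = H.h (vp K q) y := fun y => by rw [h]
  have he := fun i => key (K.frame.e i)
  have hf := fun i => key (K.frame.f i)
  have e0 := he 0; have e1 := he 1; have e2 := he 2; have f0 := hf 0; have f1 := hf 1; have f2 := hf 2
  simp [vp, H.add_left, H.smul_left, K.frame.ee, K.frame.ef, K.frame.ff, K.frame.fe] at e0 e1 e2 f0 f1 f2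
  obtain ⟨a0, a1, a2, b0, b1, b2⟩ := p
  obtain ⟨c0, c1, c2, d0, d1, d2⟩ := q
  have hi : ∀ {a b : Q4}, val K.w a = val K.w b → a = b := fun h => K.prim.val_inj K.six h
  simp only [Pt.mk.injEq]
  exact ⟨hi f0, hi f1, hi f2, hi e0, hi e1, hi e2⟩

theorem vp_ne {p : Pt} (h : p ≠ Pt.zero) : vp K p ≠ 0 := fun e => h (vp_inj K (e.trans (vp_zero K).symm))

theorem val_ne {t : Q4} (h : t ≠ .o) : val K.w t ≠ 0 := fun e => h (K.prim.val_inj K.six (b := .o) e)

theorem same_iff [Finite F] (p q : Pt) : Pt.same p q = true ↔ ∃ a : F, a ≠ 0 ∧ vp K q = a • vp K p := by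
  simp only [Pt.same, List.any_cons, List.any_nil, Bool.or_false, Bool.or_eq_true, decide_eq_true_eq]
  constructor
  · rintro (rfl | rfl | rfl) <;> exact ⟨_, val_ne K (by decide), vp_smul K _ p⟩
  · rintro ⟨a, ha, e⟩
    obtain ⟨t, rfl⟩ := K.prim.val_surj K.six a
    rw [← vp_smul] at e
    rw [vp_inj K e]
    cases t with
    | o => exact absurd rfl ha
    | i => exact Or.inl rfl
    | w => exact Or.inr (Or.inl rfl)
    | v => exact Or.inr (Or.inr rfl)

theorem vp_e0 : vp K e0 = K.frame.e 0 := by simp [vp, e0, val]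

/-- The frame moved by an isometry. -/
def moved (g : H.SIsom) : Coord H where
  six := K.six
  frame :=
    { e := fun i => g.1.1 (K.frame.e i)
      f := fun i => g.1.1 (K.frame.f i)
      ee := fun i j => by rw [H.map_form]; exact K.frame.ee i j
      ff := fun i j => by rw [H.map_form]; exact K.frame.ff i j
      ef := fun i j => by rw [H.map_form]; exact K.frame.ef i j }
  w := K.w
  prim := K.prim

theorem shift_facts : (∀ c : Q4, c ≠ .o → c.mul c.conj = .i) ∧
    (∀ θ a b x y : Q4, Pt.form (⟨θ, a, b, .i, x, y⟩ : Pt) ⟨θ, a, b, .i, x, y⟩ =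
      (θ.add θ.conj).add (Pt.form (wVec a b x y) (wVec a b x y))) := by
  constructor <;> decide +kernel

theorem exists_shift {c θ a b x y : Q4} (hc : c ≠ .o)
    (hiso : (θ.add θ.conj).add (Pt.form (wVec a b x y) (wVec a b x y)) = .o) :
    ∃ K' : Coord H, K'.frame.e 0 = val K.w c • K.frame.e 0 ∧
      K'.frame.f 0 = val K.w c • vp K ⟨θ, a, b, .i, x, y⟩ ∧ K'.w = K.w ∧
      ∀ p q r s : Q4, ∀ l : Q4, vp K' ⟨l, p, q, .o, r, s⟩ =
        vp K ⟨(c.mul l).add (Pt.form (wVec p q r s) (wVec a b x y)), p, q, .o, r, s⟩ := by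
  set u := vp K ⟨θ, a, b, .i, x, y⟩ with hu
  set W := vp K (wVec a b x y) with hW
  have hcc : val K.w c * H.σ (val K.w c) = 1 := by
    rw [← K.prim.val_conj K.six, ← K.prim.val_mul K.six, shift_facts.1 c hc]; rfl
  have huu : H.h u u = 0 := by rw [hu, vp_h, shift_facts.2, hiso]; rfl
  let e : Fin 3 → V := ![val K.w c • K.frame.e 0, K.frame.e 1 + H.h (K.frame.e 1) W • K.frame.e 0,
    K.frame.e 2 + H.h (K.frame.e 2) W • K.frame.e 0]
  let f : Fin 3 → V := ![val K.w c • u, K.frame.f 1 + H.h (K.frame.f 1) W • K.frame.e 0,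
    K.frame.f 2 + H.h (K.frame.f 2) W • K.frame.e 0]
  have hu0 : H.h (K.frame.e 0) u = 1 := by
    simp [hu, vp, H.add_right, H.smul_right, K.frame.ee, K.frame.ef, val]
  have hu1 : ∀ i : Fin 3, i ≠ 0 → H.h (K.frame.e i) u = H.h (K.frame.e i) W ∧
      H.h (K.frame.f i) u = H.h (K.frame.f i) W ∧ H.h u (K.frame.e i) = H.h W (K.frame.e i) ∧
      H.h u (K.frame.f i) = H.h W (K.frame.f i) := fun i hi => by
    fin_cases i
    · exact absurd rfl hi
    all_goals
      simp [hu, hW, vp, wVec, H.add_right, H.smul_right, H.add_left, H.smul_left, K.frame.ee, K.frame.ef, K.frame.ff,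
        K.frame.fe, val]
  obtain ⟨a1, b1, c1, d1⟩ := hu1 1 (by decide)
  obtain ⟨a2, b2, c2, d2⟩ := hu1 2 (by decide)
  have hu0' : H.h u (K.frame.e 0) = 1 := by rw [H.symm, hu0, map_one]
  have hsym : ∀ p q, H.σ (H.h p q) = H.h q p := fun p q => (H.symm q p).symm
  clear_value u W
  let B : Frame H :=
    { e := e
      f := f
      ee := fun i j => by
        fin_cases i <;> fin_cases j <;>
          simp [e, H.add_left, H.add_right, H.smul_left, H.smul_right, K.frame.ee]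
      ff := fun i j => by
        fin_cases i <;> fin_cases j <;>
          simp [f, H.add_left, H.add_right, H.smul_left, H.smul_right, K.frame.ff, K.frame.ee, K.frame.ef,
            K.frame.fe, huu, hu0, hu0', b1, b2, d1, d2, hsym, K.six.add_self, mul_comm]
      ef := fun i j => by
        fin_cases i <;> fin_cases j <;>
          simp [e, f, H.add_left, H.add_right, H.smul_left, H.smul_right, K.frame.ee, K.frame.ef, K.frame.fe,
            huu, hu0, hu0', a1, a2, c1, c2, hsym, K.six.add_self, hcc, mul_comm] }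
  refine ⟨⟨K.six, B, K.w, K.prim⟩, rfl, rfl, rfl, fun p q r s l => ?_⟩
  show val K.w l • e 0 + val K.w p • e 1 + val K.w q • e 2 +
    (val K.w .o • f 0 + val K.w r • f 1 + val K.w s • f 2) = _
  rw [vp, K.prim.val_add K.six, K.prim.val_mul K.six, ← vp_h, ← hW]
  simp only [e, f, Matrix.cons_val, vp, wVec, H.add_left, H.smul_left, show val K.w Q4.o = 0 from rfl, zero_smul,
    zero_mul, zero_add, add_zero]
  module

/-- A frame whose first pair spans two given points. -/
theorem exists_pair [Finite F] {Q : Type w} [Group Q] (φ : H.SIsom →* Q) (hker : φ.ker = Subgroup.center H.SIsom)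
    (hS : IsSixSpace H) {va vb : V} (ha0 : va ≠ 0) (ha : H.h va va = 0) (hb : H.h vb vb = 0)
    (hab : H.h vb va ≠ 0) :
    ∃ K : Coord H, (∃ α : F, α ≠ 0 ∧ va = α • vp K e0) ∧
      ∃ β : F, β ≠ 0 ∧ vb = β • vp K ⟨.o, .o, .o, .i, .o, .o⟩ := by
  haveI := hS.fd
  obtain ⟨K0, -⟩ := exists_coord_through hS ({va} : Set V) (by rintro a rfl b rfl; exact ha)
  have he : K0.frame.e 0 ≠ 0 := fun e => by
    have := K0.frame.ef 0 0
    rw [if_pos rfl, e, H.zero_left] at this
    exact zero_ne_one this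
  obtain ⟨g, hg⟩ := exists_conj hS.cls (hS.tv_mem (K0.frame.ee 0 0) he) (hS.tv_mem ha ha0)
  have hgv : H.h (g.1.1 (K0.frame.e 0)) (g.1.1 (K0.frame.e 0)) = 0 := by rw [H.map_form]; exact K0.frame.ee 0 0
  have htv : g * hS.tv (K0.frame.ee 0 0) * g⁻¹ = hS.tv hgv := H.sisom_ext fun z => by
    rw [H.smul_mul_apply, H.smul_mul_apply, hS.tv_apply, map_add, map_smul, hS.tv_apply]
    have hz : g.1.1 ((g⁻¹ : H.SIsom).1.1 z) = z := H.apply_inv_self g.1 z
    rw [hz]
    congr 2
    conv_rhs => rw [← hz, H.map_form]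
  obtain ⟨α, hα, hαe⟩ := (hS.tv_image_eq_iff φ hker ha hgv ha0).1 (congrArg φ (hg.symm.trans htv))
  set K1 := moved K0 g
  have hαe' : va = α • vp K1 e0 := by rw [vp_e0]; exact hαe
  obtain ⟨⟨t0, t1, t2, s0, s1, s2⟩, hp⟩ := vp_surj K1 vb
  have hs0 : s0 ≠ .o := by
    intro e
    refine hab ?_
    rw [← hp, hαe', H.smul_right, vp_h, e]
    have : ∀ t0 t1 t2 s1 s2 : Q4, Pt.form ⟨t0, t1, t2, .o, s1, s2⟩ M22Rec.e0 = .o := by decide +kernel
    rw [this]; exact mul_zero _
  have hdiv : ∀ s t : Q4, s ≠ .o → ∃ r, s.mul r = t := by decide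
  obtain ⟨θ, rfl⟩ := hdiv s0 t0 hs0
  obtain ⟨a, rfl⟩ := hdiv s0 t1 hs0
  obtain ⟨b, rfl⟩ := hdiv s0 t2 hs0
  obtain ⟨x, rfl⟩ := hdiv s0 s1 hs0
  obtain ⟨y, rfl⟩ := hdiv s0 s2 hs0
  have hvb : vb = val K1.w s0 • vp K1 ⟨θ, a, b, .i, x, y⟩ := by
    rw [← vp_smul, ← hp]
    have : ∀ s : Q4, s.mul .i = s := by decide
    simp only [Pt.smul, this]
  have hiso : (θ.add θ.conj).add (Pt.form (wVec a b x y) (wVec a b x y)) = .o := by
    rw [← shift_facts.2]
    refine K1.prim.val_inj K1.six (b := .o) ?_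
    rw [← vp_h]
    rw [hvb, H.smul_left, H.smul_right, ← mul_assoc, mul_eq_zero] at hb
    exact hb.resolve_left (mul_ne_zero (val_ne K1 hs0) ((map_ne_zero _).2 (val_ne K1 hs0)))
  obtain ⟨K', h0, h1, -, -⟩ := exists_shift K1 (c := .i) (by decide) hiso
  refine ⟨K', ⟨α, hα, ?_⟩, val K1.w s0, val_ne K1 hs0, ?_⟩
  · rw [hαe', vp_e0, vp_e0, h0]; simp [val]
  · rw [hvb]
    simp [vp, h1, val] at *

end Cfsg.Lib.M22Rec
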