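import Cfsg.Agent.M22Rec.Point

/-!
Tables: the isotropic points of the hermitian space of dimension four, one section over them, and the set of 126
points it determines with the derivation of its members and their images in the quadric of minus type.
-/

set_option autoImplicit false

namespace Cfsg.Lib.M22Rec

open Cfsg.Lib.USixFusion

/-- The isotropic points in four dimensions. -/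
def wList : List Pt :=
  [⟨.o, .o, .o, .o, .o, .i⟩,
   ⟨.o, .o, .i, .o, .o, .o⟩,
   ⟨.o, .o, .i, .o, .o, .i⟩,
   ⟨.o, .o, .o, .o, .i, .o⟩,
   ⟨.o, .o, .o, .o, .i, .i⟩,
   ⟨.o, .o, .o, .o, .i, .w⟩,
   ⟨.o, .o, .o, .o, .i, .v⟩,
   ⟨.o, .o, .i, .o, .i, .o⟩,
   ⟨.o, .o, .i, .o, .i, .i⟩,
   ⟨.o, .o, .w, .o, .i, .o⟩,
   ⟨.o, .o, .w, .o, .i, .w⟩,
   ⟨.o, .o, .v, .o, .i, .o⟩,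
   ⟨.o, .o, .v, .o, .i, .v⟩,
   ⟨.o, .i, .o, .o, .o, .o⟩,
   ⟨.o, .i, .o, .o, .o, .i⟩,
   ⟨.o, .i, .o, .o, .o, .w⟩,
   ⟨.o, .i, .o, .o, .o, .v⟩,
   ⟨.o, .i, .i, .o, .o, .o⟩,
   ⟨.o, .i, .i, .o, .o, .i⟩,
   ⟨.o, .i, .w, .o, .o, .o⟩,
   ⟨.o, .i, .w, .o, .o, .w⟩,
   ⟨.o, .i, .v, .o, .o, .o⟩,
   ⟨.o, .i, .v, .o, .o, .v⟩,
   ⟨.o, .i, .o, .o, .i, .o⟩,
   ⟨.o, .i, .o, .o, .i, .i⟩,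
   ⟨.o, .i, .o, .o, .i, .w⟩,
   ⟨.o, .i, .o, .o, .i, .v⟩,
   ⟨.o, .i, .i, .o, .i, .o⟩,
   ⟨.o, .i, .i, .o, .i, .i⟩,
   ⟨.o, .i, .w, .o, .i, .o⟩,
   ⟨.o, .i, .w, .o, .i, .w⟩,
   ⟨.o, .i, .v, .o, .i, .o⟩,
   ⟨.o, .i, .v, .o, .i, .v⟩,
   ⟨.o, .i, .i, .o, .w, .w⟩,
   ⟨.o, .i, .i, .o, .w, .v⟩,
   ⟨.o, .i, .w, .o, .w, .i⟩,
   ⟨.o, .i, .w, .o, .w, .v⟩,
   ⟨.o, .i, .v, .o, .w, .i⟩,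
   ⟨.o, .i, .v, .o, .w, .w⟩,
   ⟨.o, .i, .i, .o, .v, .w⟩,
   ⟨.o, .i, .i, .o, .v, .v⟩,
   ⟨.o, .i, .w, .o, .v, .i⟩,
   ⟨.o, .i, .w, .o, .v, .v⟩,
   ⟨.o, .i, .v, .o, .v, .i⟩,
   ⟨.o, .i, .v, .o, .v, .w⟩]

/-- The section. -/
def lamList : List Q4 :=
  [.w, .i, .v, .o, .o, .w, .w, .v, .i, .v, .o, .o, .i, .o, .o, .w, .w, .v, .i, .v, .o, .o, .i, .o, .o, .w, .w, .v, .i, .v, .o, .o, .i, .w, .o, .o, .v, .i, .o, .w, .o, .o, .v, .i, .o]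

/-- Five generating points. -/
def seeds : List ℕ := [13, 6, 31, 1, 24]

/-- The other points from earlier ones. -/
def wDer : List (ℕ × ℕ × ℕ × Q4) :=
  [(26, 13, 6, .i),
   (11, 13, 31, .i),
   (4, 13, 24, .i),
   (12, 6, 1, .i),
   (15, 6, 24, .i),
   (2, 6, 11, .v),
   (30, 31, 24, .w),
   (44, 31, 4, .i),
   (42, 31, 15, .w),
   (28, 1, 24, .i),
   (32, 1, 26, .w),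
   (8, 1, 4, .i),
   (20, 1, 15, .v),
   (0, 1, 2, .i),
   (25, 1, 30, .v),
   (39, 1, 44, .v),
   (40, 1, 42, .w),
   (35, 24, 11, .i),
   (36, 24, 12, .i),
   (27, 24, 2, .i),
   (10, 24, 44, .w),
   (29, 24, 32, .v),
   (34, 24, 20, .v),
   (22, 24, 39, .v),
   (21, 24, 40, .v),
   (33, 13, 42, .v),
   (5, 13, 25, .i),
   (37, 13, 39, .v),
   (38, 13, 40, .v),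
   (43, 13, 36, .w),
   (7, 13, 27, .i),
   (9, 13, 29, .i),
   (41, 13, 34, .w),
   (14, 6, 25, .i),
   (17, 6, 39, .w),
   (18, 6, 40, .w),
   (19, 6, 35, .v),
   (3, 31, 21, .i),
   (16, 1, 22, .w),
   (23, 11, 21, .i)]

/-- The 126 points. -/
def xList : List Pt :=
  [⟨.i, .o, .o, .o, .o, .o⟩,
   ⟨.i, .o, .o, .o, .o, .v⟩,
   ⟨.i, .o, .i, .o, .o, .o⟩,
   ⟨.i, .o, .w, .o, .o, .w⟩,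
   ⟨.o, .o, .o, .o, .i, .o⟩,
   ⟨.o, .o, .o, .o, .i, .i⟩,
   ⟨.i, .o, .o, .o, .v, .i⟩,
   ⟨.i, .o, .o, .o, .v, .w⟩,
   ⟨.i, .o, .w, .o, .w, .o⟩,
   ⟨.i, .o, .i, .o, .i, .i⟩,
   ⟨.i, .o, .v, .o, .w, .o⟩,
   ⟨.o, .o, .i, .o, .v, .i⟩,
   ⟨.o, .o, .i, .o, .w, .o⟩,
   ⟨.i, .o, .v, .o, .i, .v⟩,
   ⟨.o, .i, .o, .o, .o, .o⟩,
   ⟨.o, .i, .o, .o, .o, .i⟩,
   ⟨.i, .v, .o, .o, .o, .i⟩,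
   ⟨.i, .v, .o, .o, .o, .w⟩,
   ⟨.i, .w, .w, .o, .o, .o⟩,
   ⟨.i, .i, .i, .o, .o, .i⟩,
   ⟨.i, .w, .v, .o, .o, .o⟩,
   ⟨.o, .i, .w, .o, .o, .w⟩,
   ⟨.o, .i, .v, .o, .o, .o⟩,
   ⟨.i, .i, .v, .o, .o, .v⟩,
   ⟨.o, .i, .o, .o, .i, .o⟩,
   ⟨.o, .i, .o, .o, .i, .i⟩,
   ⟨.i, .v, .o, .o, .v, .i⟩,
   ⟨.i, .v, .o, .o, .v, .w⟩,
   ⟨.i, .w, .w, .o, .w, .o⟩,
   ⟨.i, .i, .i, .o, .i, .i⟩,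
   ⟨.i, .w, .v, .o, .w, .o⟩,
   ⟨.o, .i, .w, .o, .i, .w⟩,
   ⟨.o, .i, .v, .o, .i, .o⟩,
   ⟨.i, .i, .v, .o, .i, .v⟩,
   ⟨.i, .v, .v, .o, .i, .i⟩,
   ⟨.o, .i, .i, .o, .w, .v⟩,
   ⟨.o, .i, .w, .o, .w, .i⟩,
   ⟨.i, .w, .v, .o, .v, .i⟩,
   ⟨.i, .i, .v, .o, .w, .i⟩,
   ⟨.o, .i, .v, .o, .w, .w⟩,
   ⟨.i, .v, .v, .o, .w, .i⟩,
   ⟨.o, .i, .i, .o, .v, .v⟩,
   ⟨.o, .i, .w, .o, .v, .i⟩,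
   ⟨.i, .w, .v, .o, .i, .i⟩,
   ⟨.i, .i, .v, .o, .v, .i⟩,
   ⟨.o, .i, .v, .o, .v, .w⟩,
   ⟨.i, .o, .w, .v, .o, .v⟩,
   ⟨.i, .o, .i, .w, .o, .w⟩,
   ⟨.i, .o, .w, .v, .w, .i⟩,
   ⟨.o, .o, .i, .w, .w, .i⟩,
   ⟨.i, .o, .v, .i, .w, .o⟩,
   ⟨.o, .o, .o, .i, .v, .i⟩,
   ⟨.i, .o, .o, .i, .v, .w⟩,
   ⟨.i, .o, .i, .i, .i, .i⟩,
   ⟨.i, .o, .v, .v, .v, .w⟩,
   ⟨.i, .o, .i, .v, .i, .v⟩,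
   ⟨.o, .o, .i, .v, .i, .o⟩,
   ⟨.i, .w, .w, .v, .o, .i⟩,
   ⟨.o, .i, .v, .i, .o, .v⟩,
   ⟨.i, .w, .v, .i, .o, .o⟩,
   ⟨.o, .i, .o, .w, .o, .w⟩,
   ⟨.i, .v, .o, .i, .o, .w⟩,
   ⟨.i, .i, .i, .i, .o, .i⟩,
   ⟨.i, .v, .v, .v, .o, .w⟩,
   ⟨.i, .i, .i, .v, .o, .v⟩,
   ⟨.o, .i, .i, .v, .o, .o⟩,
   ⟨.i, .w, .w, .v, .w, .i⟩,
   ⟨.o, .i, .v, .i, .i, .v⟩,
   ⟨.i, .w, .v, .i, .w, .o⟩,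
   ⟨.o, .i, .o, .w, .i, .w⟩,
   ⟨.i, .v, .o, .i, .v, .w⟩,
   ⟨.i, .i, .i, .i, .i, .i⟩,
   ⟨.i, .v, .v, .v, .v, .w⟩,
   ⟨.i, .i, .i, .v, .i, .v⟩,
   ⟨.o, .i, .i, .v, .i, .o⟩,
   ⟨.i, .o, .i, .w, .i, .v⟩,
   ⟨.i, .o, .v, .i, .i, .v⟩,
   ⟨.o, .o, .i, .w, .v, .o⟩,
   ⟨.i, .o, .o, .i, .v, .i⟩,
   ⟨.o, .o, .o, .i, .v, .w⟩,
   ⟨.o, .o, .i, .i, .i, .i⟩,
   ⟨.i, .o, .w, .w, .w, .i⟩,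
   ⟨.i, .o, .v, .w, .v, .w⟩,
   ⟨.i, .o, .w, .i, .w, .o⟩,
   ⟨.i, .i, .i, .w, .o, .v⟩,
   ⟨.i, .i, .v, .i, .o, .v⟩,
   ⟨.o, .i, .w, .v, .o, .o⟩,
   ⟨.i, .v, .o, .i, .o, .i⟩,
   ⟨.o, .i, .o, .w, .o, .v⟩,
   ⟨.o, .i, .i, .i, .o, .i⟩,
   ⟨.i, .w, .w, .w, .o, .i⟩,
   ⟨.i, .v, .v, .w, .o, .w⟩,
   ⟨.i, .w, .w, .i, .o, .o⟩,
   ⟨.i, .i, .i, .w, .i, .v⟩,
   ⟨.i, .i, .v, .i, .i, .v⟩,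
   ⟨.o, .i, .w, .v, .i, .o⟩,
   ⟨.i, .v, .o, .i, .v, .i⟩,
   ⟨.o, .i, .o, .w, .i, .v⟩,
   ⟨.o, .i, .i, .i, .i, .i⟩,
   ⟨.i, .w, .w, .w, .w, .i⟩,
   ⟨.i, .v, .v, .w, .v, .w⟩,
   ⟨.i, .w, .w, .i, .w, .o⟩,
   ⟨.o, .o, .i, .v, .o, .i⟩,
   ⟨.i, .o, .i, .v, .o, .w⟩,
   ⟨.i, .o, .v, .v, .o, .i⟩,
   ⟨.i, .o, .i, .i, .o, .o⟩,
   ⟨.i, .w, .v, .i, .v, .i⟩,
   ⟨.o, .i, .v, .i, .v, .i⟩,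
   ⟨.i, .w, .v, .i, .i, .i⟩,
   ⟨.o, .i, .v, .i, .w, .i⟩,
   ⟨.i, .o, .v, .w, .o, .i⟩,
   ⟨.i, .o, .w, .i, .o, .w⟩,
   ⟨.o, .o, .o, .i, .o, .v⟩,
   ⟨.i, .o, .o, .i, .o, .o⟩,
   ⟨.o, .i, .w, .v, .v, .v⟩,
   ⟨.i, .v, .v, .i, .i, .i⟩,
   ⟨.o, .i, .w, .v, .w, .v⟩,
   ⟨.i, .v, .v, .i, .w, .i⟩,
   ⟨.o, .o, .i, .i, .o, .o⟩,
   ⟨.i, .o, .w, .w, .o, .v⟩,
   ⟨.o, .o, .o, .i, .o, .o⟩,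
   ⟨.i, .o, .o, .i, .o, .v⟩,
   ⟨.i, .i, .v, .i, .w, .i⟩,
   ⟨.o, .i, .i, .w, .v, .w⟩,
   ⟨.i, .i, .v, .i, .v, .i⟩,
   ⟨.o, .i, .i, .w, .w, .w⟩]

/-- Their derivation, from the forty-seventh on. -/
def xDer : List (ℕ × ℕ) :=
  [(46, 0), (46, 5), (46, 6), (46, 7), (46, 8), (46, 9), (46, 10), (46, 11), (46, 12), (46, 13), (46, 15), (46, 16), (46, 17), (46, 18), (46, 19), (46, 20), (46, 21), (46, 22), (46, 23), (46, 25), (46, 26), (46, 27), (46, 28), (46, 29), (46, 30), (46, 31), (46, 32), (46, 33), (47, 5), (47, 6), (47, 7), (47, 8), (47, 9), (47, 10), (47, 11), (47, 12), (47, 13), (47, 15), (47, 16), (47, 17), (47, 18), (47, 19), (47, 20), (47, 21), (47, 22), (47, 23), (47, 25), (47, 26), (47, 27), (47, 28), (47, 29), (47,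 30), (47, 31), (47, 32), (47, 33), (48, 10), (48, 11), (48, 12), (48, 13), (48, 16), (48, 17), (48, 26), (48, 27), (49, 8), (49, 9), (49, 12), (49, 13), (49, 15), (49, 17), (49, 25), (49, 27), (50, 8), (50, 9), (50, 10), (50, 11), (50, 15), (50, 16), (50, 25), (50, 26)]

/-- A point orthogonal to the first one of the section, seeing the four candidates. -/
def qPt : Pt := ⟨.o, .o, .i, .w, .o, .o⟩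

/-- The scalar of the surviving candidate. -/
def goodC : Q4 := .w

/-- For the other candidates: a derivation ending outside the section. -/
def badList : List (Q4 × List (ℕ × ℕ) × List Pt) :=
  [(.o, [(46, 0), (47, 5), (46, 18), (48, 49)], [⟨.o, .o, .i, .w, .o, .o⟩, ⟨.i, .o, .v, .i, .o, .o⟩, ⟨.i, .o, .v, .i, .v, .v⟩, ⟨.i, .w, .i, .i, .o, .o⟩, ⟨.o, .i, .i, .o, .w, .w⟩]),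
   (.v, [(46, 0), (47, 6), (46, 20), (48, 49)], [⟨.i, .o, .i, .w, .o, .v⟩, ⟨.i, .o, .w, .v, .o, .i⟩, ⟨.o, .o, .i, .w, .w, .o⟩, ⟨.i, .v, .w, .i, .o, .w⟩, ⟨.i, .v, .i, .o, .i, .w⟩]),
   (.i, [(46, 0), (47, 5), (46, 18), (48, 49)], [⟨.i, .o, .v, .i, .o, .v⟩, ⟨.o, .o, .i, .w, .o, .i⟩, ⟨.o, .o, .i, .w, .i, .o⟩, ⟨.i, .v, .i, .v, .o, .w⟩, ⟨.i, .v, .v, .o, .w, .w⟩])]

/-- The images in the quadric. -/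
def sigList : List (List ℕ) :=
  [[0, 0, 0, 0, 0, 1],
   [1, 1, 0, 2, 0, 0],
   [1, 1, 1, 0, 0, 0],
   [0, 0, 1, 1, 0, 0],
   [1, 1, 2, 1, 2, 0],
   [0, 1, 1, 0, 1, 0],
   [1, 0, 1, 0, 1, 0],
   [0, 0, 0, 1, 1, 0],
   [0, 1, 0, 2, 1, 0],
   [1, 0, 0, 0, 2, 0],
   [1, 0, 0, 2, 1, 0],
   [0, 1, 0, 0, 2, 0],
   [0, 0, 1, 0, 2, 0],
   [1, 1, 1, 2, 2, 0],
   [0, 0, 0, 0, 1, 0],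
   [1, 0, 1, 1, 0, 0],
   [0, 1, 1, 1, 0, 0],
   [1, 1, 2, 0, 0, 0],
   [1, 0, 2, 2, 0, 0],
   [1, 2, 1, 2, 0, 0],
   [0, 1, 2, 2, 0, 0],
   [1, 2, 2, 1, 0, 0],
   [1, 1, 0, 1, 0, 0],
   [1, 1, 0, 0, 0, 0],
   [1, 1, 2, 1, 1, 0],
   [0, 1, 1, 0, 2, 0],
   [1, 0, 1, 0, 2, 0],
   [0, 0, 0, 1, 2, 0],
   [0, 1, 0, 2, 2, 0],
   [1, 0, 0, 0, 1, 0],
   [1, 0, 0, 2, 2, 0],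
   [0, 1, 0, 0, 1, 0],
   [0, 0, 1, 0, 1, 0],
   [1, 1, 1, 2, 1, 0],
   [0, 1, 0, 1, 1, 0],
   [1, 0, 0, 1, 2, 0],
   [0, 1, 2, 0, 1, 0],
   [1, 2, 2, 2, 1, 0],
   [1, 0, 2, 0, 2, 0],
   [1, 2, 1, 1, 1, 0],
   [1, 0, 2, 0, 1, 0],
   [1, 2, 1, 1, 2, 0],
   [1, 0, 0, 1, 1, 0],
   [0, 1, 0, 1, 2, 0],
   [1, 2, 2, 2, 2, 0],
   [0, 1, 2, 0, 2, 0],
   [1, 1, 2, 1, 0, 1],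
   [1, 1, 2, 1, 0, 2],
   [1, 2, 0, 1, 1, 1],
   [1, 2, 0, 2, 2, 2],
   [1, 1, 2, 2, 1, 1],
   [1, 2, 2, 0, 1, 1],
   [0, 1, 2, 1, 1, 1],
   [1, 2, 1, 0, 2, 2],
   [1, 0, 2, 1, 1, 1],
   [1, 1, 1, 1, 1, 1],
   [0, 0, 1, 2, 1, 1],
   [0, 1, 1, 0, 0, 1],
   [1, 0, 1, 0, 0, 1],
   [0, 0, 0, 1, 0, 1],
   [0, 1, 0, 2, 0, 1],
   [1, 0, 0, 0, 0, 2],
   [1, 0, 0, 2, 0, 1],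
   [0, 1, 0, 0, 0, 2],
   [0, 0, 1, 0, 0, 2],
   [1, 1, 1, 2, 0, 2],
   [1, 2, 0, 1, 2, 1],
   [1, 2, 0, 2, 1, 2],
   [1, 1, 2, 2, 2, 1],
   [1, 2, 2, 0, 2, 1],
   [0, 1, 2, 1, 2, 1],
   [1, 2, 1, 0, 1, 2],
   [1, 0, 2, 1, 2, 1],
   [1, 1, 1, 1, 2, 1],
   [0, 0, 1, 2, 2, 1],
   [1, 2, 0, 1, 1, 2],
   [1, 2, 0, 2, 2, 1],
   [1, 1, 2, 2, 1, 2],
   [1, 2, 2, 0, 1, 2],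
   [0, 1, 2, 1, 1, 2],
   [1, 2, 1, 0, 2, 1],
   [1, 0, 2, 1, 1, 2],
   [1, 1, 1, 1, 1, 2],
   [0, 0, 1, 2, 1, 2],
   [0, 1, 1, 0, 0, 2],
   [1, 0, 1, 0, 0, 2],
   [0, 0, 0, 1, 0, 2],
   [0, 1, 0, 2, 0, 2],
   [1, 0, 0, 0, 0, 1],
   [1, 0, 0, 2, 0, 2],
   [0, 1, 0, 0, 0, 1],
   [0, 0, 1, 0, 0, 1],
   [1, 1, 1, 2, 0, 1],
   [1, 2, 0, 1, 2, 2],
   [1, 2, 0, 2, 1, 1],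
   [1, 1, 2, 2, 2, 2],
   [1, 2, 2, 0, 2, 2],
   [0, 1, 2, 1, 2, 2],
   [1, 2, 1, 0, 1, 1],
   [1, 0, 2, 1, 2, 2],
   [1, 1, 1, 1, 2, 2],
   [0, 0, 1, 2, 2, 2],
   [0, 1, 0, 1, 0, 2],
   [1, 0, 0, 1, 0, 1],
   [1, 2, 1, 1, 0, 1],
   [1, 0, 2, 0, 0, 2],
   [1, 0, 1, 2, 1, 1],
   [1, 0, 1, 2, 2, 2],
   [0, 1, 1, 2, 1, 2],
   [1, 2, 0, 0, 2, 1],
   [1, 0, 0, 1, 0, 2],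
   [0, 1, 0, 1, 0, 1],
   [1, 2, 2, 2, 0, 2],
   [0, 1, 2, 0, 0, 2],
   [0, 1, 1, 2, 1, 1],
   [0, 1, 1, 2, 2, 2],
   [1, 0, 1, 2, 1, 2],
   [1, 2, 0, 0, 1, 2],
   [1, 0, 2, 0, 0, 1],
   [1, 2, 1, 1, 0, 2],
   [0, 1, 2, 0, 0, 1],
   [1, 2, 2, 2, 0, 1],
   [1, 2, 0, 0, 2, 2],
   [1, 2, 0, 0, 1, 1],
   [1, 0, 1, 2, 2, 1],
   [0, 1, 1, 2, 2, 1]]

end Cfsg.Lib.M22Rec
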