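import Cfsg.Agent.M22Rec.Tables

/-!
The action of some of the 126 points on all of them, by points and by reflections in the quadric.
-/

set_option autoImplicit false

namespace Cfsg.Lib.M22Rec

open Cfsg.Lib.USixFusion

/-- Generating indices. -/
def genList : List ℕ := [0, 46, 102, 1, 5, 14]

/-- The third points, for each generating index. -/
def actTab : List (List ℕ) :=
  [[0, 1, 2, 3, 4, 5, 6, 7, 8, 9, 10, 11, 12, 13, 14, 15, 16, 17, 18, 19, 20,
    21, 22, 23, 24, 25, 26, 27, 28, 29, 30, 31, 32, 33, 34, 35, 36, 37, 38, 39, 40, 41,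
    42, 43, 44, 45, 47, 46, 75, 76, 77, 78, 79, 80, 81, 82, 83, 84, 85, 86, 87, 88, 89,
    90, 91, 92, 93, 94, 95, 96, 97, 98, 99, 100, 101, 48, 49, 50, 51, 52, 53, 54, 55, 56,
    57, 58, 59, 60, 61, 62, 63, 64, 65, 66, 67, 68, 69, 70, 71, 72, 73, 74, 111, 110, 119,
    118, 116, 124, 114, 122, 103, 102, 121, 120, 108, 125, 106, 123, 105, 104, 113, 112, 109, 117, 107, 115],
   [47, 1, 2, 3, 4, 48, 49, 50, 51, 52, 53, 54, 55, 56, 14, 57, 58, 59, 60, 61, 62,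
    63, 64, 65, 24, 66, 67, 68, 69, 70, 71, 72, 73, 74, 34, 35, 36, 37, 38, 39, 40, 41,
    42, 43, 44, 45, 46, 0, 5, 6, 7, 8, 9, 10, 11, 12, 13, 15, 16, 17, 18, 19, 20,
    21, 22, 23, 25, 26, 27, 28, 29, 30, 31, 32, 33, 75, 76, 77, 78, 79, 80, 81, 82, 83,
    84, 85, 86, 87, 88, 89, 90, 91, 92, 93, 94, 95, 96, 97, 98, 99, 100, 101, 105, 104, 103,
    102, 109, 108, 107, 106, 113, 112, 111, 110, 117, 116, 115, 114, 121, 120, 119, 118, 125, 124, 123, 122],
   [111, 103, 119, 113, 4, 56, 82, 7, 8, 76, 48, 11, 79, 53, 14, 65, 91, 17, 18, 85, 57,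
    21, 88, 62, 24, 74, 100, 27, 28, 94, 66, 31, 97, 71, 34, 109, 125, 37, 38, 116, 40, 107,
    123, 43, 44, 114, 105, 121, 10, 49, 81, 77, 52, 13, 78, 55, 5, 20, 58, 90, 86, 61, 23,
    87, 64, 15, 30, 67, 99, 95, 70, 33, 96, 73, 25, 75, 9, 51, 54, 12, 80, 50, 6, 83,
    84, 19, 60, 63, 22, 89, 59, 16, 92, 93, 29, 69, 72, 32, 98, 68, 26, 101, 102, 1, 104,
    46, 106, 41, 108, 35, 110, 0, 118, 3, 45, 115, 39, 117, 112, 2, 120, 47, 122, 42, 124, 36],
   [0, 1, 3, 2, 4, 5, 6, 7, 9, 8, 11, 10, 13, 12, 14, 15, 16, 17, 19, 18, 21,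
    20, 23, 22, 24, 25, 26, 27, 29, 28, 31, 30, 33, 32, 35, 34, 37, 36, 39, 38, 41, 40,
    43, 42, 45, 44, 46, 47, 48, 49, 50, 52, 51, 54, 53, 56, 55, 57, 58, 59, 61, 60, 63,
    62, 65, 64, 66, 67, 68, 70, 69, 72, 71, 74, 73, 75, 76, 77, 79, 78, 81, 80, 83, 82,
    84, 85, 86, 88, 87, 90, 89, 92, 91, 93, 94, 95, 97, 96, 99, 98, 101, 100, 103, 102, 105,
    104, 106, 107, 108, 109, 111, 110, 113, 112, 114, 115, 116, 117, 119, 118, 121, 120, 122, 123, 124, 125],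
   [0, 1, 9, 8, 4, 5, 6, 7, 3, 2, 13, 12, 11, 10, 25, 24, 27, 26, 18, 19, 43,
    42, 39, 38, 15, 14, 17, 16, 28, 29, 37, 36, 45, 44, 34, 35, 31, 30, 23, 22, 40, 41,
    21, 20, 33, 32, 48, 75, 46, 77, 76, 51, 52, 105, 104, 103, 102, 57, 109, 108, 97, 96, 62,
    63, 64, 65, 66, 107, 106, 88, 87, 71, 72, 73, 74, 47, 50, 49, 78, 79, 118, 119, 110, 111,
    84, 122, 114, 70, 69, 89, 90, 91, 92, 93, 124, 116, 61, 60, 98, 99, 100, 101, 56, 55, 54,
    53, 68, 67, 59, 58, 82, 83, 112, 113, 86, 115, 95, 117, 80, 81, 120, 121, 85, 123, 94, 125],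
   [0, 1, 2, 3, 24, 25, 26, 27, 28, 29, 30, 31, 32, 33, 14, 15, 16, 17, 18, 19, 20,
    21, 22, 23, 4, 5, 6, 7, 8, 9, 10, 11, 12, 13, 43, 42, 45, 44, 40, 41, 38, 39,
    35, 34, 37, 36, 46, 47, 66, 67, 68, 69, 70, 71, 72, 73, 74, 57, 58, 59, 60, 61, 62,
    63, 64, 65, 48, 49, 50, 51, 52, 53, 54, 55, 56, 93, 94, 95, 96, 97, 98, 99, 100, 101,
    84, 85, 86, 87, 88, 89, 90, 91, 92, 75, 76, 77, 78, 79, 80, 81, 82, 83, 102, 103, 104,
    105, 124, 116, 115, 123, 110, 111, 112, 113, 125, 108, 107, 122, 118, 119, 120, 121, 117, 109, 106, 114]]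

/-- The other indices from the generating ones: index, number of the generator, earlier index. -/
def actDer : List (ℕ × ℕ × ℕ) :=
  [(47, 0, 46), (111, 0, 102), (105, 1, 102), (48, 1, 5), (112, 1, 111), (103, 2, 1), (56, 2, 5), (121, 2, 47), (10, 2, 48),
   (118, 2, 112), (110, 3, 111), (104, 3, 105), (113, 3, 112), (55, 3, 56), (120, 3, 121), (11, 3, 10), (119, 3, 118), (25, 4, 14),
   (75, 4, 47), (83, 4, 111), (53, 4, 105), (13, 4, 10), (80, 4, 118), (82, 4, 110), (54, 4, 104), (12, 4, 11), (81, 4, 119),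
   (66, 5, 48), (74, 5, 56), (30, 5, 10), (73, 5, 55), (31, 5, 11), (93, 5, 75), (101, 5, 83), (71, 5, 53), (33, 5, 13),
   (98, 5, 80), (100, 5, 82), (72, 5, 54), (32, 5, 12), (99, 5, 81), (3, 2, 113), (2, 2, 119), (6, 2, 82), (78, 2, 54),
   (79, 2, 12), (50, 2, 81), (26, 2, 100), (96, 2, 72), (97, 2, 32), (68, 2, 99), (37, 4, 30), (36, 4, 31), (44, 4, 33),
   (45, 4, 32), (8, 4, 3), (9, 4, 2), (76, 4, 50), (17, 4, 26), (61, 4, 96), (60, 4, 97), (106, 4, 68), (28, 5, 8),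
   (29, 5, 9), (94, 5, 76), (124, 5, 106), (51, 0, 78), (52, 0, 79), (77, 0, 50), (69, 0, 96), (70, 0, 97), (95, 0, 68),
   (49, 0, 76), (88, 0, 61), (87, 0, 60), (116, 0, 106), (67, 0, 94), (107, 0, 124), (7, 1, 50), (27, 1, 68), (59, 1, 17),
   (19, 1, 61), (18, 1, 60), (109, 1, 106), (123, 1, 124), (115, 1, 116), (108, 1, 107), (125, 2, 36), (114, 2, 45), (86, 2, 60),
   (22, 2, 88), (63, 2, 87), (39, 2, 116), (41, 2, 107), (90, 2, 59), (85, 2, 19), (35, 2, 109), (42, 2, 123), (23, 3, 22),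
   (62, 3, 63), (38, 3, 39), (40, 3, 41), (89, 3, 90), (34, 3, 35), (43, 3, 42), (16, 4, 27), (58, 4, 109), (122, 4, 85),
   (21, 4, 42), (20, 4, 43), (117, 5, 122), (64, 1, 22), (65, 1, 23), (91, 2, 16), (57, 2, 20), (15, 2, 65), (92, 3, 91),
   (24, 4, 15), (4, 5, 24), (84, 0, 57)]

/-- An index. -/
def fin126 (n : ℕ) : Fin 126 := ⟨n % 126, Nat.mod_lt _ (by norm_num)⟩

/-- The action. -/
def act (n : ℕ) (i : Fin 126) : Fin 126 := fin126 ((actTab.getD n []).getD i.val 0)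

/-- The vector of an index. -/
def sigVec (i : Fin 126) : Fin 6 → ZMod 3 := fun k => (((sigList.getD i.val []).getD k.val 0 : ℕ) : ZMod 3)

/-- The polar form of the quadric. -/
def sigForm (x y : Fin 6 → ZMod 3) : ZMod 3 :=
  x 0 * y 1 + x 1 * y 0 + (x 2 * y 3 + x 3 * y 2) + (x 4 * y 4 * 2 + x 5 * y 5 * 2)

/-- Equal up to sign, coordinatewise. -/
def pmEq (x y : Fin 6 → ZMod 3) : Bool :=
  (List.finRange 6).all (fun k => decide (x k = y k)) || (List.finRange 6).all (fun k => decide (x k = -y k))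

theorem act_points : ∀ n : Fin 6, ∀ i : Fin 126,
    Pt.same (Pt.third (xPt i) (xPt (fin126 (genList.getD n.val 0)))) (xPt (act n.val i)) = true := by
  decide +kernel

theorem act_sig : ∀ n : Fin 6, ∀ i : Fin 126,
    pmEq (fun k => sigVec i k - sigForm (sigVec (fin126 (genList.getD n.val 0))) (sigVec i) *
      sigVec (fin126 (genList.getD n.val 0)) k) (sigVec (act n.val i)) = true := by
  decide +kernel

theorem act_order : (List.range 126).all (fun k => (genList ++ actDer.map (·.1)).contains k) = true ∧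
    (List.range actDer.length).all (fun m =>
      let e := actDer.getD m (0, 0, 0)
      decide (e.2.1 < 6) && decide ((act e.2.1 (fin126 e.2.2)).val = e.1) &&
        (genList ++ (actDer.take m).map (·.1)).contains e.2.2) = true := by
  decide +kernel

theorem sig_norm : ∀ i : Fin 126,
    sigVec i 0 * sigVec i 1 + sigVec i 2 * sigVec i 3 + sigVec i 4 * sigVec i 4 + sigVec i 5 * sigVec i 5 = 1 := by
  decide +kernel

theorem sig_inj : ∀ i j : Fin 126, pmEq (sigVec i) (sigVec j) = true → i = j := by decide +kernel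

theorem sig_cover : ∀ a b c d e f : ZMod 3, a * b + c * d + e * e + f * f = 1 →
    ∃ i : Fin 126, pmEq ![a, b, c, d, e, f] (sigVec i) = true := by decide +kernel

end Cfsg.Lib.M22Rec
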