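import Cfsg.Agent.M22Rec.All
import Cfsg.Agent.M22Rec.Quadric
import Cfsg.Agent.ThreeTransposition.M22Count.MuValue

/-!
The group generated by the members commuting with a noncommuting pair, modulo its centre, is the projective group of
the reflections of norm one in the orthogonal space of minus type and dimension six over the field with three elements.
-/

set_option autoImplicit false
set_option linter.unusedSectionVars false
set_option linter.style.haveILetI false

namespace Cfsg.Lib.M22Rec

open Subgroup Cfsg.Lib.Classical Cfsg.Lib.ThreeTr Cfsg.Lib.USixFusion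

universe u v w w'

/-- The action of a group on a generating family of involutions permuted by it. -/
theorem perm_model {A : Type*} [Group A] {ι : Type*} [Finite ι] (a : ι → A) (hinj : Function.Injective a)
    (h2 : ∀ i, a i * a i = 1) (J : ι → Prop) (hgen : closure (a '' {j | J j}) = ⊤) (σ : ι → ι → ι)
    (hσ : ∀ j, J j → ∀ i, a j * a i * a j = a (σ j i)) :
    ∃ Φ : A →* Equiv.Perm ι, Φ.ker = center A ∧
      Φ.range = closure {π : Equiv.Perm ι | ∃ j, J j ∧ ∀ i, π i = σ j i} := by
  have hstable : ∀ (g : A) (i : ι), ∃ k, g * a i * g⁻¹ = a k := by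
    intro g
    have hg : g ∈ closure (a '' {j | J j}) := by rw [hgen]; exact mem_top g
    induction hg using closure_induction with
    | mem y hy =>
      obtain ⟨j, hj, rfl⟩ := hy
      exact fun i => ⟨σ j i, by rw [inv_eq_of_mul_eq_one_right (h2 j), hσ j hj i]⟩
    | one => exact fun i => ⟨i, by group⟩
    | mul p q _ _ hp hq =>
      intro i
      obtain ⟨k, hk⟩ := hq i
      obtain ⟨l, hl⟩ := hp k
      exact ⟨l, by rw [← hl, ← hk]; group⟩
    | inv p _ hp =>
      choose f hf using hp
      have hfi : Function.Injective f := fun i i' e =>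
        hinj (mul_left_cancel (mul_right_cancel ((hf i).trans ((congrArg a e).trans (hf i').symm))))
      intro i
      obtain ⟨k, rfl⟩ := (Finite.injective_iff_surjective.1 hfi) i
      exact ⟨k, by rw [← hf k]; group⟩
  choose f hf using hstable
  have h1 : ∀ i, f 1 i = i := fun i => hinj (by rw [← hf]; group)
  have hm : ∀ g h i, f (g * h) i = f g (f h i) := fun g h i => hinj (by rw [← hf, ← hf, ← hf]; group)
  let Φ : A →* Equiv.Perm ι :=
    { toFun := fun g => ⟨f g, f g⁻¹, fun i => by rw [← hm, inv_mul_cancel, h1], fun i => by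
        rw [← hm, mul_inv_cancel, h1]⟩
      map_one' := Equiv.ext h1
      map_mul' := fun g h => Equiv.ext (hm g h) }
  refine ⟨Φ, ?_, ?_⟩
  · ext g
    rw [MonoidHom.mem_ker]
    constructor
    · intro hg
      have hfix : ∀ i, f g i = i := fun i => Equiv.congr_fun hg i
      refine mem_center_iff.2 fun y => ?_
      have hy : y ∈ closure (a '' {j | J j}) := by rw [hgen]; exact mem_top y
      have hle : closure (a '' {j | J j}) ≤ centralizer ({g} : Set A) := (closure_le _).2 (by
        rintro _ ⟨j, -, rfl⟩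
        refine mem_centralizer_singleton_iff.2 ?_
        have := hf g j
        rw [hfix] at this
        conv_lhs => rw [← this]
        group)
      exact mem_centralizer_singleton_iff.1 (hle hy)
    · intro hg
      refine Equiv.ext fun i => hinj ?_
      show a (f g i) = a i
      rw [← hf, ← mem_center_iff.1 hg (a i), mul_inv_cancel_right]
  · have hset : Φ '' (a '' {j | J j}) = {π : Equiv.Perm ι | ∃ j, J j ∧ ∀ i, π i = σ j i} := by
      have key : ∀ j, J j → ∀ i, Φ (a j) i = σ j i := fun j hj i => hinj (by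
        show a (f (a j) i) = _
        rw [← hf, inv_eq_of_mul_eq_one_right (h2 j), hσ j hj i])
      ext π
      constructor
      · rintro ⟨_, ⟨j, hj, rfl⟩, rfl⟩
        exact ⟨j, hj, key j hj⟩
      · rintro ⟨j, hj, h⟩
        exact ⟨a j, ⟨j, hj, rfl⟩, Equiv.ext fun i => by rw [key j hj, h]⟩
    rw [← hset, ← MonoidHom.map_closure, hgen, ← MonoidHom.range_eq_map]

/-- Two generating families with the same action give the same group modulo centres. -/
theorem quotient_iso {A : Type*} [Group A] {B : Type*} [Group B] {ι : Type*} [Finite ι] (a : ι → A) (b : ι → B)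
    (ha : Function.Injective a) (hb : Function.Injective b) (ha2 : ∀ i, a i * a i = 1) (hb2 : ∀ i, b i * b i = 1)
    (J : ι → Prop) (hga : closure (a '' {j | J j}) = ⊤) (hgb : closure (b '' {j | J j}) = ⊤) (σ : ι → ι → ι)
    (hsa : ∀ j, J j → ∀ i, a j * a i * a j = a (σ j i)) (hsb : ∀ j, J j → ∀ i, b j * b i * b j = b (σ j i)) :
    Nonempty ((A ⧸ center A) ≃* (B ⧸ center B)) := by
  obtain ⟨Φ, hΦ, hΦr⟩ := perm_model a ha ha2 J hga σ hsa
  obtain ⟨Ψ, hΨ, hΨr⟩ := perm_model b hb hb2 J hgb σ hsb
  exact ⟨(QuotientGroup.quotientMulEquivOfEq hΦ).symm.trans ((QuotientGroup.quotientKerEquivRange Φ).trans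
    ((MulEquiv.subgroupCongr (hΦr.trans hΨr.symm)).trans ((QuotientGroup.quotientKerEquivRange Ψ).symm.trans
      (QuotientGroup.quotientMulEquivOfEq hΨ))))⟩

/-- All indices come from the generating ones. -/
theorem derive_all {A : Type*} [Group A] (H : Subgroup A) (a : Fin 126 → A)
    (hJ : ∀ n : Fin 6, a (fin126 (genList.getD n.val 0)) ∈ H)
    (hσ : ∀ n : Fin 6, ∀ i : Fin 126,
      a (fin126 (genList.getD n.val 0)) * a i * a (fin126 (genList.getD n.val 0)) = a (act n.val i)) :
    ∀ k, a k ∈ H := by
  have hgl : genList.length = 6 := by decide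
  have key : ∀ m ≤ actDer.length, ∀ k ∈ genList ++ (actDer.take m).map (·.1), a (fin126 k) ∈ H := by
    intro m
    induction m with
    | zero =>
      intro _ k hk
      simp only [List.take_zero, List.map_nil, List.append_nil] at hk
      obtain ⟨n, hn, rfl⟩ := List.mem_iff_getElem.1 hk
      have := hJ ⟨n, hgl ▸ hn⟩
      simp only [List.getD_eq_getElem _ _ hn] at this
      exact this
    | succ m ih =>
      intro hm k hk
      rw [List.take_succ_eq_append_getElem (by omega : m < actDer.length), List.map_append, ← List.append_assoc,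
        List.mem_append] at hk
      rcases hk with hk | hk
      · exact ih (by omega) k hk
      simp only [List.map_cons, List.map_nil, List.mem_singleton] at hk
      subst hk
      have ho := List.all_eq_true.1 act_order.2 m (List.mem_range.2 (by omega))
      simp only [List.getD_eq_getElem _ _ (show m < actDer.length by omega), Bool.and_eq_true, decide_eq_true_eq,
        List.contains_iff_mem] at ho
      obtain ⟨⟨h1, h2⟩, h3⟩ := ho
      set e := actDer[m]
      have hk2 : fin126 e.1 = act e.2.1 (fin126 e.2.2) := by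
        rw [← h2]
        exact Fin.ext (Nat.mod_eq_of_lt (Fin.is_lt _))
      rw [hk2, ← hσ ⟨e.2.1, h1⟩]
      exact mul_mem (mul_mem (hJ _) (ih (by omega) _ h3)) (hJ _)
  intro k
  have hk := List.all_eq_true.1 act_order.1 k.val (List.mem_range.2 k.2)
  rw [List.contains_iff_mem, ← List.take_length (l := actDer)] at hk
  have := key _ le_rfl k.val hk
  have hf : fin126 k.val = k := Fin.ext (Nat.mod_eq_of_lt k.2)
  rwa [hf] at this

theorem sigForm_polar (x y : Fin 6 → ZMod 3) :
    QuadraticMap.polar (⇑formSix) x y = sigForm x y := by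
  simp only [QuadraticMap.polar, formSix_apply, Pi.add_apply, sigForm]
  ring

theorem formSix_sig (i : Fin 126) : formSix (sigVec i) = 1 := by rw [formSix_apply]; exact sig_norm i

theorem pmEq_iff (x y : Fin 6 → ZMod 3) : pmEq x y = true ↔ x = y ∨ x = -y := by
  simp [pmEq, funext_iff]

/-- The reflection of an index. -/
noncomputable def sigRefl (i : Fin 126) : ↥(Cfsg.reflectionSubgroup (⇑formSix) (1 : ZMod 3)) :=
  ⟨Cfsg.Lib.Classical.Refl.refl formSix (sigVec i) (by rw [formSix_sig]; decide),
    Subgroup.subset_closure ⟨sigVec i, formSix_sig i, rfl⟩⟩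

theorem sigRefl_mulVec (i : Fin 126) (x : Fin 6 → ZMod 3) :
    (((sigRefl i).1.1 : Matrix.GeneralLinearGroup (Fin 6) (ZMod 3)) : Matrix (Fin 6) (Fin 6) (ZMod 3)).mulVec x =
      x - sigForm (sigVec i) x • sigVec i := by
  show (Cfsg.reflectionMatrix (⇑formSix) (sigVec i)).mulVec x = _
  rw [Cfsg.Lib.Classical.Refl.mulVec_eq, formSix_sig, inv_one, one_mul, sigForm_polar]

theorem refl_ext {g h : ↥(Cfsg.reflectionSubgroup (⇑formSix) (1 : ZMod 3))}
    (e : ∀ x : Fin 6 → ZMod 3,
      ((g.1.1 : Matrix.GeneralLinearGroup (Fin 6) (ZMod 3)) : Matrix (Fin 6) (Fin 6) (ZMod 3)).mulVec x =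
      ((h.1.1 : Matrix.GeneralLinearGroup (Fin 6) (ZMod 3)) : Matrix (Fin 6) (Fin 6) (ZMod 3)).mulVec x) : g = h :=
  Subtype.ext (Subtype.ext (Units.ext (Matrix.toLin'.injective (LinearMap.ext fun x => by
    simpa [Matrix.toLin'_apply] using e x))))

theorem sigForm_sub (u v w : Fin 6 → ZMod 3) (t : ZMod 3) :
    sigForm u (v - t • w) = sigForm u v - t * sigForm u w := by
  simp only [sigForm, Pi.sub_apply, Pi.smul_apply, smul_eq_mul]
  ring

theorem sigForm_symm (u v : Fin 6 → ZMod 3) : sigForm u v = sigForm v u := by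
  simp only [sigForm]
  ring

theorem sigForm_self (i : Fin 126) : sigForm (sigVec i) (sigVec i) = 2 := by
  have h := sig_norm i
  simp only [sigForm]
  linear_combination 2 * h

theorem sigRefl_sq (i : Fin 126) : sigRefl i * sigRefl i = 1 := by
  refine refl_ext fun x => ?_
  show (((sigRefl i).1.1 * (sigRefl i).1.1 : Matrix.GeneralLinearGroup (Fin 6) (ZMod 3)) :
    Matrix (Fin 6) (Fin 6) (ZMod 3)).mulVec x = (1 : Matrix (Fin 6) (Fin 6) (ZMod 3)).mulVec x
  rw [Units.val_mul, ← Matrix.mulVec_mulVec, sigRefl_mulVec, sigRefl_mulVec, sigForm_sub, sigForm_self,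
    Matrix.one_mulVec]
  module

theorem sigRefl_inj : Function.Injective sigRefl := fun i j e => by
  refine sig_inj i j ((pmEq_iff _ _).2 ?_)
  have h := sigRefl_mulVec i (sigVec i)
  rw [e, sigRefl_mulVec, sigForm_self] at h
  set t := sigForm (sigVec j) (sigVec i)
  have h' : sigVec i = (-t) • sigVec j := by
    funext k
    have hk := congrFun h k
    simp only [Pi.sub_apply, Pi.smul_apply, smul_eq_mul] at hk ⊢
    have e3 : ∀ z w : ZMod 3, z - w = z - 2 * z → z = -w := by decide
    rw [neg_mul]
    exact e3 _ _ hk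
  rcases (show ∀ t : ZMod 3, t = 0 ∨ t = 1 ∨ t = -1 by decide) (-t) with ht | ht | ht
  · exfalso
    have := sig_norm i
    rw [h', ht] at this
    simp at this
  · exact Or.inl (by rw [h', ht, one_smul])
  · exact Or.inr (by rw [h', ht, neg_one_smul])

theorem sigRefl_conj (n : Fin 6) (i : Fin 126) :
    sigRefl (fin126 (genList.getD n.val 0)) * sigRefl i * sigRefl (fin126 (genList.getD n.val 0)) =
      sigRefl (act n.val i) := by
  set j := fin126 (genList.getD n.val 0)
  refine refl_ext fun x => ?_
  show (((sigRefl j).1.1 * (sigRefl i).1.1 * (sigRefl j).1.1 : Matrix.GeneralLinearGroup (Fin 6) (ZMod 3)) :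
    Matrix (Fin 6) (Fin 6) (ZMod 3)).mulVec x = _
  rw [Units.val_mul, Units.val_mul, ← Matrix.mulVec_mulVec, ← Matrix.mulVec_mulVec, sigRefl_mulVec, sigRefl_mulVec,
    sigRefl_mulVec, sigRefl_mulVec]
  set u := sigVec i - sigForm (sigVec j) (sigVec i) • sigVec j with hu
  have hk : u = sigVec (act n.val i) ∨ u = -sigVec (act n.val i) := (pmEq_iff _ _).1 (act_sig n i)
  have hux : sigForm (sigVec (act n.val i)) x • sigVec (act n.val i) = sigForm u x • u := by
    rcases hk with e | e <;> rw [e]
    funext k
    simp only [sigForm, Pi.smul_apply, Pi.neg_apply, smul_eq_mul]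
    ring
  rw [hux, hu, sigForm_symm _ x, sigForm_symm (sigVec i - _) x, sigForm_sub, sigForm_sub, sigForm_sub,
    sigForm_sub, sigForm_self, sigForm_symm (sigVec i) (sigVec j), sigForm_symm x (sigVec i),
    sigForm_symm x (sigVec j)]
  match_scalars
  all_goals ring

theorem sigRefl_cover (g : Cfsg.isometryGroup (ZMod 3) (⇑formSix))
    (hg : g ∈ Cfsg.reflectionsOfNorm (⇑formSix) (1 : ZMod 3)) : ∃ i, (sigRefl i).1 = g := by
  obtain ⟨v, hv, e⟩ := hg
  rw [formSix_apply] at hv
  obtain ⟨i, hi⟩ := sig_cover _ _ _ _ _ _ hv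
  refine ⟨i, Subtype.ext (Units.ext ?_)⟩
  rw [e]
  show Cfsg.reflectionMatrix (⇑formSix) (sigVec i) = _
  have hv' : v = ![v 0, v 1, v 2, v 3, v 4, v 5] := by funext k; fin_cases k <;> rfl
  rw [← hv', pmEq_iff] at hi
  rcases hi with rfl | rfl
  · rfl
  · refine (Matrix.toLin'.injective (LinearMap.ext fun x => ?_)).symm
    rw [Matrix.toLin'_apply, Matrix.toLin'_apply, Cfsg.Lib.Classical.Refl.mulVec_eq,
      Cfsg.Lib.Classical.Refl.mulVec_eq, QuadraticMap.map_neg, sigForm_polar, sigForm_polar]
    funext k
    simp only [sigForm, Pi.sub_apply, Pi.smul_apply, Pi.neg_apply, smul_eq_mul]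
    ring

variable {G : Type u} [Group G] [Finite G] {F : Type v} [Field F] [Finite F] {V : Type w} [AddCommGroup V]
  [Module F V] {Q : Type w'} [Group Q] {H : HermSpace F V} {φ : H.SIsom →* Q} {D : Set G} {hS : IsSixSpace H}

namespace Sys

variable (hD : Sys hS φ D)
include hD

/-- The group of the common members modulo its centre. -/
theorem inner_iso {a b : G} (ha : a ∈ D) (hb : b ∈ D) (hn : ¬ Commute a b) :
    Cfsg.IsProjReflectionGroupModThree (↥(closure (common D a b)) ⧸ center ↥(closure (common D a b))) 6 1 1 := by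
  refine ⟨formSix, formSix_nondegenerate, ?_, ?_⟩
  · rw [Cfsg.polarGramDet, formSix_gram]
    exact formSix_det
  obtain ⟨x, hx⟩ := hD.exists_common_member ha hb hn
  obtain ⟨Wa⟩ := hD.view a ha
  obtain ⟨K, m, -, hm, hinj, hsurj⟩ := hD.exists_common ha hb hn hx Wa
  let α : Fin 126 → ↥(closure (common D a b)) := fun i => ⟨m i, subset_closure (hm i).1⟩
  have hαinj : Function.Injective α := fun i j e => hinj (congrArg Subtype.val e)
  have hα2 : ∀ i, α i * α i = 1 := fun i => Subtype.ext (hD.sq (hm i).1.1.1)
  let J : Fin 126 → Prop := fun j => ∃ n : Fin 6, j = fin126 (genList.getD n.val 0)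
  let σ : Fin 126 → Fin 126 → Fin 126 := fun j i =>
    if h : J j then act h.choose.val i else i
  have hα : ∀ (n : Fin 6) i,
      α (fin126 (genList.getD n.val 0)) * α i * α (fin126 (genList.getD n.val 0)) = α (act n.val i) := fun n i => by
    refine Subtype.ext (Wa.at_unique hD K ?_ (hm _).2)
    exact (Wa.at_third hD K ha (hm i).2 (hm _).2).same Wa (act_points n i)
  have hσa : ∀ j, J j → ∀ i, α j * α i * α j = α (σ j i) := fun j hj i => by
    simp only [σ, dif_pos hj]
    conv_lhs => rw [hj.choose_spec]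
    exact hα hj.choose i
  have hσb : ∀ j, J j → ∀ i, sigRefl j * sigRefl i * sigRefl j = sigRefl (σ j i) := fun j hj i => by
    simp only [σ, dif_pos hj]
    conv_lhs => rw [hj.choose_spec]
    exact sigRefl_conj hj.choose i
  refine quotient_iso α sigRefl hαinj sigRefl_inj hα2 sigRefl_sq J ?_ ?_ σ hσa hσb
  · rw [eq_top_iff]
    have hall := derive_all (closure (α '' {j | J j})) α (fun n => subset_closure ⟨_, ⟨n, rfl⟩, rfl⟩) hα
    intro g htop
    clear htop
    obtain ⟨g, hg⟩ := g
    induction hg using closure_induction with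
    | mem y hy =>
      obtain ⟨i, rfl⟩ := hsurj y hy
      exact hall i
    | one => exact one_mem _
    | mul p q hp hq ihp ihq => exact mul_mem ihp ihq
    | inv p hp ih => exact inv_mem ih
  · rw [eq_top_iff]
    have hall := derive_all (closure (sigRefl '' {j | J j})) sigRefl (fun n => subset_closure ⟨_, ⟨n, rfl⟩, rfl⟩)
      sigRefl_conj
    intro g htop
    clear htop
    obtain ⟨g, hg⟩ := g
    induction hg using closure_induction with
    | mem y hy =>
      obtain ⟨i, rfl⟩ := sigRefl_cover y hy
      exact hall i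
    | one => exact one_mem _
    | mul p q hp hq ihp ihq => exact mul_mem ihp ihq
    | inv p hp ih => exact inv_mem ih

end Sys

end Cfsg.Lib.M22Rec
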