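import Cfsg.Agent.M22Rec.Common

/-!
The members reached from one in two steps form a component of the commuting graph, in which noncommuting members have
products of order three and a commuting pair is determined by its product.
-/

set_option autoImplicit false
set_option linter.unusedSectionVars false
set_option linter.style.haveILetI false

namespace Cfsg.Lib.M22Rec

open Subgroup Cfsg.Lib.Classical Cfsg.Lib.ThreeTr Cfsg.Lib.USixFusion

universe u v w w'

section Dihedral

variable {G : Type u} [Group G] {x e : G}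

theorem mirror (hx : x * x = 1) (he : e * e = 1) (j : ℕ) : x * (x * e) ^ j * x = ((x * e) ^ j)⁻¹ := by
  have h : x * (x * e) * x = (x * e)⁻¹ := by
    rw [mul_inv_rev, inv_eq_of_mul_eq_one_right hx, inv_eq_of_mul_eq_one_right he, ← mul_assoc x x e, hx, one_mul]
  have h' := map_pow (MulAut.conj x) (x * e) j
  rw [MulAut.conj_apply, MulAut.conj_apply, inv_eq_of_mul_eq_one_right hx, h, inv_pow] at h'
  exact h'

theorem alt_even (hx : x * x = 1) (he : e * e = 1) (j : ℕ) :
    ((x * e) ^ j)⁻¹ * x * ((x * e) ^ j)⁻¹⁻¹ = x * (x * e) ^ (2 * j) := by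
  have h : ((x * e) ^ j)⁻¹ * x = x * (x * e) ^ j := by rw [← mirror hx he j, mul_assoc, hx, mul_one]
  rw [inv_inv, h, mul_assoc, ← pow_add, two_mul]

theorem alt_odd (hx : x * x = 1) (he : e * e = 1) (j : ℕ) :
    ((x * e) ^ j)⁻¹ * e * ((x * e) ^ j)⁻¹⁻¹ = x * (x * e) ^ (2 * j + 1) := by
  have h : ((x * e) ^ j)⁻¹ * x = x * (x * e) ^ j := by rw [← mirror hx he j, mul_assoc, hx, mul_one]
  rw [inv_inv, pow_succ, two_mul, pow_add, ← mul_assoc x, ← mul_assoc x ((x * e) ^ j), ← h,
    mul_assoc _ ((x * e) ^ j) (x * e), ← pow_succ, pow_succ', ← mul_assoc, mul_assoc _ x (x * e), ← mul_assoc x x e,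
    hx, one_mul]

theorem pow_mem_pair {M : Subgroup G} (hxM : x ∈ M) (heM : e ∈ M) (j : ℕ) : (x * e) ^ j ∈ M :=
  pow_mem (mul_mem hxM heM) j

theorem odd_conj {M : Subgroup G} (hxM : x ∈ M) (heM : e ∈ M) (hx : x * x = 1) (he : e * e = 1)
    (h : Odd (orderOf (x * e))) : ∃ g ∈ M, g * x * g⁻¹ = e := by
  obtain ⟨j, hj⟩ := h
  refine ⟨_, inv_mem (pow_mem_pair hxM heM (j + 1)), ?_⟩
  rw [alt_even hx he, show 2 * (j + 1) = orderOf (x * e) + 1 by omega, pow_succ, pow_orderOf_eq_one, one_mul,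
    ← mul_assoc, hx, one_mul]

/-- The central involution. -/
theorem even_central [Finite G] (hx : x * x = 1) (he : e * e = 1) (h : ¬ Odd (orderOf (x * e))) :
    ∃ m, orderOf (x * e) = 2 * m ∧ Commute x ((x * e) ^ m) ∧ Commute e ((x * e) ^ m) ∧
      (x * e) ^ m * (x * e) ^ m = 1 ∧ (x * e) ^ m ≠ 1 := by
  obtain ⟨m, hm⟩ := Nat.not_odd_iff_even.1 h
  have hpos := orderOf_pos (x * e)
  have hsq : (x * e) ^ m * (x * e) ^ m = 1 := by rw [← pow_add, ← hm, pow_orderOf_eq_one]
  have hc : Commute x ((x * e) ^ m) := by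
    have := mirror hx he m
    rw [inv_eq_of_mul_eq_one_right hsq] at this
    show x * (x * e) ^ m = (x * e) ^ m * x
    conv_rhs => rw [← this, mul_assoc, hx, mul_one]
  refine ⟨m, by omega, hc, ?_, hsq, fun h1 => ?_⟩
  · have := hc.mul_left ((Commute.refl (x * e)).pow_right m)
    rwa [← mul_assoc, hx, one_mul] at this
  · have := orderOf_le_of_pow_eq_one (show 0 < m by omega) h1
    omega

theorem alt_mem {D : Set G} (hconj : ∀ g : G, ∀ y ∈ D, g * y * g⁻¹ ∈ D) (hx : x * x = 1) (he : e * e = 1)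
    (hxD : x ∈ D) (heD : e ∈ D) (k : ℕ) : x * (x * e) ^ k ∈ D := by
  rcases Nat.even_or_odd' k with ⟨j, rfl | rfl⟩
  · rw [← alt_even hx he j]; exact hconj _ _ hxD
  · rw [← alt_odd hx he j]; exact hconj _ _ heD

theorem braid (hx : x * x = 1) (he : e * e = 1) (h : (x * e) ^ 3 = 1) : e * x * e = x * e * x := by
  have h3 : x * e * (x * e) * (x * e) = 1 := by rw [← h, pow_succ, pow_two]
  have h4 : (x * e * x) * (e * x * e) = 1 := by simpa only [mul_assoc] using h3
  rw [eq_inv_of_mul_eq_one_right h4, mul_inv_rev, mul_inv_rev, inv_eq_of_mul_eq_one_right hx,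
    inv_eq_of_mul_eq_one_right he, mul_assoc]

end Dihedral

variable {G : Type u} [Group G] [Finite G] {F : Type v} [Field F] [Finite F] {V : Type w} [AddCommGroup V]
  [Module F V] {Q : Type w'} [Group Q] {H : HermSpace F V} {φ : H.SIsom →* Q} {D : Set G} {hS : IsSixSpace H}

/-- Reached in at most two steps. -/
def Linked (D : Set G) (a z : G) : Prop := z = a ∨ z ∈ perp D a ∨ ∃ y ∈ perp D a, z ∈ perp D y

theorem linked_mem {a z : G} (ha : a ∈ D) (h : Linked D a z) : z ∈ D := by
  rcases h with rfl | h | ⟨y, -, h⟩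
  exacts [ha, h.1, h.1]

theorem linked_of_commute {a b : G} (hb : b ∈ D) (h : Commute a b) : Linked D a b := by
  rcases eq_or_ne b a with e | hne
  exacts [Or.inl e, Or.inr (Or.inl ⟨hb, hne, h⟩)]

theorem linked_symm {a z : G} (ha : a ∈ D) (h : Linked D a z) : Linked D z a := by
  rcases h with rfl | h | ⟨y, hy, h⟩
  · exact Or.inl rfl
  · exact Or.inr (Or.inl (perp_symm h ha))
  · exact Or.inr (Or.inr ⟨y, perp_symm h hy.1, perp_symm hy ha⟩)

namespace Sys

variable (hD : Sys hS φ D)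
include hD

theorem linked_conj (g : G) {a z : G} (h : Linked D a z) : Linked D (g * a * g⁻¹) (g * z * g⁻¹) := by
  rcases h with rfl | h | ⟨y, hy, h⟩
  · exact Or.inl rfl
  · exact Or.inr (Or.inl (hD.perp_conj g h))
  · exact Or.inr (Or.inr ⟨_, hD.perp_conj g hy, hD.perp_conj g h⟩)

theorem linked_step {a z u : G} (ha : a ∈ D) (h : Linked D a z) (hu : u ∈ perp D z) : Linked D a u := by
  by_cases hau : Commute a u
  · exact linked_of_commute hu.1 hau
  have hz := linked_mem ha h
  by_cases haz : Commute a z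
  · rcases eq_or_ne z a with rfl | hne
    · exact Or.inr (Or.inl hu)
    · exact Or.inr (Or.inr ⟨z, ⟨hz, hne, haz⟩, hu⟩)
  rcases h with rfl | h | ⟨y, hy, hzy⟩
  · exact Or.inr (Or.inl hu)
  · exact absurd h.2.2 haz
  have key : ∀ y', y' ∈ common D z a → Commute u y' → Linked D a u := fun y' hy' hc => by
    rcases eq_or_ne u y' with rfl | hne
    · exact Or.inr (Or.inl hy'.2)
    · exact Or.inr (Or.inr ⟨y', hy'.2, hu.1, hne, hc.symm⟩)
  have hycom : y ∈ common D z a := ⟨perp_symm hzy hy.1, hy⟩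
  by_cases huy : Commute u y
  · exact key y hycom huy
  obtain ⟨y', hy', -, hc⟩ := hD.exists_seen hz ha (fun h => haz h.symm) hycom hu huy
  exact key y' hy' hc

theorem linked_trans {a z u : G} (ha : a ∈ D) (h : Linked D a z) (h' : Linked D z u) : Linked D a u := by
  rcases h' with rfl | h' | ⟨y, hy, h'⟩
  · exact h
  · exact hD.linked_step ha h h'
  · exact hD.linked_step ha (hD.linked_step ha h hy) h'

theorem sq {y : G} (hy : y ∈ D) : y * y = 1 := (hD.inv y hy).1

theorem mul_not_mem {x y : G} (hx : x ∈ D) (hy : y ∈ D) (hne : x ≠ y) (hc : Commute x y) : x * y ∉ D := by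
  intro hz
  obtain ⟨W⟩ := hD.view x hx
  have hzp : x * y ∈ perp D x :=
    ⟨hz, fun e => (hD.inv y hy).2 (mul_eq_left.1 e), (Commute.refl x).mul_right hc⟩
  have h := W.inj _ hzp y ⟨hy, hne.symm, hc⟩ (W.r_self_mul hc)
  exact (hD.inv x hx).2 (mul_eq_right.1 h)

theorem linked_cube {a b : G} (ha : a ∈ D) (h : Linked D a b) (hn : ¬ Commute a b) : (a * b) ^ 3 = 1 := by
  rcases h with rfl | h | ⟨x, hx, hbx⟩
  · exact absurd (Commute.refl _) hn
  · exact absurd h.2.2 hn
  obtain ⟨W⟩ := hD.view x hx.1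
  have hax := perp_symm hx ha
  rcases W.cube hD.ker hax hbx (hD.sq ha) (hD.sq hbx.1) hn with h3 | h3
  · exact h3
  exfalso
  refine hD.mul_not_mem ha hx.1 hx.2.1.symm hx.2.2 ?_
  have hc := hD.conj (b * a) b hbx.1
  rw [mul_inv_rev, hD.inv_eq ha, hD.inv_eq hbx.1] at hc
  rw [← h3, pow_succ, pow_two]
  simpa only [← mul_assoc, hD.sq ha, one_mul] using hc

theorem commute_of_pair {e p q : G} (he : e ∈ D) (hp : p ∈ D) (hq : q ∈ D) (hl : Linked D p e) (hne : p ≠ q)
    (hpq : Commute p q) (hc : Commute e (p * q)) : Commute e p ∧ Commute e q := by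
  have e1 : p * (p * q) = q := by rw [← mul_assoc, hD.sq hp, one_mul]
  have e2 : p * q * q = p := by rw [mul_assoc, hD.sq hq, mul_one]
  by_cases hep : Commute e p
  · exact ⟨hep, e1 ▸ hep.mul_right hc⟩
  by_cases heq : Commute e q
  · exact ⟨e2 ▸ hc.mul_right heq, heq⟩
  exfalso
  have hlq : Linked D q e := hD.linked_trans hq (linked_of_commute hp hpq.symm) hl
  have b1 := braid (hD.sq hp) (hD.sq he) (hD.linked_cube hp hl fun h => hep h.symm)
  have b2 := braid (hD.sq hq) (hD.sq he) (hD.linked_cube hq hlq fun h => heq h.symm)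
  have h1 : p * e * p = q * e * q := by
    have h2 : p * q * e * (p * q)⁻¹ = e := by rw [← hc.eq, mul_inv_cancel_right]
    rw [mul_inv_rev, hD.inv_eq hp, hD.inv_eq hq] at h2
    have h3 := congrArg (fun z => p * z * p) h2
    simp only [← mul_assoc, hD.sq hp, one_mul] at h3
    rw [mul_assoc _ p p, hD.sq hp, mul_one] at h3
    exact h3.symm
  rw [← b1, ← b2] at h1
  exact hne (mul_left_cancel (mul_right_cancel h1))

theorem pair_unique {p q p' q' : G} (hp : p ∈ D) (hq : q ∈ D) (hne : p ≠ q) (hpq : Commute p q) (hp' : p' ∈ D)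
    (hq' : q' ∈ D) (hne' : p' ≠ q') (hpq' : Commute p' q') (hl : Linked D p p') (he : p * q = p' * q') :
    p' = p ∧ q' = q ∨ p' = q ∧ q' = p := by
  have hc1 : Commute p' (p * q) := he ▸ (Commute.refl p').mul_right hpq'
  have hc2 : Commute q' (p * q) := he ▸ hpq'.symm.mul_right (Commute.refl q')
  have h1 := hD.commute_of_pair hp' hp hq hl hne hpq hc1
  have h2 := hD.commute_of_pair hq' hp hq (hD.linked_trans hp hl (linked_of_commute hq' hpq')) hne hpq hc2
  rcases eq_or_ne p' p with rfl | hn1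
  · exact Or.inl ⟨rfl, (mul_left_cancel he).symm⟩
  rcases eq_or_ne q' p with rfl | hn2
  · refine Or.inr ⟨?_, rfl⟩
    rw [hpq.eq] at he
    exact (mul_right_cancel he).symm
  exfalso
  obtain ⟨W⟩ := hD.view p hp
  have hqp : q ∈ perp D p := ⟨hq, hne.symm, hpq⟩
  have hp'p : p' ∈ perp D p := ⟨hp', hn1, h1.1.symm⟩
  have hq'p : q' ∈ perp D p := ⟨hq', hn2, h2.1.symm⟩
  obtain ⟨K, hK⟩ := W.exists_plane hD (s := {q, p', q'})
    (fun y hy => by rcases hy with rfl | rfl | rfl <;> assumption)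
    (fun y hy z hz => by
      rcases hy with rfl | rfl | rfl <;> rcases hz with rfl | rfl | rfl <;>
        first
          | exact Commute.refl _
          | exact hpq'
          | exact hpq'.symm
          | exact h1.2
          | exact h1.2.symm
          | exact h2.2
          | exact h2.2.symm)
  obtain ⟨i, rfl⟩ := hK q (Or.inl rfl)
  obtain ⟨j, rfl⟩ := hK p' (Or.inr (Or.inl rfl))
  obtain ⟨k, rfl⟩ := hK q' (Or.inr (Or.inr rfl))
  have h0 : sumH [i, j, k] = Herm.zero := W.zero_of_prod hD K (Or.inr (by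
    simp only [List.map_cons, List.map_nil, List.prod_cons, List.prod_nil, mul_one]
    rw [← he, ← mul_assoc, ← hpq.eq, mul_assoc, hD.sq hq, mul_one]))
  simp only [sumH, herm_facts.2] at h0
  have h3 := pair_rank j k fun e => hne' (e ▸ rfl)
  rw [← herm_facts.1 _ _ h0, pc_rank] at h3
  omega

end Sys

end Cfsg.Lib.M22Rec
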