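import Cfsg.Agent.M22Rec.Section

/-!
For noncommuting `a`, `b` and a member `x` commuting with both: in a frame for `a` the members commuting with `a`, `b`
and `x` are the forty-five points of the tabulated section.
-/

set_option autoImplicit false
set_option linter.unusedSectionVars false
set_option linter.style.haveILetI false

namespace Cfsg.Lib.M22Rec

open Subgroup Cfsg.Lib.Classical Cfsg.Lib.ThreeTr Cfsg.Lib.USixFusion

universe u v w w'

/-- The members commuting with two. -/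
def common {G : Type u} [Group G] (D : Set G) (a b : G) : Set G := perp D a ∩ perp D b

/-- The second vector of the first pair. -/
def f0 : Pt := ⟨.o, .o, .o, .i, .o, .o⟩

theorem form_e0 : ∀ a0 a1 a2 b0 b1 b2 : Q4, Pt.form ⟨a0, a1, a2, b0, b1, b2⟩ e0 = b0 ∧
    Pt.form ⟨a0, a1, a2, b0, b1, b2⟩ f0 = a0 := by decide +kernel

theorem lift1_facts : ∀ (l : Q4) (k : Fin 45), Pt.form (lift1 l k) e0 = .o ∧ Pt.form (lift1 l k) f0 = l ∧
    Pt.form f0 (lift1 l k) = l.conj ∧ lift1 .o k = wPt k ∧ lift1 (lam k) k = yPt k := by decide +kernel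

theorem theta_exists : ∀ a b x y : Q4, ∃ θ : Q4,
    (θ.add θ.conj).add (Pt.form (wVec a b x y) (wVec a b x y)) = .o := by decide +kernel

theorem exists_map_list {α β : Type*} (g : α → β) : ∀ L : List β, (∀ y ∈ L, ∃ k, y = g k) → ∃ m : List α, m.map g = L
  | [], _ => ⟨[], rfl⟩
  | y :: t, h => by
    obtain ⟨k, rfl⟩ := h y List.mem_cons_self
    obtain ⟨m, hm⟩ := exists_map_list g t fun z hz => h z (List.mem_cons_of_mem _ hz)
    exact ⟨k :: m, by rw [List.map_cons, hm]⟩

variable {G : Type u} [Group G] [Finite G] {F : Type v} [Field F] [Finite F] {V : Type w} [AddCommGroup V]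
  [Module F V] {Q : Type w'} [Group Q] {H : HermSpace F V} {φ : H.SIsom →* Q} {D : Set G} {hS : IsSixSpace H}

/-- The four middle coordinates. -/
def co : Fin 4 → Pt → Q4 := ![Pt.a1, Pt.a2, Pt.b1, Pt.b2]

/-- The four middle basis vectors. -/
def mid (K : Coord H) : Fin 4 → V := ![K.frame.e 1, K.frame.e 2, K.frame.f 1, K.frame.f 2]

theorem vp_wPt (K : Coord H) (k : Fin 45) : vp K (wPt k) = ∑ r, val K.w (co r (wPt k)) • mid K r := by
  obtain ⟨h1, h2, -, -⟩ := wPt_shape k
  simp only [vp, h1, h2, Fin.sum_univ_four, co, mid, Matrix.cons_val, show val K.w Q4.o = 0 from rfl, zero_smul,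
    zero_add]
  abel

theorem form_sum (K : Coord H) (z : V) : ∀ l : List (Fin 45),
    (l.map fun k => H.h z (vp K (wPt k)) • vp K (wPt k)).sum =
      ∑ r, ∑ s, (H.h z (mid K s) *
        val K.w (l.foldr (fun k t => ((co r (wPt k)).mul (co s (wPt k)).conj).add t) Q4.o)) • mid K r
  | [] => by simp [val]
  | k :: t => by
    rw [List.map_cons, List.sum_cons, form_sum K z t, vp_wPt]
    simp only [List.foldr_cons, K.prim.val_add K.six, K.prim.val_mul K.six, K.prim.val_conj K.six, mul_add,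
      add_smul, Finset.sum_add_distrib, H.sum_right, H.smul_right, Finset.smul_sum, Finset.sum_mul, Finset.sum_smul,
      smul_smul]
    congr 1
    refine Finset.sum_congr rfl fun r _ => Finset.sum_congr rfl fun s _ => ?_
    congr 1
    ring

theorem line_form (K : Coord H) {i j : Fin 45} (hij : i ≠ j) (ho : orth i j = true) (z : V) :
    ((lineOf i j).map fun k => H.h z (vp K (wPt k)) • vp K (wPt k)).sum = 0 := by
  rw [form_sum]
  refine Finset.sum_eq_zero fun r _ => Finset.sum_eq_zero fun s _ => ?_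
  have h := (line_ok i j hij ho).2.2
  simp only [List.all_eq_true, decide_eq_true_eq] at h
  have hm : ∀ r : Fin 4, co r ∈ [Pt.a1, Pt.a2, Pt.b1, Pt.b2] := fun r => by fin_cases r <;> simp [co]
  rw [h _ (hm r) _ (hm s)]
  simp [val]

theorem count_sum (K : Coord H) (f : Fin 45 → Q4) : ∀ l : List (Fin 45),
    (l.map fun k => val K.w (f k).conj * val K.w (f k)).sum =
      (((l.filter fun k => decide (f k ≠ .o)).length : ℕ) : F)
  | [] => by simp
  | k :: t => by
    rw [List.map_cons, List.sum_cons, count_sum K f t, ← K.prim.val_mul K.six]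
    have h : ∀ q : Q4, q.conj.mul q = if q = .o then .o else .i := by decide
    by_cases hk : f k = .o <;> simp [List.filter_cons, h, hk, val, add_comm]

namespace View

variable {x : G} (W : View hS φ D x) (hD : Sys hS φ D)
include hD

/-- A frame with a given member at the first vector. -/
theorem exists_e0 {y : G} (hy : y ∈ perp D x) : ∃ K : Coord H, W.At K y e0 := by
  obtain ⟨K0, h0⟩ := exists_coord_through hS ({W.vec y} : Set V) (by rintro a rfl b rfl; exact W.vec_iso y hy)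
  obtain ⟨i, hi⟩ : ∃ i, H.h (W.vec y) (K0.frame.f i) ≠ 0 := by
    by_contra hcon
    push Not at hcon
    refine W.vec_ne y hy ?_
    rw [K0.frame.W_expand K0.six (h0 rfl)]
    exact Finset.sum_eq_zero fun i _ => by rw [hcon i, zero_smul]
  obtain ⟨K, ⟨α, hα, e⟩, -⟩ := exists_pair φ hD.ker hS (W.vec_ne y hy) (W.vec_iso y hy) (K0.frame.ff i i)
    (fun e => hi (H.eq_zero_symm e))
  exact ⟨K, hy, α, hα, e⟩

omit hD in
theorem list_sum (l : List G) (hl : ∀ y ∈ l, y ∈ perp D x) (hp : ∀ y ∈ l, ∀ z ∈ l, H.h (W.vec y) (W.vec z) = 0) :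
    ∃ g : H.SIsom, φ g = (l.map W.r).prod ∧
      ∀ z, g.1.1 z = z + (l.map fun y => H.h z (W.vec y) • W.vec y).sum := by
  refine ⟨((l.map W.vec).pmap (P := fun v => H.h v v = 0) (fun v hv => hS.tv hv) fun v hv => ?_).prod, ?_, fun z => ?_⟩
  · obtain ⟨y, hy, rfl⟩ := List.mem_map.1 hv
    exact W.vec_iso y (hl y hy)
  · rw [map_list_prod]
    congr 1
    clear hp
    induction l with
    | nil => rfl
    | cons y t ih =>
      simp only [List.map_cons, List.pmap_cons]
      rw [W.img y (hl y List.mem_cons_self), ih fun z hz => hl z (List.mem_cons_of_mem _ hz)]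
  · rw [tv_list (hS := hS) (l.map W.vec) _ (fun v hv u hu => by
      obtain ⟨y, hy, rfl⟩ := List.mem_map.1 hv
      obtain ⟨y', hy', rfl⟩ := List.mem_map.1 hu
      exact hp y hy y' hy') z, List.map_map]
    rfl

/-- The term of a member at a code. -/
theorem at_term (K : Coord H) {y : G} {p : Pt} (h : W.At K y p) (z : V) :
    H.h z (W.vec y) • W.vec y = H.h z (vp K p) • vp K p := by
  obtain ⟨hy, s, hs, e⟩ := h
  rw [e, H.smul_right, smul_smul]
  congr 1
  linear_combination (H.h z (vp K p)) * hS.norm s hs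

end View

namespace Sys

variable (hD : Sys hS φ D)
include hD

theorem common_closed {a b : G} (ha : a ∈ D) (hb : b ∈ D) {y z : G} (hy : y ∈ common D a b)
    (hz : z ∈ common D a b) : z * y * z ∈ common D a b :=
  ⟨hD.perp_closed ha hy.1 hz.1, hD.perp_closed hb hy.2 hz.2⟩

/-- The members commuting with `a`, `b` and `x`, from `x`. -/
theorem cross {a b x : G} (ha : a ∈ D) (hb : b ∈ D) (hn : ¬ Commute a b) (hx : x ∈ common D a b)
    (Wx : View hS φ D x) : ∃ (K : Coord H) (y : Fin 45 → G),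
      (∀ k, y k ∈ common D a b ∧ y k ∈ perp D x ∧ Wx.At K (y k) (wPt k)) ∧
      ∀ z ∈ common D a b, z ∈ perp D x → ∃ k, z = y k := by
  have hxa := perp_symm hx.1 ha
  have hxb := perp_symm hx.2 hb
  obtain ⟨K, ⟨α, hα, eα⟩, β, hβ, eβ⟩ := exists_pair φ hD.ker hS (Wx.vec_ne a hxa) (Wx.vec_iso a hxa)
    (Wx.vec_iso b hxb) (fun e => hn ((Wx.comm hD.ker hxa hxb (hD.inv a ha).1 (hD.inv b hb).1).2 (H.eq_zero_symm e)))
  have hat : Wx.At K a e0 := ⟨hxa, α, hα, eα⟩
  have hbt : Wx.At K b f0 := ⟨hxb, β, hβ, eβ⟩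
  choose y hy using fun k => Wx.exists_at hD K (wPt k) (wPt_shape k).2.2.1 (wPt_shape k).2.2.2
  have hc : ∀ k, Commute (y k) a ∧ Commute (y k) b := fun k => by
    obtain ⟨h1, h2, -, h4, -⟩ := lift1_facts .o k
    rw [h4] at h1 h2
    exact ⟨(Wx.at_comm hD K (hy k) hat).2 h1, (Wx.at_comm hD K (hy k) hbt).2 h2⟩
  refine ⟨K, y, fun k => ⟨⟨⟨(hy k).1.1, fun e => hn ?_, (hc k).1.symm⟩,
    ⟨(hy k).1.1, fun e => hn ?_, (hc k).2.symm⟩⟩, (hy k).1, hy k⟩, fun z hz hzx => ?_⟩
  · rw [← e]; exact (hc k).2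
  · rw [← e]; exact (hc k).1.symm
  obtain ⟨p, hp, hiso, hne⟩ := Wx.at_exists hD K hzx
  have h1 := (Wx.at_comm hD K hp hat).1 hz.1.2.2.symm
  have h2 := (Wx.at_comm hD K hp hbt).1 hz.2.2.2.symm
  obtain ⟨a0, a1, a2, b0, b1, b2⟩ := p
  rw [(form_e0 a0 a1 a2 b0 b1 b2).1] at h1
  rw [(form_e0 a0 a1 a2 b0 b1 b2).2] at h2
  subst h1 h2
  by_cases hw : a1 ≠ .o ∨ a2 ≠ .o ∨ b1 ≠ .o ∨ b2 ≠ .o
  · obtain ⟨t, l, k, ht, e⟩ := cover_perp _ rfl hiso hw
    have hl : t.mul l = .o := by
      have := congrArg Pt.a0 e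
      simp only [Pt.smul, lift1_shape] at this
      exact this.symm
    have h0 : ∀ t l : Q4, t ≠ .o → t.mul l = .o → l = .o := by decide
    obtain rfl := h0 t l ht hl
    rw [(lift1_facts .o k).2.2.2.1] at e
    rw [e] at hp
    exact ⟨k, Wx.at_unique hD K hp ((hy k).scale Wx K ht)⟩
  · push Not at hw
    obtain ⟨rfl, rfl, rfl, rfl⟩ := hw
    exact absurd rfl hne

/-- The members commuting with `a`, `b` and `x`, from `a`, over all points. -/
theorem exists_lift {a b x : G} (ha : a ∈ D) (hb : b ∈ D) (hn : ¬ Commute a b) (hx : x ∈ common D a b)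
    (Wa : View hS φ D a) (Wx : View hS φ D x) {K : Coord H} (hxK : Wa.At K x e0) :
    ∃ (f : Fin 45 → Q4) (y : Fin 45 → G),
      (∀ k, y k ∈ common D a b ∧ y k ∈ perp D x ∧ Wa.At K (y k) (lift1 (f k) k)) ∧
      (∀ z ∈ common D a b, z ∈ perp D x → ∃ k, z = y k) ∧
      ∀ i j, i ≠ j → orth i j = true → ((lineOf i j).map y).prod = x := by
  obtain ⟨K', y, hy, hsurj⟩ := hD.cross ha hb hn hx Wx
  choose l g hg using fun k =>
    Wa.at_over hD K (hy k).1.1 hxK (hy k).2.1.2.2.symm (hy k).2.1.2.1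
  have hcx : ∀ p q, Commute (y p) (y q) ↔ orth p q = true := fun p q => by
    rw [Wx.at_comm hD K' (hy p).2.2 (hy q).2.2, orth, decide_eq_true_eq]
  have hca : ∀ p q, Commute (y p) (y q) ↔ orth (g p) (g q) = true := fun p q => by
    rw [Wa.at_comm hD K (hg p) (hg q), lift1_form, orth, decide_eq_true_eq]
  have hinj : Function.Injective g := fun j k e => by
    by_contra hne
    obtain ⟨q, h1, h2⟩ := perp_sep j k hne
    have := (hca q j).1 ((hcx q j).2 h1)
    rw [e] at this
    exact Bool.eq_false_iff.1 h2 ((hcx q k).1 ((hca q k).2 this))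
  set e := Equiv.ofBijective g (Finite.injective_iff_bijective.1 hinj) with he
  have hge : ∀ k, g (e.symm k) = k := fun k => e.apply_symm_apply k
  refine ⟨fun k => l (e.symm k), fun k => y (e.symm k), fun k => ⟨(hy _).1, (hy _).2.1, ?_⟩, fun z hz hzx => ?_,
    fun i j hij ho => ?_⟩
  · simpa only [hge] using hg (e.symm k)
  · obtain ⟨k, rfl⟩ := hsurj z hz hzx
    exact ⟨e k, by simp⟩
  -- the line, seen from `x`
  set i' := e.symm i
  set j' := e.symm j
  have hor : ∀ p q : Fin 45, orth (e.symm p) (e.symm q) = orth p q := fun p q => by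
    have h := (hcx (e.symm p) (e.symm q)).symm.trans (hca _ _)
    rw [hge, hge] at h
    exact Bool.eq_iff_iff.2 h
  have hij' : i' ≠ j' := fun h => hij (e.symm.injective h)
  have ho' : orth i' j' = true := (hor i j).trans ho
  obtain ⟨hlen, hall, -⟩ := line_ok i' j' hij' ho'
  have hnd : (lineOf i' j').Nodup := (List.nodup_finRange 45).filter _
  have hperm : ((lineOf i j).map e.symm).Perm (lineOf i' j') := by
    refine (List.perm_ext_iff_of_nodup (((List.nodup_finRange 45).filter _).map e.symm.injective) hnd).2 fun q => ?_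
    simp only [lineOf, List.mem_map, List.mem_filter, List.mem_finRange, true_and]
    constructor
    · rintro ⟨p, hp, rfl⟩
      rwa [hor, hor]
    · intro hq
      refine ⟨e q, ?_, e.symm_apply_apply q⟩
      rw [← hor (e q) i, ← hor (e q) j, e.symm_apply_apply]
      exact hq
  set L := (lineOf i' j').map y with hL
  simp only [List.all_eq_true] at hall
  have hLc : ∀ u ∈ L, ∀ v ∈ L, Commute u v := fun u hu v hv => by
    obtain ⟨p, hp, rfl⟩ := List.mem_map.1 hu
    obtain ⟨q, hq, rfl⟩ := List.mem_map.1 hv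
    exact (hcx p q).2 (hall p hp q hq)
  have hLx : ∀ u ∈ L, u ∈ perp D x := fun u hu => by
    obtain ⟨p, -, rfl⟩ := List.mem_map.1 hu
    exact (hy p).2.1
  have hfive : L.prod = x := by
    obtain ⟨P, hP⟩ := Wx.exists_plane hD (s := {u | u ∈ L}) hLx hLc
    obtain ⟨m, hm⟩ := exists_map_list _ L hP
    have hx' : x ∈ D := hx.1.1
    obtain ⟨gg, hgr, hgz⟩ := Wx.list_sum L hLx fun u hu v hv =>
      (Wx.comm hD.ker (hLx u hu) (hLx v hv) (hD.inv u (hLx u hu).1).1 (hD.inv v (hLx v hv).1).1).1 (hLc u hu v hv)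
    have hgg : gg = 1 := H.sisom_ext fun z => by
      rw [hgz, hL, List.map_map]
      have : ((lineOf i' j').map ((fun u => H.h z (Wx.vec u) • Wx.vec u) ∘ y)) =
          (lineOf i' j').map fun k => H.h z (vp K' (wPt k)) • vp K' (wPt k) :=
        List.map_congr_left fun k _ => Wx.at_term hD K' (hy k).2.2 z
      rw [this, line_form K' hij' ho' z, add_zero]
      rfl
    rw [← hm]
    refine hD.five hx' Wx P ?_ ?_ (Wx.zero_of_prod hD P ?_)
    · refine List.Nodup.of_map (Wx.mem hD P) ?_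
      rw [hm]
      refine hnd.map fun p q h => ?_
      obtain ⟨-, s, hs, es⟩ := (hy p).2.2
      obtain ⟨-, t, ht, et⟩ := (hy q).2.2
      rw [h, et] at es
      have hsame := (same_iff K' (wPt p) (wPt q)).2 ⟨t⁻¹ * s, mul_ne_zero (inv_ne_zero ht) hs, by
        rw [mul_smul, ← es, inv_smul_smul₀ ht]⟩
      simp only [Pt.same, List.any_eq_true, decide_eq_true_eq] at hsame
      obtain ⟨c, -, hc⟩ := hsame
      exact wPt_inj p q c hc
    · rw [← hlen, ← List.length_map (as := lineOf i' j') y, ← hL, ← hm, List.length_map]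
    · rw [hm]
      refine Wx.ker _ (Commute.list_prod_right _ _ fun u hu => (hLx u hu).2.2) ?_
      rw [Wx.r_prod L fun u hu => (hLx u hu).2.2, ← hgr, hgg, map_one]
  rw [← hfive, hL]
  refine List.Perm.prod_eq' ?_ ?_
  · simpa [List.map_map, Function.comp_def] using hperm.map y
  · refine List.pairwise_of_forall_mem_list fun u hu v hv => ?_
    obtain ⟨p, hp, rfl⟩ := List.mem_map.1 hu
    obtain ⟨q, hq, rfl⟩ := List.mem_map.1 hv
    exact hLc _ (List.mem_map_of_mem (hperm.mem_iff.1 (List.mem_map_of_mem hp))) _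
      (List.mem_map_of_mem (hperm.mem_iff.1 (List.mem_map_of_mem hq)))

/-- The normal form. -/
theorem exists_near {a b x : G} (ha : a ∈ D) (hb : b ∈ D) (hn : ¬ Commute a b) (hx : x ∈ common D a b)
    (Wa : View hS φ D a) : ∃ (K : Coord H) (y : Fin 45 → G), Wa.At K x e0 ∧
      (∀ k, y k ∈ common D a b ∧ y k ∈ perp D x ∧ Wa.At K (y k) (yPt k)) ∧
      ∀ z ∈ common D a b, z ∈ perp D x → ∃ k, z = y k := by
  obtain ⟨Wx⟩ := hD.view x hx.1.1
  obtain ⟨K, hxK⟩ := Wa.exists_e0 hD hx.1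
  obtain ⟨f, y, hy, hsurj, hline⟩ := hD.exists_lift ha hb hn hx Wa Wx hxK
  -- closure under thirds
  obtain ⟨c, p, q, r, s, hf⟩ := exists_param f fun e he => by
    have hc0 := List.all_eq_true.1 wDer_ok e he
    simp only [wStep, Bool.and_eq_true, decide_eq_true_eq] at hc0
    obtain ⟨⟨⟨⟨⟨h1, h2⟩, h3⟩, h4⟩, -⟩, h6⟩ := hc0
    set k : Fin 45 := ⟨e.1 % 45, Nat.mod_lt _ (by norm_num)⟩
    set i : Fin 45 := ⟨e.2.1 % 45, Nat.mod_lt _ (by norm_num)⟩
    set j : Fin 45 := ⟨e.2.2.1 % 45, Nat.mod_lt _ (by norm_num)⟩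
    have hk : wList.getD e.1 Pt.zero = wPt k := by simp [wPt, k, Nat.mod_eq_of_lt h1]
    have hi : wList.getD e.2.1 Pt.zero = wPt i := by simp [wPt, i, Nat.mod_eq_of_lt h2]
    have hj : wList.getD e.2.2.1 Pt.zero = wPt j := by simp [wPt, j, Nat.mod_eq_of_lt h3]
    rw [hk, hi, hj] at h6
    rw [hi, hj]
    obtain ⟨l, hl⟩ : ∃ l, e.2.2.2.mul l = (f i).add ((Pt.form (wPt i) (wPt j)).mul (f j)) :=
      (show ∀ t a : Q4, t ≠ .o → ∃ l, t.mul l = a by decide) _ _ h4
    have hpt : Pt.smul e.2.2.2 (lift1 l k) = Pt.third (lift1 (f i) i) (lift1 (f j) j) := by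
      simp only [Pt.third, Pt.smul, Pt.add, lift1_form, Pt.mk.injEq] at h6 ⊢
      simp only [lift1_shape]
      obtain ⟨-, e1, e2, -, e4, e5⟩ := h6
      have h0 : ∀ t u : Q4, t.mul .o = Q4.o.add (u.mul .o) := by decide
      exact ⟨hl, e1, e2, h0 _ _, e4, e5⟩
    have hz := Wa.at_third hD K ha (hy i).2.2 (hy j).2.2
    rw [← hpt] at hz
    obtain ⟨m, hm⟩ := hsurj _ (hD.common_closed ha hb (hy i).1 (hy j).1)
      (hD.perp_closed hx.1.1 (hy i).2.1 (hy j).2.1)
    rw [hm] at hz
    obtain ⟨-, u, hu, eu⟩ := hz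
    obtain ⟨-, v, hv, ev⟩ := (hy m).2.2
    rw [eu] at ev
    have hsame := (same_iff K (Pt.smul e.2.2.2 (lift1 l k)) (lift1 (f m) m)).2
      ⟨v⁻¹ * u, mul_ne_zero (inv_ne_zero hv) hu, by rw [mul_smul, ev, inv_smul_smul₀ hv]⟩
    simp only [Pt.same, List.any_eq_true, decide_eq_true_eq] at hsame
    obtain ⟨t, -, ht⟩ := hsame
    have ht' : Pt.smul (t.mul e.2.2.2) (lift1 l k) = lift1 (f m) m := by
      rw [← ht]
      have ha' : ∀ p q r : Q4, (p.mul q).mul r = p.mul (q.mul r) := by decide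
      simp only [Pt.smul, ha']
    obtain rfl := lift1_inj ht'
    have hone : ∀ (t l l' : Q4) (k : Fin 45), Pt.smul t (lift1 l k) = lift1 l' k → l' = l := by decide +kernel
    rw [hone _ _ _ _ ht', hl]
  -- the parameter is not linear
  have hc : c ≠ .o := by
    rintro rfl
    obtain ⟨i, j, hij, ho, heven⟩ := linear_even p q r s
    simp only [← hf] at heven
    set L := (lineOf i j).map y with hL
    have hmem : ∀ u ∈ x :: L, u ∈ perp D a := fun u hu => by
      rcases List.mem_cons.1 hu with rfl | hu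
      · exact hx.1
      · obtain ⟨k, -, rfl⟩ := List.mem_map.1 hu
        exact (hy k).1.1
    have hcomm : ∀ u ∈ x :: L, ∀ v ∈ x :: L, Commute u v := fun u hu v hv => by
      have hy' : ∀ k, Commute x (y k) := fun k => (hy k).2.1.2.2
      rcases List.mem_cons.1 hu with eu | hu <;> rcases List.mem_cons.1 hv with ev | hv
      · rw [eu, ev]
      · obtain ⟨k, -, rfl⟩ := List.mem_map.1 hv; rw [eu]; exact hy' k
      · obtain ⟨k, -, rfl⟩ := List.mem_map.1 hu; rw [ev]; exact (hy' k).symm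
      · obtain ⟨k, hk, rfl⟩ := List.mem_map.1 hu
        obtain ⟨k', hk', rfl⟩ := List.mem_map.1 hv
        refine (Wa.at_comm hD K (hy k).2.2 (hy k').2.2).2 ?_
        have hall := (line_ok i j hij ho).2.1
        simp only [List.all_eq_true] at hall
        rw [lift1_form]
        exact of_decide_eq_true (hall k hk k' hk')
    obtain ⟨g, hgr, hgz⟩ := Wa.list_sum (x :: L) hmem fun u hu v hv =>
      (Wa.comm hD.ker (hmem u hu) (hmem v hv) (hD.inv u (hmem u hu).1).1 (hD.inv v (hmem v hv).1).1).1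
        (hcomm u hu v hv)
    have hg1 : φ g = 1 := by
      rw [hgr]
      refine Wa.image_eq_one hmem (Or.inl ?_)
      rw [List.prod_cons, hline i j hij ho, (hD.inv x hx.1.1).1]
    obtain ⟨μ, -, hμ⟩ := K.six.center_scalar (g := g) (hD.ker ▸ hg1)
    have key : ∀ z : V, z + (H.h z (vp K e0) • vp K e0 +
        ((lineOf i j).map fun k => H.h z (vp K (lift1 (f k) k)) • vp K (lift1 (f k) k)).sum) = μ • z := fun z => by
      rw [← hμ, hgz, List.map_cons, List.sum_cons, Wa.at_term hD K hxK, hL, List.map_map]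
      congr 3
      exact List.map_congr_left fun k _ => (Wa.at_term hD K (hy k).2.2 z).symm
    have h := congrArg (fun v => H.h v (vp K f0)) (key (vp K f0))
    have hl : ∀ l : List (Fin 45), H.h (l.map fun k => H.h (vp K f0) (vp K (lift1 (f k) k)) • vp K (lift1 (f k) k)).sum
        (vp K f0) = (l.map fun k => val K.w (f k).conj * val K.w (f k)).sum := by
      intro l
      induction l with
      | nil => exact H.zero_left _
      | cons k t ih =>
        simp only [List.map_cons, List.sum_cons, H.add_left, H.smul_left, ih]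
        rw [vp_h, vp_h, (lift1_facts (f k) k).2.1, (lift1_facts (f k) k).2.2.1]
    simp only [H.add_left, H.smul_left] at h
    rw [hl, count_sum] at h
    simp only [vp_h, show Pt.form f0 f0 = Q4.o from by decide,
      show Pt.form f0 e0 = Q4.i from by decide, show Pt.form e0 f0 = Q4.i from by decide,
      show val K.w Q4.o = 0 from rfl, show val K.w Q4.i = 1 from rfl, mul_zero, one_mul, zero_add] at h
    obtain ⟨d, hd⟩ := Nat.dvd_of_mod_eq_zero heven
    rw [hd, Nat.cast_mul, show ((2 : ℕ) : F) = 0 by exact_mod_cast K.six.two, zero_mul, add_zero] at h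
    exact one_ne_zero h
  obtain ⟨θ, hθ⟩ := theta_exists p q r s
  obtain ⟨K', he, -, hw, hK'⟩ := exists_shift K (θ := θ) hc hθ
  refine ⟨K', y, ⟨hxK.1, ?_⟩, fun k => ⟨(hy k).1, (hy k).2.1, ?_⟩, hsurj⟩
  · obtain ⟨-, α, hα, eα⟩ := hxK
    refine ⟨α * (val K.w c)⁻¹, mul_ne_zero hα (inv_ne_zero (val_ne K hc)), ?_⟩
    rw [vp_e0, he, smul_smul, mul_assoc, inv_mul_cancel₀ (val_ne K hc), mul_one, ← vp_e0, eα]
  · obtain ⟨hk, α, hα, eα⟩ := (hy k).2.2
    refine ⟨hk, α, hα, ?_⟩
    rw [eα]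
    congr 1
    rw [← (lift1_facts (lam k) k).2.2.2.2, lift1_shape, lift1_shape, hK', hf k, lamAt]
    congr
    obtain ⟨h1, h2, -, -⟩ := wPt_shape k
    generalize wPt k = w at h1 h2 ⊢
    obtain ⟨w0, w1, w2, w3, w4, w5⟩ := w
    simp only at h1 h2
    subst h1 h2
    rfl

end Sys

end Cfsg.Lib.M22Rec
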