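import Cfsg.Agent.M22Rec.Pairs

/-!
Decompositions of the hermitian codes into points of the plane: pairs for rank two, three disjoint triples for rank
three.
-/

set_option autoImplicit false

namespace Cfsg.Lib.M22Rec

open Cfsg.Lib.USixFusion

/-- A pair for each code of rank two. -/
def pairTab : List (ℕ × ℕ) :=
  [(0, 0), (0, 0), (0, 0), (0, 16), (0, 0), (0, 20), (16, 20), (0, 0), (8, 12), (4, 16), (0, 4), (0, 0),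
   (0, 0), (0, 0), (0, 0), (4, 20), (4, 8), (12, 16), (0, 12), (0, 0), (0, 0), (0, 0), (0, 0), (12, 20),
   (4, 12), (8, 16), (0, 8), (0, 0), (0, 0), (0, 0), (0, 0), (8, 20), (2, 3), (1, 20), (0, 0), (0, 0),
   (0, 1), (0, 0), (0, 0), (1, 16), (10, 15), (5, 17), (0, 0), (0, 0), (0, 0), (0, 0), (1, 4), (0, 0),
   (6, 11), (13, 18), (0, 0), (0, 0), (0, 0), (0, 0), (1, 12), (0, 0), (7, 14), (9, 19), (0, 0), (0, 0),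
   (0, 0), (0, 0), (1, 8), (0, 0), (1, 2), (3, 20), (0, 0), (0, 0), (0, 3), (0, 0), (0, 0), (3, 16),
   (9, 14), (7, 19), (0, 0), (0, 0), (0, 0), (0, 0), (3, 4), (0, 0), (5, 10), (15, 17), (0, 0), (0, 0),
   (0, 0), (0, 0), (3, 12), (0, 0), (6, 13), (11, 18), (0, 0), (0, 0), (0, 0), (0, 0), (3, 8), (0, 0),
   (1, 3), (2, 20), (0, 0), (0, 0), (0, 2), (0, 0), (0, 0), (2, 16), (11, 13), (6, 18), (0, 0), (0, 0),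
   (0, 0), (0, 0), (2, 4), (0, 0), (7, 9), (14, 19), (0, 0), (0, 0), (0, 0), (0, 0), (2, 12), (0, 0),
   (5, 15), (10, 17), (0, 0), (0, 0), (0, 0), (0, 0), (2, 8), (0, 0), (18, 19), (0, 0), (17, 20), (0, 0),
   (16, 17), (0, 0), (0, 0), (0, 17), (9, 13), (0, 0), (1, 5), (0, 0), (0, 0), (4, 17), (0, 0), (0, 0),
   (7, 11), (0, 0), (3, 15), (0, 0), (0, 0), (12, 17), (0, 0), (0, 0), (6, 14), (0, 0), (2, 10), (0, 0),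
   (0, 0), (8, 17), (0, 0), (0, 0), (6, 7), (0, 0), (0, 0), (1, 17), (4, 5), (0, 0), (0, 0), (0, 0),
   (11, 14), (0, 0), (0, 0), (5, 20), (0, 0), (5, 16), (0, 5), (0, 0), (0, 0), (13, 19), (2, 15), (0, 0),
   (5, 8), (0, 0), (0, 0), (0, 0), (0, 0), (9, 18), (3, 10), (0, 0), (5, 12), (0, 0), (0, 0), (0, 0),
   (13, 14), (0, 0), (0, 0), (3, 17), (12, 15), (0, 0), (0, 0), (0, 0), (0, 0), (7, 18), (2, 5), (0, 0),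
   (8, 15), (0, 0), (0, 0), (0, 0), (6, 9), (0, 0), (0, 0), (15, 20), (0, 0), (15, 16), (0, 15), (0, 0),
   (0, 0), (11, 19), (1, 10), (0, 0), (4, 15), (0, 0), (0, 0), (0, 0), (9, 11), (0, 0), (0, 0), (2, 17),
   (8, 10), (0, 0), (0, 0), (0, 0), (0, 0), (6, 19), (3, 5), (0, 0), (10, 12), (0, 0), (0, 0), (0, 0),
   (0, 0), (14, 18), (1, 15), (0, 0), (4, 10), (0, 0), (0, 0), (0, 0), (7, 13), (0, 0), (0, 0), (10, 20),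
   (0, 0), (10, 16), (0, 10), (0, 0), (17, 18), (0, 0), (19, 20), (0, 0), (16, 19), (0, 0), (0, 0), (0, 19),
   (11, 15), (0, 0), (3, 7), (0, 0), (0, 0), (4, 19), (0, 0), (0, 0), (6, 10), (0, 0), (2, 14), (0, 0),
   (0, 0), (12, 19), (0, 0), (0, 0), (5, 13), (0, 0), (1, 9), (0, 0), (0, 0), (8, 19), (0, 0), (0, 0),
   (10, 11), (0, 0), (0, 0), (1, 19), (8, 9), (0, 0), (0, 0), (0, 0), (0, 0), (5, 18), (2, 7), (0, 0),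
   (9, 12), (0, 0), (0, 0), (0, 0), (0, 0), (13, 17), (3, 14), (0, 0), (4, 9), (0, 0), (0, 0), (0, 0),
   (6, 15), (0, 0), (0, 0), (9, 20), (0, 0), (9, 16), (0, 9), (0, 0), (5, 6), (0, 0), (0, 0), (3, 19),
   (4, 7), (0, 0), (0, 0), (0, 0), (10, 13), (0, 0), (0, 0), (7, 20), (0, 0), (7, 16), (0, 7), (0, 0),
   (0, 0), (15, 18), (1, 14), (0, 0), (7, 8), (0, 0), (0, 0), (0, 0), (0, 0), (11, 17), (2, 9), (0, 0),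
   (7, 12), (0, 0), (0, 0), (0, 0), (13, 15), (0, 0), (0, 0), (2, 19), (12, 14), (0, 0), (0, 0), (0, 0),
   (0, 0), (6, 17), (1, 7), (0, 0), (8, 14), (0, 0), (0, 0), (0, 0), (5, 11), (0, 0), (0, 0), (14, 20),
   (0, 0), (14, 16), (0, 14), (0, 0), (0, 0), (10, 18), (3, 9), (0, 0), (4, 14), (0, 0), (0, 0), (0, 0),
   (17, 19), (0, 0), (18, 20), (0, 0), (16, 18), (0, 0), (0, 0), (0, 18), (10, 14), (0, 0), (2, 6), (0, 0),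
   (0, 0), (4, 18), (0, 0), (0, 0), (5, 9), (0, 0), (1, 13), (0, 0), (0, 0), (12, 18), (0, 0), (0, 0),
   (7, 15), (0, 0), (3, 11), (0, 0), (0, 0), (8, 18), (0, 0), (0, 0), (14, 15), (0, 0), (0, 0), (1, 18),
   (12, 13), (0, 0), (0, 0), (0, 0), (0, 0), (5, 19), (3, 6), (0, 0), (8, 13), (0, 0), (0, 0), (0, 0),
   (7, 10), (0, 0), (0, 0), (13, 20), (0, 0), (13, 16), (0, 13), (0, 0), (0, 0), (9, 17), (2, 11), (0, 0),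
   (4, 13), (0, 0), (0, 0), (0, 0), (9, 10), (0, 0), (0, 0), (3, 18), (8, 11), (0, 0), (0, 0), (0, 0),
   (0, 0), (7, 17), (1, 6), (0, 0), (11, 12), (0, 0), (0, 0), (0, 0), (0, 0), (15, 19), (2, 13), (0, 0),
   (4, 11), (0, 0), (0, 0), (0, 0), (5, 14), (0, 0), (0, 0), (11, 20), (0, 0), (11, 16), (0, 11), (0, 0),
   (5, 7), (0, 0), (0, 0), (2, 18), (4, 6), (0, 0), (0, 0), (0, 0), (9, 15), (0, 0), (0, 0), (6, 20),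
   (0, 0), (6, 16), (0, 6), (0, 0), (0, 0), (14, 17), (3, 13), (0, 0), (6, 8), (0, 0), (0, 0), (0, 0),
   (0, 0), (10, 19), (1, 11), (0, 0), (6, 12), (0, 0), (0, 0), (0, 0)]

/-- Three disjoint triples for each code of rank three. -/
def triTab : List (List ℕ) :=
  [[], [], [], [],
   [], [], [], [0, 16, 20, 5, 11, 14, 6, 9, 15],
   [], [], [], [],
   [1, 5, 17, 2, 6, 18, 3, 7, 19], [1, 10, 15, 2, 11, 13, 3, 9, 14], [0, 4, 20, 9, 13, 17, 10, 14, 18], [],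
   [], [], [], [],
   [1, 13, 18, 2, 14, 19, 3, 15, 17], [1, 6, 11, 2, 7, 9, 3, 5, 10], [0, 12, 20, 5, 9, 18, 6, 10, 19], [],
   [], [], [], [],
   [1, 9, 19, 2, 10, 17, 3, 11, 18], [1, 7, 14, 2, 5, 15, 3, 6, 13], [0, 8, 20, 5, 13, 19, 6, 14, 17], [],
   [], [], [2, 3, 16, 4, 5, 17, 8, 9, 19], [1, 16, 20, 4, 10, 15, 6, 11, 12],
   [], [], [0, 1, 16, 6, 7, 17, 10, 11, 19], [],
   [], [], [1, 4, 20, 8, 13, 18, 9, 12, 19], [2, 3, 4, 5, 16, 17, 6, 8, 11],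
   [1, 4, 16, 2, 7, 19, 3, 6, 18], [1, 8, 12, 2, 9, 14, 3, 11, 13], [], [0, 1, 4, 5, 18, 19, 6, 9, 10],
   [], [], [1, 12, 20, 4, 9, 19, 5, 8, 17], [2, 3, 12, 4, 7, 14, 8, 10, 15],
   [1, 12, 16, 2, 15, 17, 3, 14, 19], [1, 4, 8, 2, 5, 10, 3, 7, 9], [], [0, 1, 12, 5, 6, 14, 9, 11, 15],
   [], [], [1, 8, 20, 4, 13, 18, 5, 12, 17], [2, 3, 8, 4, 6, 11, 9, 16, 19],
   [1, 8, 16, 2, 11, 18, 3, 10, 17], [1, 4, 12, 2, 6, 13, 3, 5, 15], [], [0, 1, 8, 5, 7, 11, 9, 17, 18],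
   [], [], [1, 2, 16, 4, 7, 19, 8, 11, 18], [3, 16, 20, 4, 9, 14, 5, 10, 12],
   [], [], [0, 3, 16, 5, 6, 19, 9, 10, 18], [],
   [], [], [3, 4, 20, 8, 15, 17, 9, 14, 16], [1, 2, 4, 5, 8, 10, 6, 12, 13],
   [1, 6, 18, 2, 5, 17, 3, 4, 16], [1, 11, 13, 2, 10, 15, 3, 8, 12], [], [0, 3, 4, 5, 9, 11, 6, 14, 15],
   [], [], [3, 12, 20, 4, 11, 18, 5, 10, 16], [1, 2, 12, 4, 6, 13, 8, 9, 14],
   [1, 14, 19, 2, 13, 18, 3, 12, 16], [1, 7, 9, 2, 6, 11, 3, 4, 8], [], [0, 3, 12, 5, 7, 13, 10, 11, 14],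
   [], [], [3, 8, 20, 4, 15, 17, 6, 13, 16], [1, 2, 8, 4, 5, 10, 9, 12, 14],
   [1, 10, 17, 2, 9, 19, 3, 8, 16], [1, 5, 15, 2, 7, 14, 3, 4, 12], [], [0, 3, 8, 6, 7, 10, 9, 13, 15],
   [], [], [1, 3, 16, 4, 6, 18, 8, 10, 17], [2, 16, 20, 4, 11, 13, 5, 8, 15],
   [], [], [0, 2, 16, 5, 7, 18, 9, 11, 17], [],
   [], [], [2, 4, 20, 8, 14, 19, 10, 12, 17], [1, 3, 4, 5, 12, 15, 6, 16, 18],
   [1, 7, 19, 2, 4, 16, 3, 5, 17], [1, 9, 14, 2, 8, 12, 3, 10, 15], [], [0, 2, 4, 5, 13, 14, 6, 17, 19],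
   [], [], [2, 12, 20, 4, 10, 17, 6, 8, 18], [1, 3, 12, 4, 5, 15, 8, 11, 13],
   [1, 15, 17, 2, 12, 16, 3, 13, 18], [1, 5, 10, 2, 4, 8, 3, 6, 11], [], [0, 2, 12, 6, 7, 15, 9, 10, 13],
   [], [], [2, 8, 20, 4, 14, 19, 5, 15, 16], [1, 3, 8, 4, 7, 9, 10, 16, 17],
   [1, 11, 18, 2, 8, 16, 3, 9, 19], [1, 6, 13, 2, 4, 12, 3, 7, 14], [], [0, 2, 8, 5, 6, 9, 10, 18, 19],
   [], [0, 18, 19, 1, 4, 5, 2, 8, 10], [], [0, 17, 20, 4, 9, 13, 6, 8, 14],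
   [], [0, 16, 17, 1, 6, 7, 2, 9, 11], [], [],
   [], [0, 9, 13, 2, 10, 12, 3, 8, 15], [], [0, 1, 5, 4, 18, 19, 6, 12, 14],
   [0, 4, 17, 2, 6, 19, 3, 7, 18], [], [1, 5, 20, 8, 12, 17, 10, 14, 19], [2, 3, 5, 4, 16, 17, 6, 13, 15],
   [], [0, 7, 11, 1, 5, 8, 2, 4, 10], [], [0, 3, 15, 4, 6, 14, 8, 9, 13],
   [0, 12, 17, 1, 13, 19, 2, 14, 18], [], [3, 15, 20, 4, 8, 17, 5, 9, 19], [1, 2, 15, 5, 7, 14, 10, 11, 13],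
   [], [0, 6, 14, 1, 5, 12, 3, 4, 15], [], [0, 2, 10, 4, 7, 11, 8, 18, 19],
   [0, 8, 17, 1, 9, 18, 3, 11, 19], [], [2, 10, 20, 4, 12, 17, 5, 13, 18], [1, 3, 10, 5, 6, 11, 8, 16, 17],
   [], [0, 6, 7, 1, 16, 17, 2, 12, 15], [0, 1, 17, 6, 7, 16, 8, 9, 18], [],
   [], [0, 4, 5, 1, 18, 19, 2, 13, 14], [2, 3, 17, 4, 5, 16, 10, 11, 18], [1, 17, 20, 5, 8, 12, 6, 10, 13],
   [], [0, 11, 14, 2, 8, 15, 3, 10, 12], [0, 5, 20, 8, 13, 19, 9, 12, 18], [],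
   [0, 5, 16, 2, 7, 18, 3, 6, 19], [], [], [],
   [0, 13, 19, 1, 12, 17, 2, 15, 16], [], [], [0, 2, 15, 6, 7, 12, 8, 11, 14],
   [], [0, 5, 8, 1, 7, 11, 2, 6, 9], [2, 15, 20, 5, 8, 16, 6, 11, 17], [1, 3, 15, 4, 5, 12, 9, 10, 14],
   [0, 9, 18, 1, 8, 17, 3, 10, 16], [], [], [0, 3, 10, 6, 7, 8, 9, 16, 18],
   [], [0, 5, 12, 1, 6, 14, 3, 7, 13], [3, 10, 20, 5, 12, 16, 6, 15, 18], [1, 2, 10, 4, 5, 8, 9, 17, 19],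
   [], [0, 13, 14, 1, 8, 10, 2, 4, 5], [0, 3, 17, 4, 7, 18, 8, 11, 19], [],
   [], [0, 12, 15, 1, 9, 11, 2, 6, 7], [1, 2, 17, 5, 6, 18, 9, 10, 19], [3, 17, 20, 4, 8, 15, 5, 11, 13],
   [0, 7, 18, 2, 5, 16, 3, 4, 17], [], [], [0, 2, 5, 4, 13, 14, 6, 8, 9],
   [], [0, 8, 15, 2, 11, 14, 3, 9, 13], [2, 5, 20, 8, 15, 16, 9, 14, 17], [1, 3, 5, 4, 12, 15, 6, 10, 11],
   [], [0, 6, 9, 1, 4, 10, 2, 5, 8], [0, 15, 20, 4, 11, 19, 6, 9, 16], [],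
   [0, 15, 16, 1, 14, 18, 2, 13, 19], [], [], [],
   [0, 11, 19, 1, 10, 16, 3, 8, 17], [], [], [0, 1, 10, 4, 6, 9, 8, 13, 14],
   [], [0, 4, 15, 1, 7, 13, 3, 6, 14], [1, 10, 20, 4, 15, 16, 5, 14, 19], [2, 3, 10, 5, 7, 9, 8, 12, 15],
   [], [0, 9, 11, 1, 12, 15, 2, 16, 17], [0, 2, 17, 4, 6, 19, 9, 11, 16], [],
   [], [0, 8, 10, 1, 13, 14, 2, 18, 19], [1, 3, 17, 5, 7, 19, 8, 10, 16], [2, 17, 20, 4, 10, 12, 5, 9, 14],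
   [0, 6, 19, 2, 4, 17, 3, 5, 16], [], [], [0, 3, 5, 4, 9, 11, 6, 16, 19],
   [], [0, 10, 12, 2, 9, 13, 3, 11, 14], [3, 5, 20, 9, 15, 19, 10, 12, 16], [1, 2, 5, 4, 8, 10, 6, 17, 18],
   [0, 14, 18, 1, 15, 16, 2, 12, 17], [], [], [0, 1, 15, 4, 7, 13, 9, 11, 12],
   [], [0, 4, 10, 1, 6, 9, 2, 7, 11], [1, 15, 20, 4, 10, 16, 5, 11, 18], [2, 3, 15, 5, 6, 13, 8, 10, 12],
   [], [0, 7, 13, 1, 4, 15, 3, 5, 12], [0, 10, 20, 4, 14, 18, 6, 12, 19], [],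
   [0, 10, 16, 1, 11, 19, 3, 9, 18], [], [], [],
   [], [0, 17, 18, 1, 8, 9, 2, 12, 14], [], [0, 19, 20, 4, 11, 15, 5, 8, 13],
   [], [0, 16, 19, 1, 10, 11, 2, 13, 15], [], [],
   [], [0, 11, 15, 1, 9, 12, 2, 8, 14], [], [0, 3, 7, 4, 17, 18, 5, 12, 13],
   [0, 4, 19, 1, 5, 18, 2, 6, 17], [], [3, 7, 20, 8, 12, 19, 9, 13, 18], [1, 2, 7, 4, 16, 19, 5, 14, 15],
   [], [0, 6, 10, 1, 4, 9, 3, 7, 8], [], [0, 2, 14, 4, 5, 13, 8, 11, 15],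
   [0, 12, 19, 1, 13, 17, 3, 15, 18], [], [2, 14, 20, 4, 8, 19, 5, 9, 17], [1, 3, 14, 6, 7, 13, 9, 10, 15],
   [], [0, 5, 13, 2, 4, 14, 3, 7, 12], [], [0, 1, 9, 4, 6, 10, 8, 17, 18],
   [0, 8, 19, 2, 10, 18, 3, 11, 17], [], [1, 9, 20, 4, 12, 19, 6, 14, 18], [2, 3, 9, 5, 7, 10, 8, 16, 19],
   [], [0, 10, 11, 1, 16, 19, 2, 4, 7], [0, 1, 19, 4, 5, 18, 10, 11, 16], [],
   [], [0, 8, 9, 1, 17, 18, 2, 5, 6], [2, 3, 19, 6, 7, 18, 8, 9, 16], [1, 19, 20, 4, 9, 12, 5, 10, 14],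
   [0, 5, 18, 1, 4, 19, 2, 7, 16], [], [], [0, 2, 7, 4, 10, 11, 5, 16, 18],
   [], [0, 9, 12, 1, 11, 15, 2, 10, 13], [2, 7, 20, 9, 12, 16, 10, 15, 19], [1, 3, 7, 4, 8, 9, 5, 17, 19],
   [0, 13, 17, 1, 12, 19, 3, 14, 16], [], [], [0, 3, 14, 4, 6, 15, 10, 11, 12],
   [], [0, 4, 9, 1, 6, 10, 3, 5, 11], [3, 14, 20, 4, 9, 16, 6, 11, 19], [1, 2, 14, 5, 7, 15, 8, 9, 12],
   [], [0, 6, 15, 2, 7, 12, 3, 4, 14], [0, 9, 20, 4, 13, 17, 5, 12, 18], [],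
   [0, 9, 16, 2, 11, 17, 3, 10, 18], [], [], [],
   [], [0, 5, 6, 1, 12, 14, 2, 8, 9], [0, 3, 19, 5, 6, 16, 8, 11, 17], [],
   [], [0, 4, 7, 1, 13, 15, 2, 10, 11], [1, 2, 19, 4, 7, 16, 9, 10, 17], [3, 19, 20, 5, 9, 15, 6, 11, 14],
   [], [0, 10, 13, 1, 8, 14, 2, 9, 12], [0, 7, 20, 8, 15, 18, 10, 13, 16], [],
   [0, 7, 16, 1, 6, 17, 2, 5, 18], [], [], [],
   [0, 15, 18, 1, 14, 16, 3, 12, 19], [], [], [0, 1, 14, 5, 6, 12, 8, 10, 13],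
   [], [0, 7, 8, 1, 5, 11, 3, 6, 10], [1, 14, 20, 5, 10, 19, 6, 9, 18], [2, 3, 14, 4, 7, 12, 9, 11, 13],
   [0, 11, 17, 2, 9, 16, 3, 8, 19], [], [], [0, 2, 9, 5, 6, 8, 10, 12, 13],
   [], [0, 7, 12, 2, 6, 15, 3, 5, 13], [2, 9, 20, 5, 14, 17, 6, 13, 19], [1, 3, 9, 4, 7, 8, 10, 14, 15],
   [], [0, 13, 15, 1, 4, 7, 2, 16, 19], [0, 2, 19, 4, 6, 17, 8, 10, 18], [],
   [], [0, 12, 14, 1, 5, 6, 2, 17, 18], [1, 3, 19, 5, 7, 17, 9, 11, 18], [2, 19, 20, 4, 8, 14, 6, 9, 13],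
   [0, 6, 17, 1, 7, 16, 2, 4, 19], [], [], [0, 1, 7, 4, 13, 15, 5, 8, 11],
   [], [0, 8, 14, 1, 10, 13, 2, 11, 15], [1, 7, 20, 8, 14, 16, 9, 15, 17], [2, 3, 7, 4, 12, 14, 5, 9, 10],
   [], [0, 5, 11, 1, 7, 8, 3, 4, 9], [0, 14, 20, 4, 10, 18, 5, 11, 16], [],
   [0, 14, 16, 1, 15, 18, 3, 13, 17], [], [], [],
   [0, 10, 18, 2, 8, 19, 3, 9, 16], [], [], [0, 3, 9, 4, 5, 11, 8, 13, 15],
   [], [0, 4, 14, 2, 5, 13, 3, 6, 15], [3, 9, 20, 4, 14, 16, 5, 15, 19], [1, 2, 9, 6, 7, 11, 8, 12, 14],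
   [], [0, 17, 19, 1, 12, 13, 2, 4, 6], [], [0, 18, 20, 4, 10, 14, 5, 9, 12],
   [], [0, 16, 18, 1, 14, 15, 2, 5, 7], [], [],
   [], [0, 10, 14, 1, 8, 13, 3, 11, 12], [], [0, 2, 6, 4, 17, 19, 5, 8, 9],
   [0, 4, 18, 1, 5, 19, 3, 7, 17], [], [2, 6, 20, 8, 12, 18, 9, 13, 19], [1, 3, 6, 4, 16, 18, 5, 10, 11],
   [], [0, 5, 9, 2, 6, 8, 3, 4, 11], [], [0, 1, 13, 4, 7, 15, 8, 10, 14],
   [0, 12, 18, 2, 14, 17, 3, 15, 19], [], [1, 13, 20, 4, 8, 18, 6, 10, 17], [2, 3, 13, 5, 6, 15, 9, 11, 14],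
   [], [0, 7, 15, 1, 4, 13, 2, 6, 12], [], [0, 3, 11, 4, 5, 9, 8, 17, 19],
   [0, 8, 18, 1, 9, 17, 2, 10, 19], [], [3, 11, 20, 4, 12, 18, 5, 13, 17], [1, 2, 11, 6, 7, 9, 8, 16, 18],
   [], [0, 14, 15, 1, 16, 18, 2, 8, 11], [0, 1, 18, 4, 5, 19, 8, 9, 17], [],
   [], [0, 12, 13, 1, 17, 19, 2, 9, 10], [2, 3, 18, 6, 7, 19, 10, 11, 17], [1, 18, 20, 4, 8, 13, 5, 11, 15],
   [0, 5, 19, 1, 4, 18, 3, 6, 16], [], [], [0, 3, 6, 4, 14, 15, 5, 16, 19],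
   [], [0, 8, 13, 1, 10, 14, 3, 9, 15], [3, 6, 20, 8, 13, 16, 10, 15, 18], [1, 2, 6, 4, 12, 13, 5, 17, 18],
   [], [0, 7, 10, 2, 4, 11, 3, 6, 8], [0, 13, 20, 4, 9, 17, 5, 8, 19], [],
   [0, 13, 16, 2, 15, 19, 3, 14, 17], [], [], [],
   [0, 9, 17, 1, 8, 18, 2, 11, 16], [], [], [0, 2, 11, 4, 7, 10, 8, 14, 15],
   [], [0, 4, 13, 1, 7, 15, 2, 5, 14], [2, 11, 20, 4, 13, 16, 6, 15, 17], [1, 3, 11, 5, 6, 10, 8, 12, 13],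
   [], [0, 9, 10, 1, 4, 6, 2, 12, 13], [0, 3, 18, 4, 7, 17, 9, 10, 16], [],
   [], [0, 8, 11, 1, 5, 7, 2, 14, 15], [1, 2, 18, 5, 6, 17, 8, 11, 16], [3, 18, 20, 4, 11, 12, 6, 10, 15],
   [0, 7, 17, 1, 6, 16, 3, 4, 18], [], [], [0, 1, 6, 4, 9, 10, 5, 12, 14],
   [], [0, 11, 12, 1, 9, 15, 3, 10, 14], [1, 6, 20, 9, 14, 18, 10, 13, 17], [2, 3, 6, 4, 8, 11, 5, 13, 15],
   [0, 15, 19, 2, 13, 16, 3, 12, 18], [], [], [0, 2, 13, 4, 5, 14, 9, 10, 12],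
   [], [0, 4, 11, 2, 7, 10, 3, 5, 9], [2, 13, 20, 4, 11, 16, 5, 10, 18], [1, 3, 13, 6, 7, 14, 8, 11, 12],
   [], [0, 5, 14, 1, 6, 12, 2, 4, 13], [0, 11, 20, 4, 15, 19, 5, 14, 16], [],
   [0, 11, 16, 1, 10, 19, 2, 9, 17], [], [], [],
   [], [0, 5, 7, 1, 8, 11, 2, 16, 18], [0, 2, 18, 5, 7, 16, 8, 10, 19], [],
   [], [0, 4, 6, 1, 9, 10, 2, 17, 19], [1, 3, 18, 4, 6, 16, 9, 11, 19], [2, 18, 20, 5, 10, 13, 6, 8, 12],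
   [], [0, 9, 15, 1, 11, 12, 3, 8, 13], [0, 6, 20, 8, 14, 17, 9, 15, 16], [],
   [0, 6, 16, 1, 7, 17, 3, 5, 19], [], [], [],
   [0, 14, 17, 2, 12, 18, 3, 13, 16], [], [], [0, 3, 13, 5, 7, 12, 8, 9, 15],
   [], [0, 6, 8, 2, 5, 9, 3, 7, 10], [3, 13, 20, 5, 11, 17, 6, 8, 16], [1, 2, 13, 4, 6, 12, 10, 11, 15],
   [0, 10, 19, 1, 11, 16, 2, 8, 18], [], [], [0, 1, 11, 5, 7, 8, 9, 12, 15],
   [], [0, 6, 12, 1, 5, 14, 2, 7, 15], [1, 11, 20, 5, 15, 18, 6, 12, 16], [2, 3, 11, 4, 6, 8, 9, 13, 14]]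

/-- A point of a number. -/
def fin21 (n : ℕ) : Fin 21 := ⟨n % 21, Nat.mod_lt _ (by norm_num)⟩

/-- The pair of a code. -/
def pairOf (f : Herm) : Fin 21 × Fin 21 :=
  let e := pairTab.getD f.toNat (0, 0)
  (fin21 e.1, fin21 e.2)

/-- The triples of a code. -/
def trisOf (f : Herm) : List (Fin 21) := (triTab.getD f.toNat []).map fin21

theorem pair_ok : ∀ f : Herm, f.rank = 2 →
    (pairOf f).1 ≠ (pairOf f).2 ∧ (pc (pairOf f).1).add (pc (pairOf f).2) = f := by decide +kernel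

theorem tri_ok : ∀ f : Herm, f.rank = 3 → (trisOf f).Nodup ∧ (trisOf f).length = 9 ∧
    sumH ((trisOf f).take 3) = f ∧ sumH (((trisOf f).drop 3).take 3) = f ∧ sumH ((trisOf f).drop 6) = f := by
  decide +kernel

theorem rank_cases : ∀ f : Herm, f = Herm.zero ∨ f.rank = 1 ∨ f.rank = 2 ∨ f.rank = 3 := by decide +kernel

/-- Outside a line the points determine the vector. -/
theorem third_span : ∀ a b : Fin 21, a ≠ b → ∃ c : Fin 21, c ≠ a ∧ c ≠ b ∧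
    (((pc a).add (pc b)).add (pc c)).rank = 3 ∧
    ∀ q0 q1 q2 : Q4,
      ([a, b, c].all fun k => decide (((q0.mul (pt k).1.conj).add (q1.mul (pt k).2.1.conj)).add
        (q2.mul (pt k).2.2.conj) = .o)) = true → q0 = .o ∧ q1 = .o ∧ q2 = .o := by
  decide +kernel

end Cfsg.Lib.M22Rec
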