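import Cfsg.Agent.M22Rec.Linked
import Cfsg.Agent.M22Rec.Triples

/-!
Nobody outside a component centralises the products of the pairs of a commuting set in it; hence members of two
components have products of odd order and the centraliser of a product of two or three commuting members keeps the
component.
-/

set_option autoImplicit false
set_option linter.unusedSectionVars false
set_option linter.style.haveILetI false

namespace Cfsg.Lib.M22Rec

open Subgroup Cfsg.Lib.Classical Cfsg.Lib.ThreeTr Cfsg.Lib.USixFusion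

universe u v w w'

/-- The products of the pairs. -/
def pairProds {G : Type u} [Group G] (S : Finset G) : Set G := {g | ∃ a ∈ S, ∃ b ∈ S, g = a * b}

variable {G : Type u} [Group G] [Finite G] {F : Type v} [Field F] [Finite F] {V : Type w} [AddCommGroup V]
  [Module F V] {Q : Type w'} [Group Q] {H : HermSpace F V} {φ : H.SIsom →* Q} {D : Set G} {hS : IsSixSpace H}

theorem View.span_commute {x : G} (W : View hS φ D x) (hD : Sys hS φ D) (K : Coord H) {a b c : Fin 21}
    (hspan : ∀ q0 q1 q2 : Q4,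
      ([a, b, c].all fun k => decide (((q0.mul (pt k).1.conj).add (q1.mul (pt k).2.1.conj)).add
        (q2.mul (pt k).2.2.conj) = .o)) = true → q0 = .o ∧ q1 = .o ∧ q2 = .o)
    {y : G} (hy : y ∈ perp D x) (hc : ∀ k ∈ [a, b, c], Commute y (W.mem hD K k)) :
    ∃ k, y = W.mem hD K k := by
  refine W.mem_surj hD K hy ((K.frame.mem_W K.six).2 fun i => ?_)
  obtain ⟨q0, h0⟩ := K.prim.val_surj K.six (H.h (W.vec y) (K.frame.e 0))
  obtain ⟨q1, h1⟩ := K.prim.val_surj K.six (H.h (W.vec y) (K.frame.e 1))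
  obtain ⟨q2, h2⟩ := K.prim.val_surj K.six (H.h (W.vec y) (K.frame.e 2))
  obtain ⟨rfl, rfl, rfl⟩ := hspan q0 q1 q2 (List.all_eq_true.2 fun k hk => decide_eq_true (by
    refine K.prim.val_inj K.six (b := .o) ?_
    have hz : H.h (W.vec y) (pv K (pt k)) = 0 := by
      have hk' := W.mem_perp hD K k
      have h0 := (W.comm hD.ker hy hk' (hD.inv _ hy.1).1 (hD.inv _ hk'.1).1).1 (hc k hk)
      have hr := W.r_mem hD K k
      rw [W.img _ hk'] at hr
      obtain ⟨s, hs, es⟩ := (hS.tv_image_eq_iff φ hD.ker (pv_iso K (pt k)) (W.vec_iso _ hk') (pv_pt_ne K k)).1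
        ((congrArg φ (tv_pv K (pt k))).trans hr.symm)
      rw [es, H.smul_right, h0, mul_zero]
    rw [show val K.w Q4.o = 0 from rfl, ← hz]
    simp only [pv, H.add_right, H.smul_right, K.prim.val_add K.six, K.prim.val_mul K.six, K.prim.val_conj K.six, h0,
      h1, h2]
    ring))
  fin_cases i
  exacts [h0.symm.trans rfl, h1.symm.trans rfl, h2.symm.trans rfl]

namespace Sys

variable (hD : Sys hS φ D)
include hD

theorem no_outside {d e : G} (hd : d ∈ D) (he : e ∈ D) (S : Finset G) (hl : ∀ s ∈ S, Linked D d s)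
    (hc : ∀ a ∈ S, ∀ b ∈ S, Commute a b) (htwo : ∃ a ∈ S, ∃ b ∈ S, a ≠ b)
    (hce : ∀ p ∈ pairProds S, Commute e p) : Linked D d e := by
  classical
  haveI := Fintype.ofFinite G
  suffices H : ∀ n, ∀ S : Finset G, Fintype.card G - S.card ≤ n → (∀ s ∈ S, Linked D d s) →
      (∀ a ∈ S, ∀ b ∈ S, Commute a b) → (∃ a ∈ S, ∃ b ∈ S, a ≠ b) →
      ∀ e ∈ D, (∀ p ∈ pairProds S, Commute e p) → Linked D d e from
    H _ S le_rfl hl hc htwo e he hce
  intro n
  induction n using Nat.strong_induction_on with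
  | _ n ih =>
  intro S hn hl hc htwo e he hce
  by_contra hout
  have hSD : ∀ s ∈ S, s ∈ D := fun s hs => linked_mem hd (hl s hs)
  -- a larger set
  have hgrow : ∀ y, Linked D d y → y ∉ S → (∀ a ∈ S, Commute y a) →
      ∀ e' ∈ D, (∀ p ∈ pairProds (insert y S), Commute e' p) → Linked D d e' := by
    intro y hly hyS hyc e' he'
    have hcard : (insert y S).card = S.card + 1 := Finset.card_insert_of_notMem hyS
    have hle := Finset.card_le_univ (insert y S)
    refine ih _ (show Fintype.card G - (insert y S).card < n by omega) (insert y S) le_rfl ?_ ?_ ?_ e' he'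
    · intro s hs
      rcases Finset.mem_insert.1 hs with rfl | hs
      exacts [hly, hl s hs]
    · intro a ha b hb
      rcases Finset.mem_insert.1 ha with ea | ha <;> rcases Finset.mem_insert.1 hb with eb | hb
      · rw [ea, eb]
      · rw [ea]; exact hyc b hb
      · rw [eb]; exact (hyc a ha).symm
      · exact hc a ha b hb
    · obtain ⟨a, ha, b, hb, hab⟩ := htwo
      exact ⟨a, Finset.mem_insert_of_mem ha, b, Finset.mem_insert_of_mem hb, hab⟩
  set M := centralizer (pairProds S) with hM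
  have hMc : ∀ g, g ∈ M ↔ ∀ p ∈ pairProds S, Commute g p := fun g => by
    rw [hM, mem_centralizer_iff]
    exact ⟨fun h p hp => (h p hp).symm, fun h p hp => (h p hp).eq.symm⟩
  have heM : e ∈ M := (hMc e).2 hce
  have hSM : ∀ s ∈ S, s ∈ M := fun s hs => (hMc s).2 fun p ⟨a, ha, b, hb, e⟩ =>
    e ▸ (hc s hs a ha).mul_right (hc s hs b hb)
  have hother : ∀ a ∈ S, ∃ b ∈ S, a ≠ b := fun a _ => by
    obtain ⟨p, hp, q, hq, hpq⟩ := htwo
    rcases eq_or_ne a p with rfl | h
    exacts [⟨q, hq, hpq⟩, ⟨p, hp, h⟩]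
  have hcom : ∀ y, Linked D d y → y ∈ M → ∀ a ∈ S, Commute y a := fun y hy hyM a ha => by
    obtain ⟨b, hb, hab⟩ := hother a ha
    exact (hD.commute_of_pair (linked_mem hd hy) (hSD a ha) (hSD b hb)
      (hD.linked_trans (hSD a ha) (linked_symm hd (hl a ha)) hy) hab (hc a ha b hb)
      ((hMc y).1 hyM _ ⟨a, ha, b, hb, rfl⟩)).1
  -- pairs are kept
  have hperm : ∀ k ∈ M, ∀ a ∈ S, ∀ b ∈ S, a ≠ b → Linked D d (k * a * k⁻¹) →
      k * a * k⁻¹ = a ∨ k * a * k⁻¹ = b := by
    intro k hk a ha b hb hab hl'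
    have hprod : a * b = (k * a * k⁻¹) * (k * b * k⁻¹) := by
      rw [show (k * a * k⁻¹) * (k * b * k⁻¹) = k * (a * b) * k⁻¹ by group,
        ((hMc k).1 hk _ ⟨a, ha, b, hb, rfl⟩).eq, mul_inv_cancel_right]
    rcases hD.pair_unique (hSD a ha) (hSD b hb) hab (hc a ha b hb) (hD.conj k a (hSD a ha))
      (hD.conj k b (hSD b hb)) (fun e => hab (mul_left_cancel (mul_right_cancel e)))
      (by simpa using (hc a ha b hb).map (MulAut.conj k))
      (hD.linked_trans (hSD a ha) (linked_symm hd (hl a ha)) hl') hprod with h | h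
    exacts [Or.inl h.1, Or.inr h.1]
  -- the set is not maximal
  obtain ⟨x, hxS, x', hx'S, hxx'⟩ := htwo
  obtain ⟨d1, hd1l, hd1S, hd1c⟩ : ∃ y, Linked D d y ∧ y ∉ S ∧ ∀ a ∈ S, Commute y a := by
    by_contra hmax
    push Not at hmax
    have hx := hSD x hxS
    obtain ⟨W⟩ := hD.view x hx
    obtain ⟨K, hK⟩ := W.exists_plane hD (s := {y | y ∈ S ∧ y ≠ x})
      (fun y hy => ⟨hSD y hy.1, hy.2, hc x hxS y hy.1⟩) (fun y hy z hz => hc y hy.1 z hz.1)
    have hmem : ∀ k, W.mem hD K k ∈ S := fun k => by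
      by_contra hk
      obtain ⟨a, ha, hna⟩ := hmax _ (hD.linked_step hd (hl x hxS) (W.mem_perp hD K k)) hk
      rcases eq_or_ne a x with rfl | hax
      · exact hna (W.mem_perp hD K k).2.2.symm
      · obtain ⟨j, rfl⟩ := hK a ⟨ha, hax⟩
        exact hna (W.mem_comm hD K k j)
    have hin : ∀ a ∈ insert x (Set.range (W.mem hD K)), a ∈ S := by
      rintro a (rfl | ⟨k, rfl⟩)
      exacts [hxS, hmem k]
    have hxe : Commute e x := by
      have h : x ∈ centralizer ({e} : Set G) := by
        refine (closure_le _).2 ?_ (hD.base_mem hx W K)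
        rintro _ ⟨a, ha, b, hb, rfl⟩
        exact mem_centralizer_singleton_iff.2 (hce _ ⟨a, hin a ha, b, hin b hb, rfl⟩).eq.symm
      exact (mem_centralizer_singleton_iff.1 h).symm
    exact hout (hD.linked_trans hd (hl x hxS) (linked_of_commute he hxe.symm))
  -- members outside come with a pair
  have hA : ∀ e' ∈ D, ¬ Linked D d e' → e' ∈ M →
      (∃ h ∈ M, ∃ a ∈ S, h * a * h⁻¹ = e') ∨ ∃ y ∈ S, y ≠ x ∧ e' * (x * y) ∈ D := by
    intro e' he' hout' he'M
    have hx := hD.sq (hSD x hxS)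
    have hee := hD.sq he'
    by_cases hodd : Odd (orderOf (x * e'))
    · obtain ⟨g, hg, hge⟩ := odd_conj (hSM x hxS) he'M hx hee hodd
      exact Or.inl ⟨g, hg, x, hxS, hge⟩
    obtain ⟨m, -, hcx, hce', hii, hi1⟩ := even_central hx hee hodd
    set i := (x * e') ^ m with hi
    have hyD : x * i ∈ D := alt_mem hD.conj hx hee (hSD x hxS) he' m
    have hyne : x * i ≠ x := fun h => hi1 (mul_eq_left.1 h)
    have hly : Linked D d (x * i) :=
      hD.linked_trans hd (hl x hxS) (linked_of_commute hyD ((Commute.refl x).mul_right hcx))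
    have hyM : x * i ∈ M := mul_mem (hSM x hxS) (pow_mem_pair (hSM x hxS) he'M m)
    have hxy : x * (x * i) = i := by rw [← mul_assoc, hx, one_mul]
    by_cases hyS : x * i ∈ S
    · refine Or.inr ⟨_, hyS, hyne, ?_⟩
      rw [hxy]
      have h := alt_mem hD.conj hx hee (hSD x hxS) he' (m + 1)
      rw [pow_succ', ← hi, ← mul_assoc, ← mul_assoc, hx, one_mul] at h
      exact h
    exfalso
    refine hout' (hgrow _ hly hyS (hcom _ hly hyM) e' he' ?_)
    have hone : ∀ a ∈ S, Commute e' (x * i * a) := fun a ha => by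
      rw [show x * i * a = i * (x * a) by rw [hcx.eq, mul_assoc]]
      exact hce'.mul_right ((hMc e').1 he'M _ ⟨x, hxS, a, ha, rfl⟩)
    rintro p ⟨a, ha, b, hb, rfl⟩
    rcases Finset.mem_insert.1 ha with ea | ha <;> rcases Finset.mem_insert.1 hb with eb | hb
    · rw [ea, eb, hD.sq hyD]
      exact Commute.one_right _
    · rw [ea]; exact hone b hb
    · rw [eb, ← (hcom _ hly hyM a ha).eq]; exact hone a ha
    · exact (hMc e').1 he'M _ ⟨a, ha, b, hb, rfl⟩
  -- the pair products keep the component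
  have hB : ∀ g ∈ M, ∀ a ∈ S, Linked D d (g * a * g⁻¹) := by
    intro g hg a ha
    have hd1M : d1 ∈ M := (hMc d1).2 fun p ⟨a, ha, b, hb, e⟩ => e ▸ (hd1c a ha).mul_right (hd1c b hb)
    have hd1D := linked_mem hd hd1l
    by_cases hg1 : Linked D d (g * d1 * g⁻¹)
    · exact hD.linked_trans hd hg1 (hD.linked_conj g (linked_of_commute (hSD a ha) (hd1c a ha)))
    exfalso
    rcases hA _ (hD.conj g d1 hd1D) hg1 (mul_mem (mul_mem hg hd1M) (inv_mem hg)) with
      ⟨h, hh, a', ha', hha⟩ | ⟨y, hy, hyx, hyD⟩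
    · have hk : (g⁻¹ * h) * a' * (g⁻¹ * h)⁻¹ = d1 := by
        rw [show (g⁻¹ * h) * a' * (g⁻¹ * h)⁻¹ = g⁻¹ * (h * a' * h⁻¹) * g by group, hha]
        group
      obtain ⟨b, hb, hab⟩ := hother a' ha'
      rcases hperm _ (mul_mem (inv_mem hg) hh) a' ha' b hb hab (by rw [hk]; exact hd1l) with h' | h' <;>
        rw [hk] at h' <;> exact hd1S (by rw [h']; assumption)
    · have hgxy : Commute g (x * y) := (hMc g).1 hg _ ⟨x, hxS, y, hy, rfl⟩
      have hz : d1 * (x * y) ∈ D := by
        have h := hD.conj g⁻¹ _ hyD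
        rw [show g⁻¹ * (g * d1 * g⁻¹ * (x * y)) * g⁻¹⁻¹ = d1 * (g⁻¹ * ((x * y) * g)) by group,
          ← hgxy.eq, inv_mul_cancel_left] at h
        exact h
      have hdc : Commute d1 (x * y) := (hd1c x hxS).mul_right (hd1c y hy)
      have hne1 : d1 ≠ d1 * (x * y) := fun e => hyx (by
        have h1 : x * y = 1 := mul_eq_left.1 e.symm
        rw [eq_inv_of_mul_eq_one_right h1, hD.inv_eq (hSD x hxS)])
      have he1 : d1 * (d1 * (x * y)) = x * y := by rw [← mul_assoc, hD.sq hd1D, one_mul]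
      rcases hD.pair_unique (hSD x hxS) (hSD y hy) hyx.symm (hc x hxS y hy) hd1D hz hne1
        ((Commute.refl d1).mul_right hdc) (linked_of_commute hd1D (hd1c x hxS).symm) he1.symm with h' | h' <;>
        exact hd1S (by rw [h'.1]; assumption)
  have hfix : ∀ a ∈ S, ∀ b ∈ S, a ≠ b → e * a * e⁻¹ = a ∨ e * a * e⁻¹ = b :=
    fun a ha b hb hab => hperm e heM a ha b hb hab (hB e heM a ha)
  -- three members are fixed
  by_cases h3 : ∃ y ∈ S, y ≠ x ∧ y ≠ x'
  · obtain ⟨y, hy, hyx, hyx'⟩ := h3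
    have : e * x * e⁻¹ = x := by
      rcases hfix x hxS x' hx'S hxx' with h | h
      · exact h
      rcases hfix x hxS y hy hyx.symm with h' | h'
      · exact h'
      · exact absurd (h'.symm.trans h) hyx'
    exact hout (hD.linked_trans hd (hl x hxS) (linked_of_commute he (by
      show x * e = e * x
      conv_lhs => rw [← this]
      rw [inv_mul_cancel_right])))
  push Not at h3
  -- two members
  have hcase : ∀ e' ∈ D, ¬ Linked D d e' → e' ∈ M → e' * (x * x') ∈ D := by
    intro e' he' hout' he'M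
    rcases hA e' he' hout' he'M with ⟨h, hh, a, ha, hha⟩ | ⟨y, hy, hyx, hyD⟩
    · exact absurd (hha ▸ hB h hh a ha) hout'
    · rwa [h3 y hy hyx] at hyD
  have hv : Commute e (x * x') := hce _ ⟨x, hxS, x', hx'S, rfl⟩
  have he2 := hcase e he hout heM
  have hv1 : x * x' ≠ 1 := fun h => hxx' (by rw [eq_inv_of_mul_eq_one_left h, hD.inv_eq (hSD x' hx'S)])
  have he2p : e * (x * x') ∈ perp D e :=
    ⟨he2, fun h => hv1 (mul_eq_left.1 h), (Commute.refl e).mul_right hv⟩
  obtain ⟨W⟩ := hD.view e he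
  obtain ⟨K, hK⟩ := W.exists_plane hD (s := {e * (x * x')}) (fun y hy => by rw [hy]; exact he2p)
    (fun y hy z hz => by rw [hy, hz])
  obtain ⟨k, hk⟩ := hK _ rfl
  obtain ⟨k', hk'⟩ := exists_ne k
  set d2 := W.mem hD K k'
  have hd2 := W.mem_perp hD K k'
  have hd2v : Commute d2 (x * x') := by
    have h1 := hd2.2.2.symm.mul_right (W.mem_comm hD K k' k)
    rw [← hk, ← mul_assoc e e, hD.sq he, one_mul] at h1
    exact h1
  have hout2 : ¬ Linked D d d2 := fun h => hout (hD.linked_trans hd h (linked_of_commute he hd2.2.2.symm))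
  have hd2M : d2 ∈ M := (hMc d2).2 fun p ⟨a, ha, b, hb, e'⟩ => by
    subst e'
    have hab : ∀ a ∈ S, a = x ∨ a = x' := fun a ha => (eq_or_ne a x).imp_right (h3 a ha)
    rcases hab a ha with rfl | rfl <;> rcases hab b hb with rfl | rfl
    · rw [hD.sq (hSD _ hxS)]; exact Commute.one_right _
    · exact hd2v
    · rw [(hc _ hx'S _ hxS).eq]; exact hd2v
    · rw [hD.sq (hSD _ hx'S)]; exact Commute.one_right _
  have hz := hcase d2 hd2.1 hout2 hd2M
  have hne2 : d2 ≠ d2 * (x * x') := fun h => hv1 (mul_eq_left.1 h.symm)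
  rcases hD.pair_unique he he2 he2p.2.1.symm he2p.2.2 hd2.1 hz hne2 ((Commute.refl d2).mul_right hd2v)
    (Or.inr (Or.inl hd2)) (by rw [← mul_assoc, hD.sq he, one_mul, ← mul_assoc d2, hD.sq hd2.1, one_mul]) with h | h
  · exact hd2.2.1 h.1
  · exact hk' (W.mem_inj hD K (h.1.trans hk))

theorem cross_odd {a e : G} (ha : a ∈ D) (he : e ∈ D) (hn : ¬ Linked D a e) : Odd (orderOf (a * e)) := by
  classical
  by_contra hodd
  obtain ⟨m, -, hca, hce, -, hi1⟩ := even_central (hD.sq ha) (hD.sq he) hodd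
  set i := (a * e) ^ m
  have hy : a * i ∈ D := alt_mem hD.conj (hD.sq ha) (hD.sq he) ha he m
  have hcy : Commute a (a * i) := (Commute.refl a).mul_right hca
  have hxy : a * (a * i) = i := by rw [← mul_assoc, hD.sq ha, one_mul]
  refine hn (hD.no_outside ha he {a, a * i} ?_ ?_ ⟨a, by simp, a * i, by simp, fun e' => hi1 (mul_eq_left.1 e'.symm)⟩ ?_)
  · intro s hs
    rcases Finset.mem_insert.1 hs with rfl | hs
    · exact Or.inl rfl
    · rw [Finset.mem_singleton.1 hs]; exact linked_of_commute hy hcy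
  · intro p hp q hq
    simp only [Finset.mem_insert, Finset.mem_singleton] at hp hq
    rcases hp with ep | ep <;> rcases hq with eq | eq <;> rw [ep, eq]
    exacts [hcy, hcy.symm]
  · rintro p ⟨p1, hp1, q1, hq1, rfl⟩
    simp only [Finset.mem_insert, Finset.mem_singleton] at hp1 hq1
    rcases hp1 with ep | ep <;> rcases hq1 with eq | eq <;> rw [ep, eq]
    · rw [hD.sq ha]; exact Commute.one_right _
    · rw [hxy]; exact hce
    · rw [← hcy.eq, hxy]; exact hce
    · rw [hD.sq hy]; exact Commute.one_right _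

theorem cent_pair {p q g : G} (hp : p ∈ D) (hq : q ∈ D) (hne : p ≠ q) (hc : Commute p q)
    (hg : Commute g (p * q)) : Linked D p (g * p * g⁻¹) := by
  classical
  have hp' : Commute (g * p * g⁻¹) (p * q) := by
    have := ((Commute.refl p).mul_right hc).map (MulAut.conj g)
    simp only [MulAut.conj_apply] at this
    rwa [hg.eq, mul_inv_cancel_right] at this
  refine hD.no_outside hp (hD.conj g p hp) {p, q} ?_ ?_ ⟨p, by simp, q, by simp, hne⟩ ?_
  · intro s hs
    rcases Finset.mem_insert.1 hs with rfl | hs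
    · exact Or.inl rfl
    · rw [Finset.mem_singleton.1 hs]; exact linked_of_commute hq hc
  · intro a ha b hb
    simp only [Finset.mem_insert, Finset.mem_singleton] at ha hb
    rcases ha with ea | ea <;> rcases hb with eb | eb <;> rw [ea, eb]
    exacts [hc, hc.symm]
  · rintro r ⟨a, ha, b, hb, rfl⟩
    simp only [Finset.mem_insert, Finset.mem_singleton] at ha hb
    rcases ha with ea | ea <;> rcases hb with eb | eb <;> rw [ea, eb]
    · rw [hD.sq hp]; exact Commute.one_right _
    · exact hp'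
    · rw [← hc.eq]; exact hp'
    · rw [hD.sq hq]; exact Commute.one_right _

theorem cent_triple {p q r g : G} (hp : p ∈ D) (hq : q ∈ perp D p) (hr : r ∈ perp D p) (hqr : q ≠ r)
    (hc : Commute q r) (hg : Commute g (p * (q * r))) : Linked D p (g * p * g⁻¹) := by
  by_contra hout
  obtain ⟨W⟩ := hD.view p hp
  obtain ⟨K, hK⟩ := W.exists_plane hD (s := {q, r}) (fun y hy => by rcases hy with rfl | rfl <;> assumption)
    (fun y hy z hz => by
      rcases hy with rfl | rfl <;> rcases hz with rfl | rfl <;>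
        first | exact Commute.refl _ | exact hc | exact hc.symm)
  obtain ⟨a, rfl⟩ := hK q (Or.inl rfl)
  obtain ⟨b, rfl⟩ := hK r (Or.inr rfl)
  obtain ⟨c, hca, hcb, hrk, hspan⟩ := third_span a b fun e => hqr (e ▸ rfl)
  set q := W.mem hD K a
  set r := W.mem hD K b
  set d' := W.mem hD K c
  set w := p * (q * r) with hw
  set M := centralizer ({w} : Set G) with hM
  have hMc : ∀ g, Commute g w → g ∈ M := fun g h => mem_centralizer_singleton_iff.2 h.eq
  have hd' := W.mem_perp hD K c
  have hd'M : d' ∈ M := hMc _ (hd'.2.2.symm.mul_right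
    ((W.mem_comm hD K c a).mul_right (W.mem_comm hD K c b)))
  have hpw : Commute p w := (Commute.refl p).mul_right (hq.2.2.mul_right hr.2.2)
  set e := g * p * g⁻¹ with he
  have heD : e ∈ D := hD.conj g p hp
  have heM : e ∈ M := hMc _ (by
    have := hpw.map (MulAut.conj g)
    simp only [MulAut.conj_apply] at this
    rwa [hg.eq, mul_inv_cancel_right] at this)
  obtain ⟨h, hh, hhe⟩ := odd_conj hd'M heM (hD.sq hd'.1) (hD.sq heD)
    (hD.cross_odd hd'.1 heD fun hl => hout (hD.linked_trans hp (Or.inr (Or.inl hd')) hl))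
  set k := h⁻¹ * g with hk
  have hkp : k * p * k⁻¹ = d' := by
    rw [hk, show h⁻¹ * g * p * (h⁻¹ * g)⁻¹ = h⁻¹ * e * h by rw [he]; group, ← hhe]
    group
  have hkw : k * w * k⁻¹ = w := by
    have h1 : k ∈ M := mul_mem (inv_mem hh) (hMc g hg)
    rw [mem_centralizer_singleton_iff.1 h1, mul_inv_cancel_right]
  -- the images of `q` and `r`
  set q' := k * q * k⁻¹ with hq'
  set r' := k * r * k⁻¹ with hr'
  have hP : q' * r' = d' * w := by
    rw [← hkw, ← hkp, hq', hr', hw, show k * p * k⁻¹ * (k * (p * (q * r)) * k⁻¹) = k * (p * p) * (q * r) * k⁻¹ by group,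
      hD.sq hp]
    group
  have hq'D : q' ∈ D := hD.conj k q hq.1
  have hr'D : r' ∈ D := hD.conj k r hr.1
  have hne' : q' ≠ r' := fun e => hqr (mul_left_cancel (mul_right_cancel e))
  have hc' : Commute q' r' := by simpa [hq', hr'] using hc.map (MulAut.conj k)
  have hlq' : Linked D p q' := by
    have := hD.linked_conj k (linked_of_commute hq.1 hq.2.2)
    rw [hkp] at this
    exact hD.linked_trans hp (Or.inr (Or.inl hd')) this
  have hcomm : ∀ y ∈ D, Linked D p y → Commute y d' → Commute y p → Commute y q → Commute y r →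
      Commute y q' ∧ Commute y r' := fun y hy hl h1 h2 h3 h4 =>
    hD.commute_of_pair hy hq'D hr'D (hD.linked_trans hq'D (linked_symm hp hlq') hl) hne' hc'
      (hP ▸ h1.mul_right (h2.mul_right (h3.mul_right h4)))
  obtain ⟨cq1, cr1⟩ := hcomm p hp (Or.inl rfl) hd'.2.2 (Commute.refl _) hq.2.2 hr.2.2
  obtain ⟨cq2, cr2⟩ := hcomm q hq.1 (Or.inr (Or.inl hq)) (W.mem_comm hD K a c) hq.2.2.symm (Commute.refl _) hc
  obtain ⟨cq3, cr3⟩ := hcomm r hr.1 (Or.inr (Or.inl hr)) (W.mem_comm hD K b c) hr.2.2.symm hc.symm (Commute.refl _)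
  obtain ⟨cq4, cr4⟩ := hcomm d' hd'.1 (Or.inr (Or.inl hd')) (Commute.refl _) hd'.2.2.symm (W.mem_comm hD K c a)
    (W.mem_comm hD K c b)
  have hplane : ∀ y ∈ D, y ≠ p → Commute p y → Commute q y → Commute r y → Commute d' y →
      ∃ i, y = W.mem hD K i := fun y hy hne h1 h2 h3 h4 =>
    W.span_commute hD K hspan ⟨hy, hne, h1⟩ fun i hi => by
      simp only [List.mem_cons, List.not_mem_nil, or_false] at hi
      rcases hi with rfl | rfl | rfl
      exacts [h2.symm, h3.symm, h4.symm]
  have hrel : p * (d' * w) = d' * (q * r) := by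
    rw [hw, ← mul_assoc d' p, ← hd'.2.2.eq, mul_assoc p d', ← mul_assoc p p, hD.sq hp, one_mul]
  have hsolo : ∀ y, y ∈ D → p * y = q' * r' → y ≠ p → (∃ i, y = W.mem hD K i) → False := fun y hy e hne ⟨i, hi⟩ => by
    have h1 : d' * (q * r) = y := by rw [← hrel, ← hP, ← e, ← mul_assoc, hD.sq hp, one_mul]
    have h0 : sumH [c, a, b, i] = Herm.zero := W.zero_of_prod hD K (Or.inl (by
      simp only [List.map_cons, List.map_nil, List.prod_cons, List.prod_nil, mul_one]
      show d' * (q * (r * W.mem hD K i)) = 1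
      rw [← hi, ← mul_assoc q, ← mul_assoc, h1, hD.sq hy]))
    simp only [sumH, herm_facts.2] at h0
    have h2 : ((pc a).add (pc b)).add (pc c) = pc i := herm_facts.1 _ _ (by
      rw [← h0]
      generalize pc a = u, pc b = v, pc c = t, pc i = s
      have hq : ∀ u v t s : Q4, ((u.add v).add t).add s = t.add (u.add (v.add s)) := by decide
      have hb : ∀ u v t s : Bool, xor (xor (xor u v) t) s = xor t (xor u (xor v s)) := by decide
      simp only [Herm.add, hq, hb])
    rw [h2, pc_rank] at hrk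
    omega
  rcases eq_or_ne q' p with e1 | hq'p
  · exact hsolo r' hr'D (by rw [e1]) (fun e => hne' (e1.trans e.symm))
      (hplane r' hr'D (fun e => hne' (e1.trans e.symm)) cr1 cr2 cr3 cr4)
  rcases eq_or_ne r' p with e1 | hr'p
  · exact hsolo q' hq'D (by rw [e1] at hc' ⊢; exact hc'.eq.symm) hq'p (hplane q' hq'D hq'p cq1 cq2 cq3 cq4)
  obtain ⟨i, hi⟩ := hplane q' hq'D hq'p cq1 cq2 cq3 cq4
  obtain ⟨j, hj⟩ := hplane r' hr'D hr'p cr1 cr2 cr3 cr4
  have hij : i ≠ j := fun e => hne' (hi.trans (e ▸ hj.symm))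
  have h0 : sumH [c, a, b, i, j] = Herm.zero := W.zero_of_prod hD K (Or.inr (by
    simp only [List.map_cons, List.map_nil, List.prod_cons, List.prod_nil, mul_one]
    show d' * (q * (r * (W.mem hD K i * W.mem hD K j))) = p
    rw [← hi, ← hj, hP, ← mul_assoc q, ← mul_assoc, ← hrel, mul_assoc, ← pow_two (d' * w), ← hP,
      pow_two, hc'.symm.mul_mul_mul_comm, hD.sq hq'D, hD.sq hr'D, one_mul, mul_one]))
  simp only [sumH, herm_facts.2] at h0
  have h2 : ((pc a).add (pc b)).add (pc c) = (pc i).add (pc j) := herm_facts.1 _ _ (by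
    rw [← h0]
    generalize pc a = u, pc b = v, pc c = t, pc i = s, pc j = z
    have hq : ∀ u v t s z : Q4, ((u.add v).add t).add (s.add z) = t.add (u.add (v.add (s.add z))) := by decide
    have hb : ∀ u v t s z : Bool, xor (xor (xor u v) t) (xor s z) = xor t (xor u (xor v (xor s z))) := by decide
    simp only [Herm.add, hq, hb])
  rw [h2, pair_rank i j hij] at hrk
  omega

end Sys

end Cfsg.Lib.M22Rec
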