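import Cfsg.Agent.M22Rec.Plane

/-!
Products of commuting members: the five members of a line multiply to the member seeing them, and every maximal
commuting set has that member among the products of its pairs.
-/

set_option autoImplicit false
set_option linter.unusedSectionVars false
set_option linter.style.haveILetI false

namespace Cfsg.Lib.M22Rec

open Subgroup Cfsg.Lib.Classical Cfsg.Lib.ThreeTr Cfsg.Lib.USixFusion

universe u v w w'

/-- The sum of codes. -/
def sumH : List (Fin 21) → Herm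
  | [] => Herm.zero
  | k :: t => (pc k).add (sumH t)

theorem herm_facts : (∀ g h : Herm, g.add h = Herm.zero → g = h) ∧ (∀ h : Herm, h.add Herm.zero = h) := by
  have h1 : ∀ a b : Q4, a.add b = .o → a = b := by decide
  have h2 : ∀ a : Q4, a.add .o = a := by decide
  refine ⟨fun g h e => ?_, fun h => ?_⟩
  · obtain ⟨a, b, c, x, y, w⟩ := g
    obtain ⟨a', b', c', x', y', w'⟩ := h
    simp only [Herm.add, Herm.zero, Herm.mk.injEq] at e
    obtain ⟨ea, eb, ec, ex, ey, ew⟩ := e
    have hb : ∀ u v : Bool, xor u v = false → u = v := by decide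
    rw [hb _ _ ea, hb _ _ eb, hb _ _ ec, h1 _ _ ex, h1 _ _ ey, h1 _ _ ew]
  · obtain ⟨a, b, c, x, y, w⟩ := h
    simp [Herm.add, Herm.zero, h2]

theorem pair_rank : ∀ a b : Fin 21, a ≠ b → ((pc a).add (pc b)).rank = 2 := by decide +kernel

theorem pair_sums : (((List.finRange 21).flatMap fun a => ((List.finRange 21).filter fun b => a < b).map fun b =>
    ((pc a).add (pc b)).toNat)).Nodup := by decide +kernel

theorem pair_sums_inj {a b c d : Fin 21} (hab : a < b) (hcd : c < d) (e : (pc a).add (pc b) = (pc c).add (pc d)) :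
    a = c ∧ b = d := by
  have h := pair_sums
  rw [List.nodup_flatMap] at h
  by_cases hac : a = c
  · subst hac
    refine ⟨rfl, ?_⟩
    exact List.inj_on_of_nodup_map (h.1 a (List.mem_finRange a)) (List.mem_filter.2 ⟨List.mem_finRange b, by simpa⟩)
      (List.mem_filter.2 ⟨List.mem_finRange d, by simpa⟩) (by rw [e])
  · exfalso
    have key : ∀ x ∈ List.finRange 21, ∀ y ∈ List.finRange 21, x ≠ y → List.Disjoint
        (((List.finRange 21).filter fun b => x < b).map fun b => ((pc x).add (pc b)).toNat)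
        (((List.finRange 21).filter fun b => y < b).map fun b => ((pc y).add (pc b)).toNat) :=
      fun x hx y hy hne => by
        haveI : Std.Symm (Function.onFun List.Disjoint fun x : Fin 21 =>
          (((List.finRange 21).filter fun b => x < b).map fun b => ((pc x).add (pc b)).toNat)) :=
          ⟨fun u v hd => List.Disjoint.symm hd⟩
        exact h.2.forall hx hy hne
    exact key a (List.mem_finRange a) c (List.mem_finRange c) hac
      (List.mem_map.2 ⟨b, List.mem_filter.2 ⟨List.mem_finRange b, by simpa⟩, rfl⟩)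
      (List.mem_map.2 ⟨d, List.mem_filter.2 ⟨List.mem_finRange d, by simpa⟩, by rw [e]⟩)

theorem add_comm_code : ∀ a b : Fin 21, (pc a).add (pc b) = (pc b).add (pc a) := by decide +kernel

theorem four_ne {a b c d : Fin 21} (hn : [a, b, c, d].Nodup) : sumH [a, b, c, d] ≠ Herm.zero := by
  intro e
  simp only [List.nodup_cons, List.mem_cons, List.not_mem_nil, or_false, not_or, List.nodup_nil, and_true,
    not_false_eq_true] at hn
  obtain ⟨⟨nab, nac, nad⟩, ⟨nbc, nbd⟩, ncd⟩ := hn
  have e' : (pc a).add (pc b) = (pc c).add (pc d) := herm_facts.1 _ _ (by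
    rw [← e]
    simp only [sumH, herm_facts.2]
    generalize pc a = p, pc b = q, pc c = r, pc d = s
    exact add_assoc_code p q (r.add s))
  rcases lt_or_gt_of_ne nab with h1 | h1 <;> rcases lt_or_gt_of_ne ncd with h2 | h2
  · exact nac (pair_sums_inj h1 h2 e').1
  · exact nad (pair_sums_inj h1 h2 (e'.trans (add_comm_code c d))).1
  · exact nbc (pair_sums_inj h1 h2 ((add_comm_code b a).trans e')).1
  · exact nbd (pair_sums_inj h1 h2 ((add_comm_code b a).trans (e'.trans (add_comm_code c d)))).1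
where
  add_assoc_code : ∀ p q r : Herm, (p.add q).add r = p.add (q.add r) := fun p q r => by
    have hq : ∀ x y z : Q4, (x.add y).add z = x.add (y.add z) := by decide
    simp only [Herm.add, Bool.xor_assoc, hq]

/-- A line, and two sets of six points with sum zero meeting in three. -/
theorem witnesses : sumH [0, 1, 2, 3, 20] = Herm.zero ∧ sumH [0, 1, 4, 5, 18, 19] = Herm.zero ∧
    sumH [0, 1, 4, 6, 9, 10] = Herm.zero := by decide +kernel

theorem third_count : ∀ a b : Fin 21, a ≠ b →
    ((List.finRange 21).filter fun c => c != a && c != b && decide ((((pc a).add (pc b)).add (pc c)).rank ≤ 2)).length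
      = 3 := by decide +kernel

theorem third_exists : ∀ a b : Fin 21, a ≠ b →
    ∃ c, c ≠ a ∧ c ≠ b ∧ (((pc a).add (pc b)).add (pc c)).rank = 3 := by decide +kernel

variable {G : Type u} [Group G] [Finite G] {F : Type v} [Field F] [Finite F] {V : Type w} [AddCommGroup V]
  [Module F V] {Q : Type w'} [Group Q] {H : HermSpace F V} {φ : H.SIsom →* Q} {D : Set G} {hS : IsSixSpace H}

theorem el_image_inj (hker : φ.ker = center H.SIsom) (K : Coord H) {g h : Herm}
    (e : φ (K.el g) = φ (K.el h)) : g = h := by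
  refine K.el_inj ?_
  obtain ⟨l, -, hl⟩ := K.six.center_scalar (g := (K.el h)⁻¹ * K.el g)
    (hker ▸ (show φ ((K.el h)⁻¹ * K.el g) = 1 by rw [map_mul, map_inv, e, inv_mul_cancel]))
  have he : K.frame.e 0 ≠ 0 := fun e => by
    have := K.frame.ef 0 0
    rw [if_pos rfl, e, H.zero_left] at this
    exact zero_ne_one this
  have h1 := hl (K.frame.e 0)
  rw [H.smul_mul_apply, K.el_fixes] at h1
  have h2 : ((K.el h)⁻¹ : H.SIsom).1.1 (K.frame.e 0) = K.frame.e 0 := by
    have := H.inv_apply_self (K.el h).1 (K.frame.e 0)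
    rw [K.el_fixes] at this
    exact this
  rw [h2] at h1
  have hl1 : l = 1 := by
    have : (l - 1) • K.frame.e 0 = 0 := by rw [sub_smul, one_smul, ← h1, sub_self]
    exact sub_eq_zero.1 ((smul_eq_zero.1 this).resolve_right he)
  exact (inv_mul_eq_one.1 (H.sisom_ext (g := (K.el h)⁻¹ * K.el g) (h := 1) fun y => by
    rw [hl, hl1, one_smul]; rfl)).symm

namespace View

variable {x : G} (W : View hS φ D x) (hD : Sys hS φ D) (K : Coord H)
include hD

/-- The member at a point. -/
theorem exists_mem (k : Fin 21) : ∃ y ∈ perp D x, W.r y = φ (K.el (pc k)) := by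
  obtain ⟨y, hy, a, ha, e⟩ := W.cover _ (pv_pt_ne K k) (pv_iso K (pt k))
  refine ⟨y, hy, ?_⟩
  rw [W.img y hy]
  refine Eq.trans ?_ (congrArg φ (tv_pv K (pt k)))
  exact ((hS.tv_image_eq_iff φ hD.ker (pv_iso K (pt k)) (W.vec_iso y hy) (pv_pt_ne K k)).2 ⟨a, ha, e⟩).symm

/-- The member at a point. -/
noncomputable def mem (k : Fin 21) : G := (W.exists_mem hD K k).choose

theorem mem_perp (k : Fin 21) : W.mem hD K k ∈ perp D x := (W.exists_mem hD K k).choose_spec.1

theorem r_mem (k : Fin 21) : W.r (W.mem hD K k) = φ (K.el (pc k)) := (W.exists_mem hD K k).choose_spec.2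

theorem mem_inj {j k : Fin 21} (e : W.mem hD K j = W.mem hD K k) : j = k :=
  pc_inj j k (el_image_inj hD.ker K (by rw [← W.r_mem hD, ← W.r_mem hD, e]))

theorem mem_ne {j k : Fin 21} (h : j ≠ k) : W.mem hD K j ≠ W.mem hD K k := fun e => h (W.mem_inj hD K e)

theorem mem_surj {y : G} (hy : y ∈ perp D x) (hK : W.vec y ∈ K.frame.W) : ∃ k, y = W.mem hD K k := by
  obtain ⟨k, a, ha, e⟩ := exists_point K hK (W.vec_ne y hy)
  refine ⟨k, W.inj y hy _ (W.mem_perp hD K k) ?_⟩
  rw [W.img y hy, W.r_mem hD]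
  exact ((hS.tv_image_eq_iff φ hD.ker (W.vec_iso y hy) (pv_iso K (pt k)) (W.vec_ne y hy)).2 ⟨a, ha, e⟩).trans
    (congrArg φ (tv_pv K (pt k)))

theorem mem_comm (j k : Fin 21) : Commute (W.mem hD K j) (W.mem hD K k) := by
  have h1 := fun i => (hD.inv _ (W.mem_perp hD K i).1).1
  obtain ⟨hj, hk⟩ := (show W.mem hD K j ∈ perp D x ∧ W.mem hD K k ∈ perp D x from
    ⟨W.mem_perp hD K j, W.mem_perp hD K k⟩)
  have hpow : ∀ {a : G}, Commute x a → a * a = 1 → W.r a * W.r a = 1 := fun ha e => by
    rw [← W.r_mul _ _ ha ha, e, W.r_one]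
  have h2 := W.lift_sq (W.mem hD K j * W.mem hD K k) (hj.2.2.mul_right hk.2.2) (by
    rw [W.r_mul _ _ hj.2.2 hk.2.2, W.r_mem hD, W.r_mem hD, ← map_mul, ← map_mul, K.el_mul, K.el_sq, map_one])
  calc W.mem hD K j * W.mem hD K k = (W.mem hD K j * W.mem hD K k)⁻¹ := eq_inv_of_mul_eq_one_left h2
    _ = _ := by rw [mul_inv_rev, hD.inv_eq hj.1, hD.inv_eq hk.1]

theorem r_list : ∀ l : List (Fin 21), W.r (l.map (W.mem hD K)).prod = φ (K.el (sumH l))
  | [] => by rw [List.map_nil, List.prod_nil, W.r_one, sumH, K.el_zero, map_one]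
  | k :: t => by
    have hc : ∀ a ∈ t.map (W.mem hD K), Commute x a := fun a ha => by
      obtain ⟨i, -, rfl⟩ := List.mem_map.1 ha
      exact (W.mem_perp hD K i).2.2
    rw [List.map_cons, List.prod_cons, W.r_mul _ _ (W.mem_perp hD K k).2.2 (Commute.list_prod_right _ _ hc),
      W.r_mem hD, r_list t, ← map_mul, K.el_mul, sumH]

theorem prod_zero {l : List (Fin 21)} (h : sumH l = Herm.zero) :
    (l.map (W.mem hD K)).prod = 1 ∨ (l.map (W.mem hD K)).prod = x :=
  W.ker _ (Commute.list_prod_right _ _ fun a ha => by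
    obtain ⟨i, -, rfl⟩ := List.mem_map.1 ha
    exact (W.mem_perp hD K i).2.2) (by rw [W.r_list hD, h, K.el_zero, map_one])

theorem zero_of_prod {l : List (Fin 21)} (h : (l.map (W.mem hD K)).prod = 1 ∨ (l.map (W.mem hD K)).prod = x) :
    sumH l = Herm.zero := by
  refine el_image_inj hD.ker K ?_
  rw [← W.r_list hD, K.el_zero, map_one]
  rcases h with e | e <;> rw [e]
  exacts [W.r_one, W.r_self]

/-- Pairwise commuting members lie in a plane. -/
theorem exists_plane {s : Set G} (hs : s ⊆ perp D x) (hc : ∀ a ∈ s, ∀ b ∈ s, Commute a b) :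
    ∃ K : Coord H, ∀ y ∈ s, ∃ k, y = W.mem hD K k := by
  obtain ⟨K, hK⟩ := exists_coord_through hS (W.vec '' s) (by
    rintro _ ⟨a, ha, rfl⟩ _ ⟨b, hb, rfl⟩
    exact (W.comm hD.ker (hs ha) (hs hb) (hD.inv _ (hs ha).1).1 (hD.inv _ (hs hb).1).1).1 (hc a ha b hb))
  exact ⟨K, fun y hy => W.mem_surj hD K (hs hy) (hK ⟨y, hy, rfl⟩)⟩

/-- A member commuting with everything in a plane lies there. -/
theorem mem_of_commute {y : G} (hy : y ∈ perp D x) (hc : ∀ k, Commute y (W.mem hD K k)) :
    ∃ k, y = W.mem hD K k := by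
  refine W.mem_surj hD K hy ((K.frame.mem_W K.six).2 fun i => ?_)
  have he : K.frame.e i ∈ K.frame.W := K.frame.e_mem i
  have he0 : K.frame.e i ≠ 0 := fun e => by
    have := K.frame.ef i i
    rw [if_pos rfl, e, H.zero_left] at this
    exact zero_ne_one this
  obtain ⟨k, a, ha, e⟩ := exists_point K he he0
  have hk := W.mem_perp hD K k
  have h0 := (W.comm hD.ker hy hk (hD.inv _ hy.1).1 (hD.inv _ hk.1).1).1 (hc k)
  have hr := W.r_mem hD K k
  rw [W.img _ hk] at hr
  obtain ⟨b, hb, eb⟩ := (hS.tv_image_eq_iff φ hD.ker (pv_iso K (pt k)) (W.vec_iso _ hk) (pv_pt_ne K k)).1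
    ((congrArg φ (tv_pv K (pt k))).trans hr.symm)
  rw [e, eb, H.smul_right, H.smul_right, h0, mul_zero, mul_zero]

end View

namespace Sys

variable (hD : Sys hS φ D)
include hD

theorem five {x : G} (hx : x ∈ D) (W : View hS φ D x) (K : Coord H) {l : List (Fin 21)} (hn : l.Nodup)
    (hlen : l.length = 5) (hs : sumH l = Herm.zero) : (l.map (W.mem hD K)).prod = x := by
  refine (W.prod_zero hD K hs).resolve_left fun e => ?_
  obtain ⟨k, t, rfl⟩ := List.exists_cons_of_ne_nil (l := l) (by intro h; simp [h] at hlen)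
  obtain ⟨g, hg⟩ := hD.trans _ (W.mem_perp hD K k).1 x hx
  obtain ⟨hkt, ht⟩ := List.nodup_cons.1 hn
  set c : G →* G := (MulAut.conj g).toMonoidHom
  set t' := t.map fun i => g * W.mem hD K i * g⁻¹ with ht'
  have hin : ∀ i ∈ t, g * W.mem hD K i * g⁻¹ ∈ perp D x := fun i hi =>
    by
      have := hD.perp_conj g (x := W.mem hD K k) (y := W.mem hD K i)
        ⟨(W.mem_perp hD K i).1, fun e' => hkt (W.mem_inj hD K e' ▸ hi), W.mem_comm hD K k i⟩
      rwa [hg] at this
  obtain ⟨K', hK'⟩ := W.exists_plane hD (s := {a | a ∈ t'})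
    (fun a ha => by obtain ⟨i, hi, rfl⟩ := List.mem_map.1 ha; exact hin i hi)
    (fun a ha b hb => by
      obtain ⟨i, hi, rfl⟩ := List.mem_map.1 ha
      obtain ⟨j, hj, rfl⟩ := List.mem_map.1 hb
      exact (W.mem_comm hD K i j).map c)
  have hx2 : x * (t'.prod) = 1 := by
    have := congrArg c e
    rw [map_list_prod, map_one, List.map_map, List.map_cons, List.prod_cons] at this
    simpa [ht', c, Function.comp_def, hg] using this
  have htx : t'.prod = x := by
    rw [eq_inv_of_mul_eq_one_right hx2, hD.inv_eq hx]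
  choose f hf using fun i (hi : i ∈ t) => hK' _ (List.mem_map.2 ⟨i, hi, rfl⟩)
  obtain ⟨a, b, c', d, rfl⟩ : ∃ a b c' d, t = [a, b, c', d] := by
    match t, hlen with
    | [a, b, c', d], _ => exact ⟨a, b, c', d, rfl⟩
  set m := [f a (by simp), f b (by simp), f c' (by simp), f d (by simp)] with hm
  have hmap : m.map (W.mem hD K') = t' := by
    simp only [hm, ht', List.map_cons, List.map_nil, ← hf]
  refine four_ne ?_ (W.zero_of_prod hD K' (l := m) (Or.inr (hmap ▸ htx)))
  refine List.Nodup.of_map (W.mem hD K') ?_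
  rw [← hm, hmap]
  exact ht.map fun i j h => W.mem_inj hD K (mul_left_cancel (mul_right_cancel h))

/-- Two relations of six, through three common members. -/
def Double (D : Set G) (p : G) : Prop :=
  ∃ a b : G, ∃ l m : List G, l.length = 3 ∧ m.length = 3 ∧ (p :: a :: b :: l).Nodup ∧ (p :: a :: b :: m).Nodup ∧
    (∀ z ∈ p :: a :: b :: (l ++ m), z ∈ D) ∧
    (∀ z ∈ p :: a :: b :: (l ++ m), ∀ z' ∈ p :: a :: b :: (l ++ m), Commute z z') ∧
    (p :: a :: b :: l).prod = 1 ∧ (p :: a :: b :: m).prod = 1 ∧ ∃ z ∈ m, z ∉ l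

theorem double_conj (g : G) {p : G} (h : Double D p) : Double D (g * p * g⁻¹) := by
  obtain ⟨a, b, l, m, hl, hm, hnl, hnm, hmem, hc, el, em, z, hz, hzl⟩ := h
  set c : G →* G := (MulAut.conj g).toMonoidHom
  have hi : Function.Injective c := (MulAut.conj g).injective
  refine ⟨c a, c b, l.map c, m.map c, by simpa using hl, by simpa using hm, hnl.map hi, hnm.map hi, ?_, ?_, ?_, ?_,
    c z, List.mem_map_of_mem hz, fun h => hzl ((List.mem_map_of_injective hi).1 h)⟩
  · intro w hw
    obtain ⟨w, hw', rfl⟩ := List.mem_map.1 (show w ∈ (p :: a :: b :: (l ++ m)).map c by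
      simpa [List.map_append, c] using hw)
    simpa [c] using hD.conj g w (hmem w hw')
  · intro w hw w' hw'
    obtain ⟨w, h1, rfl⟩ := List.mem_map.1 (show w ∈ (p :: a :: b :: (l ++ m)).map c by
      simpa [List.map_append, c] using hw)
    obtain ⟨w', h2, rfl⟩ := List.mem_map.1 (show w' ∈ (p :: a :: b :: (l ++ m)).map c by
      simpa [List.map_append, c] using hw')
    exact (hc w h1 w' h2).map c
  · rw [← map_one c, ← el, map_list_prod]; rfl
  · rw [← map_one c, ← em, map_list_prod]; rfl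

theorem not_double {x : G} (hx : x ∈ D) (W : View hS φ D x) : ¬ Double D x := by
  classical
  rintro ⟨a, b, l, m, hl, hm, hnl, hnm, hmem, hc, el, em, z, hz, hzl⟩
  have hin : ∀ w ∈ a :: b :: (l ++ m), w ≠ x → w ∈ perp D x := fun w hw hne =>
    ⟨hmem w (List.mem_cons_of_mem _ hw), hne, hc x (by simp) w (List.mem_cons_of_mem _ hw)⟩
  have hxl : ∀ w ∈ a :: b :: l, w ≠ x := fun w hw e => (List.nodup_cons.1 hnl).1 (e ▸ hw)
  have hxm : ∀ w ∈ a :: b :: m, w ≠ x := fun w hw e => (List.nodup_cons.1 hnm).1 (e ▸ hw)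
  have hxall : ∀ w ∈ a :: b :: (l ++ m), w ≠ x := fun w hw => by
    simp only [List.mem_cons, List.mem_append] at hw
    rcases hw with h | h | h | h
    exacts [hxl w (by simp [h]), hxl w (by simp [h]), hxl w (by simp [h]), hxm w (by simp [h])]
  obtain ⟨K, hK⟩ := W.exists_plane hD (s := {w | w ∈ a :: b :: (l ++ m)})
    (fun w hw => hin w hw (hxall w hw))
    (fun w hw w' hw' => hc w (List.mem_cons_of_mem _ hw) w' (List.mem_cons_of_mem _ hw'))
  obtain ⟨i, hi⟩ := hK a (by simp)
  obtain ⟨j, hj⟩ := hK b (by simp)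
  subst hi hj
  have hij : i ≠ j := fun e => by subst e; simp at hnl
  -- the other members are the third points of the line
  have key : ∀ q : List G, q.length = 3 → (x :: W.mem hD K i :: W.mem hD K j :: q).Nodup →
      (∀ w ∈ q, ∃ k, w = W.mem hD K k) → (x :: W.mem hD K i :: W.mem hD K j :: q).prod = 1 →
      ∀ w ∈ q, ∃ k, w = W.mem hD K k ∧ k ∈ (List.finRange 21).filter fun c =>
        c != i && c != j && decide ((((pc i).add (pc j)).add (pc c)).rank ≤ 2) := by
    intro q hq hnd hqK hprod w hw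
    obtain ⟨k, rfl⟩ := hqK w hw
    obtain ⟨q', hperm⟩ : ∃ q', q.Perm (W.mem hD K k :: q') := ⟨_, List.perm_cons_erase hw⟩
    have hlen' : q'.length = 2 := by have := hperm.length_eq; simp only [hq, List.length_cons] at this; omega
    obtain ⟨s, t, rfl⟩ := List.length_eq_two.1 hlen'
    obtain ⟨s', rfl⟩ := hqK s (hperm.mem_iff.2 (by simp))
    obtain ⟨t', rfl⟩ := hqK t (hperm.mem_iff.2 (by simp))
    have hnd' := (((hperm.cons _).cons _).cons x).nodup_iff.1 hnd
    simp only [List.nodup_cons, List.mem_cons, List.not_mem_nil, or_false, not_or, List.nodup_nil,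
      and_true, not_false_eq_true] at hnd'
    refine ⟨k, rfl, ?_⟩
    have hne1 : k ≠ i := fun e => hnd'.2.1.2.1 (by rw [e])
    have hne2 : k ≠ j := fun e => hnd'.2.2.1.1 (by rw [e])
    have hst : s' ≠ t' := fun e => hnd'.2.2.2.2 (by rw [e])
    have hp2 : (W.mem hD K i :: W.mem hD K j :: q).prod = x := by
      rw [List.prod_cons] at hprod
      rw [eq_inv_of_mul_eq_one_right hprod, hD.inv_eq hx]
    have hp3 : ([i, j, k, s', t'].map (W.mem hD K)).prod = x := by
      refine Eq.trans ?_ hp2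
      refine (((hperm.cons _).cons _).prod_eq' ?_).symm
      refine List.pairwise_of_forall_mem_list fun u hu u' hu' => ?_
      have : ∀ v ∈ W.mem hD K i :: W.mem hD K j :: q, ∃ e, v = W.mem hD K e := fun v hv => by
        simp only [List.mem_cons] at hv
        rcases hv with rfl | rfl | hv
        exacts [⟨i, rfl⟩, ⟨j, rfl⟩, hqK v hv]
      obtain ⟨e1, rfl⟩ := this u hu
      obtain ⟨e2, rfl⟩ := this u' hu'
      exact W.mem_comm hD K e1 e2
    have h0 := W.zero_of_prod hD K (Or.inr hp3)
    simp only [sumH, herm_facts.2] at h0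
    have hsum : ((pc i).add (pc j)).add (pc k) = (pc s').add (pc t') := herm_facts.1 _ _ (by
      rw [four_ne.add_assoc_code, four_ne.add_assoc_code]
      exact h0)
    refine List.mem_filter.2 ⟨List.mem_finRange k, ?_⟩
    simp [hne1, hne2, hsum, pair_rank s' t' hst]
  have hlK : ∀ w ∈ l, ∃ k, w = W.mem hD K k := fun w hw => hK w (by simp [hw])
  have hmK : ∀ w ∈ m, ∃ k, w = W.mem hD K k := fun w hw => hK w (by simp [hw])
  have kl := key l hl hnl hlK el
  obtain ⟨k, rfl, hk⟩ := key m hm hnm hmK em z hz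
  classical
  set S := (List.finRange 21).filter fun c =>
        c != i && c != j && decide ((((pc i).add (pc j)).add (pc c)).rank ≤ 2) with hS'
  have hsub : (l.toFinset : Finset G) ⊆ (S.map (W.mem hD K)).toFinset := fun w hw => by
    obtain ⟨k', rfl, hk'⟩ := kl w (List.mem_toFinset.1 hw)
    exact List.mem_toFinset.2 (List.mem_map_of_mem hk')
  have hcard : (S.map (W.mem hD K)).toFinset.card ≤ l.toFinset.card := by
    refine (List.toFinset_card_le _).trans ?_
    rw [List.length_map, hS', third_count i j hij, List.toFinset_card_of_nodup, hl]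
    exact hnl.of_cons.of_cons.of_cons
  have := Finset.eq_of_subset_of_card_le hsub hcard
  exact hzl (List.mem_toFinset.1 (this ▸ List.mem_toFinset.2 (List.mem_map_of_mem hk)))

/-- The member seeing a plane is a product of pairs from the plane and itself. -/
theorem base_mem {x : G} (hx : x ∈ D) (W : View hS φ D x) (K : Coord H) :
    x ∈ closure {g | ∃ a ∈ insert x (Set.range (W.mem hD K)), ∃ b ∈ insert x (Set.range (W.mem hD K)), g = a * b} := by
  set S := insert x (Set.range (W.mem hD K)) with hSdef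
  set P := closure {g | ∃ a ∈ S, ∃ b ∈ S, g = a * b}
  by_contra hxP
  have hsix : ∀ a b c d e f : Fin 21, sumH [a, b, c, d, e, f] = Herm.zero →
      ([a, b, c, d, e, f].map (W.mem hD K)).prod = 1 := by
    intro a b c d e f h
    refine (W.prod_zero hD K h).resolve_right fun k => hxP ?_
    rw [← k]
    simp only [List.map_cons, List.map_nil, List.prod_cons, List.prod_nil, mul_one]
    have hm : ∀ u v : Fin 21, W.mem hD K u * W.mem hD K v ∈ P := fun u v =>
      subset_closure ⟨_, Or.inr ⟨u, rfl⟩, _, Or.inr ⟨v, rfl⟩, rfl⟩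
    simpa only [← mul_assoc] using mul_mem (mul_mem (hm a b) (hm c d)) (hm e f)
  have hdbl : Double D (W.mem hD K 0) := by
    have hin : ∀ w ∈ W.mem hD K 0 :: W.mem hD K 1 :: W.mem hD K 4 ::
        ([W.mem hD K 5, W.mem hD K 18, W.mem hD K 19] ++ [W.mem hD K 6, W.mem hD K 9, W.mem hD K 10]),
        ∃ k, w = W.mem hD K k := by
      intro w hw
      simp only [List.cons_append, List.nil_append, List.mem_cons, List.not_mem_nil, or_false] at hw
      rcases hw with h | h | h | h | h | h | h | h | h <;> exact ⟨_, h⟩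
    refine ⟨W.mem hD K 1, W.mem hD K 4, [W.mem hD K 5, W.mem hD K 18, W.mem hD K 19],
      [W.mem hD K 6, W.mem hD K 9, W.mem hD K 10], rfl, rfl, ?_, ?_, ?_, ?_, hsix 0 1 4 5 18 19 witnesses.2.1,
      hsix 0 1 4 6 9 10 witnesses.2.2, W.mem hD K 6, by simp, ?_⟩
    · exact (List.nodup_map_iff (fun _ _ h => W.mem_inj hD K h)).2
        (show [(0 : Fin 21), 1, 4, 5, 18, 19].Nodup by decide)
    · exact (List.nodup_map_iff (fun _ _ h => W.mem_inj hD K h)).2
        (show [(0 : Fin 21), 1, 4, 6, 9, 10].Nodup by decide)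
    · intro w hw
      obtain ⟨k, rfl⟩ := hin w hw
      exact (W.mem_perp hD K k).1
    · intro w hw w' hw'
      obtain ⟨k, rfl⟩ := hin w hw
      obtain ⟨k', rfl⟩ := hin w' hw'
      exact W.mem_comm hD K k k'
    · intro h
      simp only [List.mem_cons, List.not_mem_nil, or_false] at h
      rcases h with h | h | h <;> exact absurd (W.mem_inj hD K h) (by decide)
  obtain ⟨g, hg⟩ := hD.trans _ (W.mem_perp hD K 0).1 x hx
  exact hD.not_double hx W (hg ▸ hD.double_conj g hdbl)

end Sys

end Cfsg.Lib.M22Rec
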