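import Cfsg.Agent.USixFusion.Checks

/-!
Vectors of six codes with the hermitian form of three hyperbolic pairs.
-/

set_option autoImplicit false

namespace Cfsg.Lib.M22Rec

open Cfsg.Lib.USixFusion

/-- Six codes: three on each side. -/
structure Pt where
  a0 : Q4
  a1 : Q4
  a2 : Q4
  b0 : Q4
  b1 : Q4
  b2 : Q4
  deriving DecidableEq

namespace Pt

/-- The zero. -/
def zero : Pt := ⟨.o, .o, .o, .o, .o, .o⟩

/-- Sum. -/
def add (p q : Pt) : Pt :=
  ⟨p.a0.add q.a0, p.a1.add q.a1, p.a2.add q.a2, p.b0.add q.b0, p.b1.add q.b1, p.b2.add q.b2⟩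

/-- Multiple. -/
def smul (t : Q4) (p : Pt) : Pt := ⟨t.mul p.a0, t.mul p.a1, t.mul p.a2, t.mul p.b0, t.mul p.b1, t.mul p.b2⟩

/-- The form. -/
def form (p q : Pt) : Q4 :=
  ((((((p.a0.mul q.b0.conj).add (p.b0.mul q.a0.conj)).add (p.a1.mul q.b1.conj)).add (p.b1.mul q.a1.conj)).add
    (p.a2.mul q.b2.conj)).add (p.b2.mul q.a2.conj))

/-- The image under the transvection of `q`. -/
def third (p q : Pt) : Pt := p.add (smul (form p q) q)

/-- One point. -/
def same (p q : Pt) : Bool := [Q4.i, .w, .v].any fun t => decide (smul t p = q)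

end Pt

end Cfsg.Lib.M22Rec
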