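import Cfsg.Agent.M22Rec.Coords
import Cfsg.Agent.M22Rec.Pairs

/-!
The common neighbours of a noncommuting pair `a`, `b` that commute with one of them, `x`, seen from `a`: one lift1 each
isotropic point of the space orthogonal to the hyperbolic pair, the section being a translate of the tabulated one.
-/

set_option autoImplicit false
set_option linter.unusedSectionVars false
set_option linter.style.haveILetI false

namespace Cfsg.Lib.M22Rec

open Subgroup Cfsg.Lib.Classical Cfsg.Lib.ThreeTr Cfsg.Lib.USixFusion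

universe u v w w'

theorem params_step : (fourQ.all fun c => fourQ.all fun a => fourQ.all fun b => fourQ.all fun x => fourQ.all fun y =>
    wDer.all fun e =>
      decide (e.2.2.2.mul (lamAt c a b x y ⟨e.1 % 45, Nat.mod_lt _ (by norm_num)⟩) =
        (lamAt c a b x y ⟨e.2.1 % 45, Nat.mod_lt _ (by norm_num)⟩).add
          ((Pt.form (wList.getD e.2.1 Pt.zero) (wList.getD e.2.2.1 Pt.zero)).mul
            (lamAt c a b x y ⟨e.2.2.1 % 45, Nat.mod_lt _ (by norm_num)⟩)))) = true := by decide +kernel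

theorem testBit_foldl : ∀ (l : List ℕ) (m n : ℕ), (l.foldl (fun m n => m ||| 1 <<< n) m).testBit n = true →
    m.testBit n = true ∨ n ∈ l
  | [], m, n, h => Or.inl h
  | a :: t, m, n, h => by
    rcases testBit_foldl t _ n h with h' | h'
    · rw [Nat.testBit_or, Bool.or_eq_true, Nat.one_shiftLeft, Nat.testBit_two_pow, decide_eq_true_eq] at h'
      rcases h' with h' | rfl
      · exact Or.inl h'
      · exact Or.inr List.mem_cons_self
    · exact Or.inr (List.mem_cons_of_mem _ h')

theorem mem_fourQ : ∀ q : Q4, q ∈ fourQ := by decide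

theorem num_bound : ∀ a b c d e : Q4, 4 * (4 * (4 * (4 * (4 * 0 + qNum a) + qNum b) + qNum c) + qNum d) + qNum e < 1024 := by
  decide +kernel

theorem qNum_inj : ∀ a b : Q4, qNum a = qNum b → a = b := by decide

theorem qNum_lt : ∀ a : Q4, qNum a < 4 := by decide

/-- Every closed assignment is a translate. -/
theorem exists_param (f : Fin 45 → Q4)
    (hf : ∀ e ∈ wDer, e.2.2.2.mul (f ⟨e.1 % 45, Nat.mod_lt _ (by norm_num)⟩) =
        (f ⟨e.2.1 % 45, Nat.mod_lt _ (by norm_num)⟩).add
          ((Pt.form (wList.getD e.2.1 Pt.zero) (wList.getD e.2.2.1 Pt.zero)).mul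
            (f ⟨e.2.2.1 % 45, Nat.mod_lt _ (by norm_num)⟩))) :
    ∃ c a b x y : Q4, ∀ k, f k = lamAt c a b x y k := by
  set at' : ℕ → Q4 := fun k => f ⟨k % 45, Nat.mod_lt _ (by norm_num)⟩ with hat
  set n := seeds.foldl (fun n k => 4 * n + qNum (at' k)) 0 with hn
  have hn' : n < 1024 := by
    simp only [hn, seeds, List.foldl_cons, List.foldl_nil]
    exact num_bound _ _ _ _ _
  have hb : ((fourQ.flatMap fun c => fourQ.flatMap fun a => fourQ.flatMap fun b => fourQ.flatMap fun x =>
    fourQ.map fun y => paramNum c a b x y).foldl (fun m n => m ||| 1 <<< n) 0).testBit n = true := by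
    rw [params_onto, Nat.testBit_two_pow_sub_one, decide_eq_true_eq]
    exact hn'
  rcases testBit_foldl _ _ _ hb with h | h
  · simp at h
  simp only [List.mem_flatMap, List.mem_map] at h
  obtain ⟨c, -, a, -, b, -, x, -, y, -, e⟩ := h
  refine ⟨c, a, b, x, y, ?_⟩
  have hseed : ∀ k ∈ seeds, at' k = lamAt c a b x y ⟨k % 45, Nat.mod_lt _ (by norm_num)⟩ := by
    simp only [hn, paramNum, seeds, List.foldl_cons, List.foldl_nil] at e
    simp only [seeds, List.mem_cons, List.not_mem_nil, or_false]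
    have hl := qNum_lt
    intro k hk
    rcases hk with rfl | rfl | rfl | rfl | rfl <;> refine qNum_inj _ _ ?_ <;>
      grind
  have key : ∀ m ≤ wDer.length, ∀ k ∈ seeds ++ (wDer.take m).map (·.1),
      at' k = lamAt c a b x y ⟨k % 45, Nat.mod_lt _ (by norm_num)⟩ := by
    intro m
    induction m with
    | zero => intro _ k hk; exact hseed k (by simpa using hk)
    | succ m ih =>
      intro hm k hk
      rw [List.take_succ_eq_append_getElem (by omega : m < wDer.length), List.map_append, ← List.append_assoc,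
        List.mem_append] at hk
      rcases hk with hk | hk
      · exact ih (by omega) k hk
      simp only [List.map_cons, List.map_nil, List.mem_singleton] at hk
      subst hk
      set e' := wDer[m] with he'
      have hmem : e' ∈ wDer := List.getElem_mem _
      have ho := List.all_eq_true.1 wDer_order.2.1 m (List.mem_range.2 (by omega))
      simp only [List.getD_eq_getElem _ _ (show m < wDer.length by omega), Bool.and_eq_true,
        List.contains_iff_mem] at ho
      have h1 := ih (by omega) _ ho.1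
      have h2 := ih (by omega) _ ho.2
      have hs := params_step
      simp only [List.all_eq_true, decide_eq_true_eq] at hs
      have hs' := hs c (mem_fourQ c) a (mem_fourQ a) b (mem_fourQ b) x (mem_fourQ x) y (mem_fourQ y) e' hmem
      have hf' := hf e' hmem
      simp only [hat] at h1 h2 ⊢
      rw [h1, h2, ← hs'] at hf'
      have hc0 := List.all_eq_true.1 wDer_ok e' hmem
      simp only [wStep, Bool.and_eq_true, decide_eq_true_eq] at hc0
      have hcancel : ∀ s p q : Q4, s ≠ .o → s.mul p = s.mul q → p = q := by decide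
      exact hcancel _ _ _ hc0.1.1.2 hf'
  intro k
  have hk := List.all_eq_true.1 wDer_order.1 k.val (List.mem_range.2 k.2)
  rw [List.contains_iff_mem, ← List.take_length (l := wDer)] at hk
  have := key wDer.length le_rfl k.val hk
  simpa [hat, Nat.mod_eq_of_lt k.2] using this

variable {G : Type u} [Group G] [Finite G] {F : Type v} [Field F] [Finite F] {V : Type w} [AddCommGroup V]
  [Module F V] {Q : Type w'} [Group Q] {H : HermSpace F V} {φ : H.SIsom →* Q} {D : Set G} {hS : IsSixSpace H}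

/-- A code over a point of the four-dimensional part. -/
def lift1 (l : Q4) (k : Fin 45) : Pt := (wPt k).add ⟨l, .o, .o, .o, .o, .o⟩

theorem lift1_form : ∀ (l l' : Q4) (j k : Fin 45), Pt.form (lift1 l j) (lift1 l' k) = Pt.form (wPt j) (wPt k) := by
  decide +kernel

theorem lift1_shape (l : Q4) (k : Fin 45) : lift1 l k = ⟨l, (wPt k).a1, (wPt k).a2, .o, (wPt k).b1, (wPt k).b2⟩ := by
  obtain ⟨h1, h2, -, -⟩ := wPt_shape k
  simp only [lift1, Pt.add, h1, h2]
  have e : ∀ q : Q4, q.add .o = q ∧ Q4.o.add q = q := by decide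
  simp [(e _).1, (e _).2, show Q4.o.add l = l from (e l).2]

theorem lift1_inj {l l' : Q4} {j k : Fin 45} {t : Q4} (e : Pt.smul t (lift1 l j) = lift1 l' k) : j = k := by
  refine wPt_inj j k t ?_
  simp only [lift1_shape, Pt.smul, Pt.mk.injEq] at e
  obtain ⟨-, e1, e2, -, e4, e5⟩ := e
  obtain ⟨h1, h2, -, -⟩ := wPt_shape j
  obtain ⟨h3, h4, -, -⟩ := wPt_shape k
  have e0 : ∀ t : Q4, t.mul .o = .o := by decide
  have hk : wPt k = ⟨(wPt k).a0, (wPt k).a1, (wPt k).a2, (wPt k).b0, (wPt k).b1, (wPt k).b2⟩ := rfl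
  rw [hk, h3, h4]
  simp only [Pt.smul, h1, h2, e1, e2, e4, e5, e0]

/-- An isotropic code orthogonal to the first vector is a multiple of one over a point, or of the first. -/
theorem cover_perp (p : Pt) (hp : p.b0 = .o) (hiso : Pt.form p p = .o) (hne : p.a1 ≠ .o ∨ p.a2 ≠ .o ∨ p.b1 ≠ .o ∨ p.b2 ≠ .o) :
    ∃ (t l : Q4) (k : Fin 45), t ≠ .o ∧ p = Pt.smul t (lift1 l k) := by
  obtain ⟨a0, a1, a2, b0, b1, b2⟩ := p
  subst hp
  have hf : ∀ a0 a1 a2 b1 b2 : Q4, Pt.form ⟨a0, a1, a2, .o, b1, b2⟩ ⟨a0, a1, a2, .o, b1, b2⟩ =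
      Pt.form (wVec a1 a2 b1 b2) (wVec a1 a2 b1 b2) := by decide +kernel
  rw [hf] at hiso
  obtain ⟨k, hk⟩ := wPt_cover a1 a2 b1 b2 hiso (fun e => by
    simp [wVec, Pt.zero] at e
    simp [e] at hne)
  simp only [Pt.same, List.any_eq_true, decide_eq_true_eq] at hk
  obtain ⟨t, ht, hk⟩ := hk
  have ht0 : t ≠ .o := by intro e; subst e; simp at ht
  obtain ⟨l, rfl⟩ : ∃ l, t.mul l = a0 := (show ∀ t a : Q4, t ≠ .o → ∃ l, t.mul l = a by decide) t a0 ht0
  refine ⟨t, l, k, ht0, ?_⟩
  simp only [Pt.smul, wVec, Pt.mk.injEq] at hk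
  simp only [lift1_shape, Pt.smul, Pt.mk.injEq]
  obtain ⟨-, e1, e2, -, e4, e5⟩ := hk
  exact ⟨trivial, e1.symm, e2.symm, ((show ∀ t : Q4, t.mul .o = .o by decide) t).symm, e4.symm, e5.symm⟩

namespace View

variable {x : G} (W : View hS φ D x) (hD : Sys hS φ D) (K : Coord H)
include hD

/-- The member over a code. -/
def At (y : G) (p : Pt) : Prop := y ∈ perp D x ∧ ∃ s : F, s ≠ 0 ∧ W.vec y = s • vp K p

omit hD in
theorem At.scale {y : G} {p : Pt} (h : W.At K y p) {t : Q4} (ht : t ≠ .o) : W.At K y (Pt.smul t p) := by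
  obtain ⟨hy, s, hs, e⟩ := h
  refine ⟨hy, s * (val K.w t)⁻¹, mul_ne_zero hs (inv_ne_zero (val_ne K ht)), ?_⟩
  rw [vp_smul, smul_smul, mul_assoc, inv_mul_cancel₀ (val_ne K ht), mul_one, e]

theorem at_unique {y z : G} {p : Pt} (hy : W.At K y p) (hz : W.At K z p) : y = z := by
  obtain ⟨hy, s, hs, e⟩ := hy
  obtain ⟨hz, t, ht, e'⟩ := hz
  refine W.eq_of_smul hD.ker hy hz (a := s * t⁻¹) ?_
  rw [e, e', smul_smul, mul_assoc, inv_mul_cancel₀ ht, mul_one]

theorem at_comm {y z : G} {p q : Pt} (hy : W.At K y p) (hz : W.At K z q) : Commute y z ↔ Pt.form p q = .o := by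
  obtain ⟨hy, s, hs, e⟩ := hy
  obtain ⟨hz, t, ht, e'⟩ := hz
  rw [W.comm hD.ker hy hz (hD.inv _ hy.1).1 (hD.inv _ hz.1).1, e, e', H.smul_left, H.smul_right, vp_h]
  constructor
  · intro h
    rcases mul_eq_zero.1 h with h | h
    · exact absurd h hs
    rcases mul_eq_zero.1 h with h | h
    · exact absurd h ((map_ne_zero _).2 ht)
    · exact K.prim.val_inj K.six (b := .o) h
  · intro h
    rw [h]
    simp [val]

theorem at_third (hx : x ∈ D) {y z : G} {p q : Pt} (hy : W.At K y p) (hz : W.At K z q) :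
    W.At K (z * y * z) (Pt.third p q) := by
  obtain ⟨hy, s, hs, e⟩ := hy
  obtain ⟨hz, t, ht, e'⟩ := hz
  have hm := hD.perp_closed hx hy hz
  obtain ⟨a, ha, ea⟩ := W.vec_conj hD.ker hy hz hm
  refine ⟨hm, a * s, mul_ne_zero ha hs, ?_⟩
  rw [ea, e, e', H.smul_left, H.smul_right, vp_third, smul_add, smul_add, smul_smul, smul_smul, smul_smul]
  rw [smul_smul (a * s)]
  congr 2
  linear_combination (a * s * H.h (vp K p) (vp K q)) * hS.norm t ht

theorem exists_at (p : Pt) (hp : p ≠ Pt.zero) (hiso : Pt.form p p = .o) : ∃ y, W.At K y p := by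
  obtain ⟨y, hy, a, ha, e⟩ := W.cover (vp K p) (vp_ne K hp) (by rw [vp_h, hiso]; rfl)
  exact ⟨y, hy, a⁻¹, inv_ne_zero ha, by rw [e, smul_smul, inv_mul_cancel₀ ha, one_smul]⟩

theorem at_exists {y : G} (hy : y ∈ perp D x) : ∃ p, W.At K y p ∧ Pt.form p p = .o ∧ p ≠ Pt.zero := by
  obtain ⟨p, hp⟩ := vp_surj K (W.vec y)
  refine ⟨p, ⟨hy, 1, one_ne_zero, by rw [one_smul, hp]⟩, K.prim.val_inj K.six (b := .o) ?_, fun e => W.vec_ne y hy ?_⟩
  · rw [← vp_h, hp]; exact W.vec_iso y hy
  · rw [← hp, e, vp_zero]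

/-- Where a member orthogonal to the first vector lies. -/
theorem at_over {y x₀ : G} (hy : y ∈ perp D x) (hx₀ : W.At K x₀ e0) (hc : Commute y x₀) (hne : y ≠ x₀) :
    ∃ (l : Q4) (k : Fin 45), W.At K y (lift1 l k) := by
  obtain ⟨p, hp, hiso, hp0⟩ := W.at_exists hD K hy
  have hb := (W.at_comm hD K hp hx₀).1 hc
  have hb0 : p.b0 = .o := by
    obtain ⟨a0, a1, a2, b0, b1, b2⟩ := p
    have : ∀ a0 a1 a2 b0 b1 b2 : Q4, Pt.form ⟨a0, a1, a2, b0, b1, b2⟩ e0 = b0 := by decide +kernel
    rw [this] at hb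
    exact hb
  by_cases hw : p.a1 ≠ .o ∨ p.a2 ≠ .o ∨ p.b1 ≠ .o ∨ p.b2 ≠ .o
  · obtain ⟨t, l, k, ht, rfl⟩ := cover_perp p hb0 hiso hw
    refine ⟨l, k, ?_⟩
    have hinv : ∀ t : Q4, t ≠ .o → t.conj ≠ .o ∧ t.conj.mul t = .i := by decide
    have := hp.scale W K (t := t.conj) (hinv t ht).1
    have e : Pt.smul t.conj (Pt.smul t (lift1 l k)) = lift1 l k := by
      have e1 : ∀ t q : Q4, t ≠ .o → t.conj.mul (t.mul q) = q := by decide
      simp only [Pt.smul, e1 t _ ht]
    rwa [e] at this
  · exfalso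
    push Not at hw
    obtain ⟨a0, a1, a2, b0, b1, b2⟩ := p
    simp only at hw hb0
    obtain ⟨rfl, rfl, rfl, rfl⟩ := hw
    subst hb0
    have ha0 : a0 ≠ .o := fun e => hp0 (by rw [e]; rfl)
    refine hne (W.at_unique hD K hp ?_)
    have e : (⟨a0, .o, .o, .o, .o, .o⟩ : Pt) = Pt.smul a0 e0 := by
      have e1 : ∀ t : Q4, t.mul .i = t ∧ t.mul .o = .o := by decide
      simp only [Pt.smul, e0, (e1 a0).1, (e1 a0).2]
    rw [e]
    exact hx₀.scale W K ha0

end View

/-- A product of orthogonal transvections. -/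
theorem tv_list : ∀ (l : List V) (hl : ∀ v ∈ l, H.h v v = 0) (hp : ∀ v ∈ l, ∀ u ∈ l, H.h v u = 0) (z : V),
    ((l.pmap (fun v hv => hS.tv hv) hl).prod).1.1 z = z + (l.map fun v => H.h z v • v).sum
  | [], _, _, z => by simp
  | v :: t, hl, hp, z => by
    rw [List.pmap_cons, List.prod_cons, H.smul_mul_apply,
      tv_list t (fun u hu => hl u (List.mem_cons_of_mem _ hu))
        (fun u hu w hw => hp u (List.mem_cons_of_mem _ hu) w (List.mem_cons_of_mem _ hw)) z,
      hS.tv_apply, List.map_cons, List.sum_cons, H.add_left]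
    have h0 : H.h (t.map fun u => H.h z u • u).sum v = 0 := by
      have : ∀ s : List V, (∀ u ∈ s, H.h u v = 0) → H.h (s.map fun u => H.h z u • u).sum v = 0 := by
        intro s
        induction s with
        | nil => intro _; exact H.zero_left v
        | cons u s ih =>
          intro hs
          rw [List.map_cons, List.sum_cons, H.add_left, H.smul_left, hs u (by simp), mul_zero, zero_add,
            ih fun w hw => hs w (List.mem_cons_of_mem _ hw)]
      exact this t fun u hu => hp u (List.mem_cons_of_mem _ hu) v (by simp)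
    rw [h0, add_zero]
    abel

end Cfsg.Lib.M22Rec
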