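import Cfsg.Agent.ThreeTransposition.PSUSix.Lines
import Cfsg.Agent.ThreeTransposition.RankThree

/-!
A conjugation-invariant set of involutions in which the members commuting with a given one are seen as the isotropic
points of a hermitian space of dimension six over the field with four elements.
-/

set_option autoImplicit false
set_option linter.unusedSectionVars false
set_option linter.style.haveILetI false

namespace Cfsg.Lib.M22Rec

open Subgroup Cfsg.Lib.Classical Cfsg.Lib.ThreeTr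

universe u v w w'

variable {G : Type u} [Group G] {F : Type v} [Field F] {V : Type w} [AddCommGroup V] [Module F V] {Q : Type w'}
  [Group Q] {H : HermSpace F V} {φ : H.SIsom →* Q} {D : Set G}

/-- The centraliser of `x` as a double cover, its class of members as transvections. -/
structure View (hS : IsSixSpace H) (φ : H.SIsom →* Q) (D : Set G) (x : G) where
  /-- The map to the quotient. -/
  r : G → Q
  /-- The vectors. -/
  vec : G → V
  r_mul : ∀ a b, Commute x a → Commute x b → r (a * b) = r a * r b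
  ker : ∀ a, Commute x a → r a = 1 → a = 1 ∨ a = x
  r_self : r x = 1
  lift_sq : ∀ a, Commute x a → r a * r a = 1 → a * a = 1
  vec_ne : ∀ y ∈ perp D x, vec y ≠ 0
  vec_iso : ∀ y ∈ perp D x, H.h (vec y) (vec y) = 0
  img : ∀ y (hy : y ∈ perp D x), r y = φ (hS.tv (vec_iso y hy))
  inj : ∀ y ∈ perp D x, ∀ z ∈ perp D x, r y = r z → y = z
  cover : ∀ v, v ≠ 0 → H.h v v = 0 → ∃ y ∈ perp D x, ∃ a : F, a ≠ 0 ∧ v = a • vec y
  gen : ∀ g, Commute x g → g ∈ closure (perp D x)

/-- All members have views. -/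
structure Sys (hS : IsSixSpace H) (φ : H.SIsom →* Q) (D : Set G) : Prop where
  ker : φ.ker = center H.SIsom
  conj : ∀ g : G, ∀ y ∈ D, g * y * g⁻¹ ∈ D
  trans : ∀ a ∈ D, ∀ b ∈ D, ∃ g : G, g * a * g⁻¹ = b
  inv : ∀ y ∈ D, y * y = 1 ∧ y ≠ 1
  view : ∀ x ∈ D, Nonempty (View hS φ D x)

theorem conj_tv [Finite F] (hS : IsSixSpace H) {v w : V} (hv : H.h v v = 0) (hw : H.h w w = 0)
    (hu : H.h (v + H.h v w • w) (v + H.h v w • w) = 0) :
    hS.tv hw * hS.tv hv * hS.tv hw = hS.tv hu := by
  refine H.sisom_ext fun x => ?_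
  simp only [H.smul_mul_apply, hS.tv_apply, H.add_left, H.smul_left, H.add_right, H.smul_right, hw, mul_zero,
    add_zero]
  rw [show H.h w v = H.σ (H.h v w) from H.symm _ _]
  match_scalars
  · rfl
  · linear_combination (H.h x w) * hS.two
  · linear_combination (0 : F) * hS.two

variable {hS : IsSixSpace H}

theorem Sys.inv_eq (hD : Sys hS φ D) {y : G} (hy : y ∈ D) : y⁻¹ = y :=
  inv_eq_of_mul_eq_one_right (hD.inv y hy).1

theorem Sys.conj_invol (hD : Sys hS φ D) {x y : G} (hx : x ∈ D) (hy : y ∈ D) : x * y * x ∈ D := by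
  have := hD.conj x y hy
  rwa [hD.inv_eq hx] at this

theorem perp_symm {x y : G} (hy : y ∈ perp D x) (hx : x ∈ D) : x ∈ perp D y := ⟨hx, hy.2.1.symm, hy.2.2.symm⟩

theorem perp_conj' (hconj : ∀ g : G, ∀ y ∈ D, g * y * g⁻¹ ∈ D) (g : G) {x y : G} (hy : y ∈ perp D x) :
    g * y * g⁻¹ ∈ perp D (g * x * g⁻¹) :=
  ⟨hconj g y hy.1, fun e => hy.2.1 (mul_left_cancel (mul_right_cancel e)),
    by simpa using hy.2.2.map (MulAut.conj g)⟩

theorem Sys.perp_conj (hD : Sys hS φ D) (g : G) {x y : G} (hy : y ∈ perp D x) :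
    g * y * g⁻¹ ∈ perp D (g * x * g⁻¹) := perp_conj' hD.conj g hy

theorem Sys.perp_closed (hD : Sys hS φ D) {x y z : G} (hx : x ∈ D) (hy : y ∈ perp D x) (hz : z ∈ perp D x) :
    z * y * z ∈ perp D x := by
  have := hD.perp_conj z hy
  rwa [hD.inv_eq hz.1, ← hz.2.2.eq, mul_assoc, (hD.inv z hz.1).1, mul_one] at this

namespace View

variable {x : G} (W : View hS φ D x)
include W

theorem r_one : W.r 1 = 1 := by
  have := W.r_mul 1 1 (Commute.one_right x) (Commute.one_right x)
  rw [one_mul] at this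
  exact mul_eq_left.1 this.symm

theorem r_prod : ∀ l : List G, (∀ a ∈ l, Commute x a) → W.r l.prod = (l.map W.r).prod
  | [], _ => W.r_one
  | a :: t, hl => by
    rw [List.prod_cons, List.map_cons, List.prod_cons,
      W.r_mul a t.prod (hl a (by simp)) (Commute.list_prod_right _ _ fun b hb => hl b (List.mem_cons_of_mem _ hb)),
      r_prod t fun b hb => hl b (List.mem_cons_of_mem _ hb)]

theorem r_self_mul {a : G} (ha : Commute x a) : W.r (x * a) = W.r a := by
  rw [W.r_mul x a (Commute.refl x) ha, W.r_self, one_mul]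

/-- Commuting members are orthogonal points. -/
theorem comm [Finite F] (hker : φ.ker = center H.SIsom) {y z : G} (hy : y ∈ perp D x) (hz : z ∈ perp D x)
    (hyy : y * y = 1) (hzz : z * z = 1) : Commute y z ↔ H.h (W.vec y) (W.vec z) = 0 := by
  rw [← hS.tv_image_commute_iff φ hker (W.vec_iso y hy) (W.vec_iso z hz) (W.vec_ne y hy), ← W.img y hy,
    ← W.img z hz]
  constructor
  · intro h
    show W.r y * W.r z = W.r z * W.r y
    rw [← W.r_mul y z hy.2.2 hz.2.2, ← W.r_mul z y hz.2.2 hy.2.2, h.eq]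
  · intro h
    have h1 : ∀ {a : G}, Commute x a → a * a = 1 → W.r a * W.r a = 1 := fun ha e => by
      rw [← W.r_mul _ _ ha ha, e, W.r_one]
    have h2 := W.lift_sq (y * z) (hy.2.2.mul_right hz.2.2) (by
      rw [W.r_mul y z hy.2.2 hz.2.2, h.symm.mul_mul_mul_comm, h1 hy.2.2 hyy, h1 hz.2.2 hzz, one_mul])
    show y * z = z * y
    calc y * z = (y * z)⁻¹ := eq_inv_of_mul_eq_one_left h2
      _ = z * y := by rw [mul_inv_rev, inv_eq_of_mul_eq_one_right hyy, inv_eq_of_mul_eq_one_right hzz]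

theorem eq_of_smul [Finite F] (hker : φ.ker = center H.SIsom) {y z : G} (hy : y ∈ perp D x) (hz : z ∈ perp D x)
    {a : F} (e : W.vec y = a • W.vec z) : y = z := by
  refine W.inj y hy z hz ?_
  rw [W.img y hy, W.img z hz, hS.tv_image_eq_iff φ hker _ _ (W.vec_ne y hy)]
  exact ⟨a, fun e' => W.vec_ne y hy (by rw [e, e', zero_smul]), e⟩

/-- The rule for the third member. -/
theorem vec_conj [Finite F] (hker : φ.ker = center H.SIsom) {y z : G} (hy : y ∈ perp D x) (hz : z ∈ perp D x)
    (h : z * y * z ∈ perp D x) :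
    ∃ a : F, a ≠ 0 ∧ W.vec (z * y * z) = a • (W.vec y + H.h (W.vec y) (W.vec z) • W.vec z) := by
  have hu : H.h (W.vec y + H.h (W.vec y) (W.vec z) • W.vec z) (W.vec y + H.h (W.vec y) (W.vec z) • W.vec z) = 0 := by
    simp only [H.add_left, H.smul_left, H.add_right, H.smul_right, W.vec_iso y hy, W.vec_iso z hz, mul_zero,
      add_zero, zero_add]
    rw [H.symm (W.vec z) (W.vec y)]
    linear_combination (H.h (W.vec y) (W.vec z) * H.σ (H.h (W.vec y) (W.vec z))) * hS.two
  refine (hS.tv_image_eq_iff φ hker (W.vec_iso _ h) hu (W.vec_ne _ h)).1 ?_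
  rw [← W.img _ h, W.r_mul _ _ (hz.2.2.mul_right hy.2.2) hz.2.2, W.r_mul _ _ hz.2.2 hy.2.2, W.img y hy, W.img z hz,
    ← map_mul, ← map_mul, conj_tv hS _ _ hu]

/-- The product of two noncommuting members. -/
theorem cube [Finite F] (hker : φ.ker = center H.SIsom) {y z : G} (hy : y ∈ perp D x) (hz : z ∈ perp D x)
    (hyy : y * y = 1) (hzz : z * z = 1) (hn : ¬ Commute y z) : (y * z) ^ 3 = 1 ∨ (y * z) ^ 3 = x := by
  have hc := hy.2.2.mul_right hz.2.2
  have hm := fun {a : G} (ha : a ∈ perp D x) => hS.tv_mem (W.vec_iso a ha) (W.vec_ne a ha)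
  refine W.ker _ (hc.pow_right 3) ?_
  rcases hS.cls.1.2 _ (hm hy) _ (hm hz) with h | h
  · refine absurd ?_ hn
    refine (W.comm hker hy hz hyy hzz).2 ((hS.tv_image_commute_iff φ hker (W.vec_iso y hy) (W.vec_iso z hz)
      (W.vec_ne y hy)).1 (Commute.map ?_ φ))
    exact (commute_iff_sq (sq_eq_one hS.cls.1 (hm hy)) (sq_eq_one hS.cls.1 (hm hz))).2 h
  · rw [pow_succ, pow_two, W.r_mul _ _ (hc.mul_right hc) hc, W.r_mul _ _ hc hc, W.r_mul _ _ hy.2.2 hz.2.2,
      W.img y hy, W.img z hz, ← map_mul, ← map_mul, ← map_mul, ← pow_two, ← pow_succ, h, map_one]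

/-- A product of members with trivial image. -/
theorem prod_cases {l : List G} (hl : ∀ a ∈ l, a ∈ perp D x)
    (h : (l.map W.r).prod = 1) : l.prod = 1 ∨ l.prod = x :=
  W.ker _ (Commute.list_prod_right _ _ fun a ha => (hl a ha).2.2)
    (by rw [W.r_prod l fun a ha => (hl a ha).2.2, h])

theorem image_eq_one {l : List G} (hl : ∀ a ∈ l, a ∈ perp D x) (h : l.prod = 1 ∨ l.prod = x) :
    (l.map W.r).prod = 1 := by
  rw [← W.r_prod l fun a ha => (hl a ha).2.2]
  rcases h with h | h <;> rw [h]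
  exacts [W.r_one, W.r_self]

end View

/-- The view at a conjugate. -/
noncomputable def View.mapCore (hconj : ∀ g : G, ∀ y ∈ D, g * y * g⁻¹ ∈ D) {x : G} (W : View hS φ D x) (g : G) : View hS φ D (g * x * g⁻¹) :=
  have hC : ∀ {a : G}, Commute (g * x * g⁻¹) a → Commute x (g⁻¹ * a * g) := fun {a} h => by
    simpa [mul_assoc] using h.map (MulAut.conj g⁻¹)
  have hP : ∀ {a : G}, a ∈ perp D (g * x * g⁻¹) → g⁻¹ * a * g ∈ perp D x := fun {a} h => by
    simpa [mul_assoc] using perp_conj' hconj g⁻¹ h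
  { r := fun a => W.r (g⁻¹ * a * g)
    vec := fun a => W.vec (g⁻¹ * a * g)
    r_mul := fun a b ha hb => by rw [show g⁻¹ * (a * b) * g = g⁻¹ * a * g * (g⁻¹ * b * g) by group, W.r_mul _ _ (hC ha) (hC hb)]
    ker := fun a ha h => by
      rcases W.ker _ (hC ha) h with e | e
      · exact Or.inl (by rw [show a = g * (g⁻¹ * a * g) * g⁻¹ by group, e]; group)
      · exact Or.inr (by rw [show a = g * (g⁻¹ * a * g) * g⁻¹ by group, e])
    r_self := by rw [show g⁻¹ * (g * x * g⁻¹) * g = x by group, W.r_self]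
    lift_sq := fun a ha h => by
      have := W.lift_sq _ (hC ha) h
      rw [show g⁻¹ * a * g * (g⁻¹ * a * g) = g⁻¹ * (a * a) * g by group] at this
      rw [show a * a = g * (g⁻¹ * (a * a) * g) * g⁻¹ by group, this]; group
    vec_ne := fun a ha => W.vec_ne _ (hP ha)
    vec_iso := fun a ha => W.vec_iso _ (hP ha)
    img := fun a ha => W.img _ (hP ha)
    inj := fun a ha b hb e => by
      have := W.inj _ (hP ha) _ (hP hb) e
      simpa using this
    cover := fun v hv hv' => by
      obtain ⟨y, hy, a, ha, e⟩ := W.cover v hv hv'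
      refine ⟨g * y * g⁻¹, perp_conj' hconj g hy, a, ha, ?_⟩
      rw [e, show g⁻¹ * (g * y * g⁻¹) * g = y by group]
    gen := fun a ha => by
      have := Subgroup.mem_map_of_mem (MulAut.conj g).toMonoidHom (W.gen _ (hC ha))
      rw [MonoidHom.map_closure] at this
      refine closure_mono ?_ (by simpa [mul_assoc] using this)
      rintro _ ⟨y, hy, rfl⟩
      simpa using perp_conj' hconj g hy }

end Cfsg.Lib.M22Rec
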